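import Mathlib
import Cfsg.Agent.ClassicalGeometry.HermOrthonormal
import Cfsg.Agent.ClassicalGeometry.PSUAutBasic
import Cfsg.Agent.H94.PrimeGraph

/-!
# Isometries of Hermitian spaces and the prime graph of `PSU n F q` (helper948)

* `toSU` : an isometry of determinant one of an `n`-dimensional nondegenerate Hermitian space over `F` as an element
  of `SU n F q`;
* `adj_of_iso` : commuting isometries `S`, `T` of determinant one, not scalar, `S ^ u` and `T ^ v` scalar for primes
  `u`, `v`: the primes `u`, `v` are adjacent in the prime graph of `PSU n F q`;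
* `det_norm` : determinant of an isometry.
-/

set_option autoImplicit false

namespace Cfsg.Agent.H948.UBase

open Cfsg Cfsg.Agent.LieClassical Cfsg.Agent.LieClassical.HermBasic
  Cfsg.Agent.ClassicalGeometry.HermOrthonormal Cfsg.Agent.LieClassical.HermSiegel
open Cfsg.Agent.ClassicalGeometry.PSUAutBasic (pr pr_eq_one_iff exists_scalar_of_mem_center mem_center_of_act)
open Cfsg.Agent.H94.PG (Adj Conn adj_of_dvd)

variable {F : Type*} [Field F] [Fintype F] {q : ℕ}

/-- the automorphism `x ↦ x ^ q` -/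
def cj (hF : Fintype.card F = q ^ 2) : F →+* F := (conj hF : F →+* F)

@[simp] theorem cj_apply (hF : Fintype.card F = q ^ 2) (x : F) : cj hF x = x ^ q := rfl

theorem cj_cj (hF : Fintype.card F = q ^ 2) (x : F) : cj hF (cj hF x) = x := pow_q_pow_q hF x

theorem cj_ne_id (hF : Fintype.card F = q ^ 2) : cj hF ≠ RingHom.id F := by
  intro h
  have h1 : ∀ x : F, x ^ q = x := fun x => by
    have := RingHom.congr_fun h x
    simpa using this
  have h2 : Nat.card {x : F // x ^ q = x} = Nat.card F :=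
    Nat.card_congr (Equiv.subtypeUnivEquiv h1)
  rw [card_fixed hF, Nat.card_eq_fintype_card, hF] at h2
  have := two_le hF
  nlinarith

variable {V : Type*} [AddCommGroup V] [Module F V]

/-- nondegenerate Hermitian form -/
structure IsHerm (hF : Fintype.card F = q ^ 2) (B : V →ₛₗ[cj hF] V →ₗ[F] F) : Prop where
  symm : B.IsSymm
  sep : B.SeparatingLeft

/-- isometry -/
def Iso {hF : Fintype.card F = q ^ 2} (B : V →ₛₗ[cj hF] V →ₗ[F] F) (T : Module.End F V) : Prop :=
  ∀ x y, B (T x) (T y) = B x y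

theorem Iso.mul {hF : Fintype.card F = q ^ 2} {B : V →ₛₗ[cj hF] V →ₗ[F] F} {S T : Module.End F V}
    (hS : Iso B S) (hT : Iso B T) : Iso B (S * T) := by
  intro x y
  rw [Module.End.mul_apply, Module.End.mul_apply, hS, hT]

theorem Iso.one {hF : Fintype.card F = q ^ 2} {B : V →ₛₗ[cj hF] V →ₗ[F] F} : Iso B 1 := fun _ _ => rfl

theorem Iso.pow {hF : Fintype.card F = q ^ 2} {B : V →ₛₗ[cj hF] V →ₗ[F] F} {S : Module.End F V}
    (hS : Iso B S) (k : ℕ) : Iso B (S ^ k) := by
  induction k with
  | zero => rw [pow_zero]; exact Iso.one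
  | succ k ih => rw [pow_succ]; exact ih.mul hS

section Coord

variable {hF : Fintype.card F = q ^ 2} {n : ℕ}

/-- coordinates with respect to an orthonormal basis -/
theorem exists_coord [FiniteDimensional F V] {B : V →ₛₗ[cj hF] V →ₗ[F] F} (hB : IsHerm hF B)
    (hn : Module.finrank F V = n) :
    ∃ e : V ≃ₗ[F] (Fin n → F), ∀ x y, hermForm n F q (e x) (e y) = B y x := by
  subst hn
  obtain ⟨b, hb⟩ := exists_orthonormal_basis (cj_ne_id hF) (cj_cj hF) B hB.symm hB.sep
  refine ⟨b.equivFun, fun x y => ?_⟩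
  conv_rhs => rw [← b.sum_equivFun x, ← b.sum_equivFun y]
  rw [map_sum, map_sum]
  simp only [LinearMap.sum_apply, LinearMap.map_smulₛₗ, LinearMap.smul_apply, hb, smul_eq_mul, cj_apply,
    RingHom.id_apply]
  simp only [mul_ite, mul_one, mul_zero]
  simp only [Finset.sum_ite_eq', Finset.mem_univ, if_true]
  rfl

/-- the element of `SU n F q` given by an isometry of determinant one -/
noncomputable def toSU (e : V ≃ₗ[F] (Fin n → F)) {B : V →ₛₗ[cj hF] V →ₗ[F] F}
    (he : ∀ x y, hermForm n F q (e x) (e y) = B y x) (T : Module.End F V) (hT : Iso B T)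
    (hd : LinearMap.det T = 1) : SU n F q :=
  ⟨⟨LinearMap.toMatrix' (e.toLinearMap ∘ₗ T ∘ₗ e.symm.toLinearMap), by
      rw [LinearMap.det_toMatrix', LinearMap.det_conj, hd]⟩, by
    refine (SUBasic.mem_SU_iff _).2 fun u v => ?_
    have key : ∀ w : Fin n → F, (LinearMap.toMatrix' (e.toLinearMap ∘ₗ T ∘ₗ e.symm.toLinearMap)).mulVec w
        = e (T (e.symm w)) := by
      intro w
      rw [← Matrix.toLin'_apply, Matrix.toLin'_toMatrix']
      rfl
    show hermForm n F q ((LinearMap.toMatrix' (e.toLinearMap ∘ₗ T ∘ₗ e.symm.toLinearMap)).mulVec u)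
      ((LinearMap.toMatrix' (e.toLinearMap ∘ₗ T ∘ₗ e.symm.toLinearMap)).mulVec v) = _
    rw [key, key, he, hT, ← he, LinearEquiv.apply_symm_apply, LinearEquiv.apply_symm_apply]⟩

theorem act_toSU (e : V ≃ₗ[F] (Fin n → F)) {B : V →ₛₗ[cj hF] V →ₗ[F] F}
    (he : ∀ x y, hermForm n F q (e x) (e y) = B y x) (T : Module.End F V) (hT : Iso B T)
    (hd : LinearMap.det T = 1) (w : Fin n → F) : act (toSU e he T hT hd) w = e (T (e.symm w)) := by
  show (LinearMap.toMatrix' (e.toLinearMap ∘ₗ T ∘ₗ e.symm.toLinearMap)).mulVec w = _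
  rw [← Matrix.toLin'_apply, Matrix.toLin'_toMatrix']
  rfl

theorem toSU_mul (e : V ≃ₗ[F] (Fin n → F)) {B : V →ₛₗ[cj hF] V →ₗ[F] F}
    (he : ∀ x y, hermForm n F q (e x) (e y) = B y x) {S T : Module.End F V} (hS : Iso B S) (hT : Iso B T)
    (hdS : LinearMap.det S = 1) (hd : LinearMap.det T = 1) (hST : Iso B (S * T))
    (hdST : LinearMap.det (S * T) = 1) :
    toSU e he (S * T) hST hdST = toSU e he S hS hdS * toSU e he T hT hd := by
  apply ext_act
  intro v
  rw [act_mul, act_toSU, act_toSU, act_toSU, LinearEquiv.symm_apply_apply]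
  rfl

/-- the map on isometries as a homomorphism from the monoid of isometries of determinant one -/
noncomputable def isoM (B : V →ₛₗ[cj hF] V →ₗ[F] F) : Submonoid (Module.End F V) where
  carrier := {T | Iso B T ∧ LinearMap.det T = 1}
  mul_mem' {S T} hS hT := ⟨hS.1.mul hT.1, by rw [map_mul, hS.2, hT.2, one_mul]⟩
  one_mem' := ⟨Iso.one, map_one _⟩

/-- isometries of determinant one to `SU` -/
noncomputable def suHom (e : V ≃ₗ[F] (Fin n → F)) {B : V →ₛₗ[cj hF] V →ₗ[F] F}
    (he : ∀ x y, hermForm n F q (e x) (e y) = B y x) : isoM B →* SU n F q where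
  toFun T := toSU e he T.1 T.2.1 T.2.2
  map_one' := by
    apply ext_act
    intro v
    rw [act_toSU, act_one]
    show e ((1 : Module.End F V) _) = v
    simp
  map_mul' S T := toSU_mul e he S.2.1 T.2.1 S.2.2 T.2.2 _ _

/-- scalar endomorphism -/
def IsScal (T : Module.End F V) : Prop := ∃ c : F, ∀ x, T x = c • x

theorem pr_suHom_eq_one_iff (hn : 3 ≤ n) (e : V ≃ₗ[F] (Fin n → F)) {B : V →ₛₗ[cj hF] V →ₗ[F] F}
    (he : ∀ x y, hermForm n F q (e x) (e y) = B y x) (T : isoM B) :
    pr n F q (suHom e he T) = 1 ↔ IsScal (T : Module.End F V) := by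
  rw [pr_eq_one_iff]
  constructor
  · intro h
    obtain ⟨c, -, -, hc⟩ := exists_scalar_of_mem_center hF hn h
    refine ⟨c, fun x => ?_⟩
    have h1 := hc (e x)
    change act (toSU e he T.1 T.2.1 T.2.2) (e x) = _ at h1
    rw [act_toSU, LinearEquiv.symm_apply_apply, ← map_smul] at h1
    exact e.injective h1
  · rintro ⟨c, hc⟩
    apply mem_center_of_act (c := c)
    intro v
    change act (toSU e he T.1 T.2.1 T.2.2) v = _
    rw [act_toSU, hc, map_smul, LinearEquiv.apply_symm_apply]

/-- **commuting isometries give adjacent primes** -/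
theorem adj_of_iso [FiniteDimensional F V] {B : V →ₛₗ[cj hF] V →ₗ[F] F} (hB : IsHerm hF B)
    (hn : Module.finrank F V = n) (hn3 : 3 ≤ n) {u v : ℕ} (hu : u.Prime) (hv : v.Prime)
    {S T : Module.End F V} (hS : Iso B S) (hT : Iso B T) (hdS : LinearMap.det S = 1)
    (hdT : LinearMap.det T = 1) (hST : Commute S T) (hSs : ¬ IsScal S) (hTs : ¬ IsScal T)
    (hSu : IsScal (S ^ u)) (hTv : IsScal (T ^ v)) (huv : u ≠ v) : Adj (PSU n F q) u v := by
  obtain ⟨e, he⟩ := exists_coord hB hn
  have key : ∀ (w : ℕ) (_ : w.Prime) (R : isoM B) (_ : ¬ IsScal (R : Module.End F V))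
      (_ : IsScal ((R : Module.End F V) ^ w)), orderOf (pr n F q (suHom e he R)) = w := by
    intro w hw R hR hRw
    have := Fact.mk hw
    apply orderOf_eq_prime
    · rw [← map_pow, ← map_pow, pr_suHom_eq_one_iff hn3]
      exact hRw
    · rw [Ne, pr_suHom_eq_one_iff hn3]
      exact hR
  have h1 := key u hu ⟨S, hS, hdS⟩ hSs hSu
  have h2 := key v hv ⟨T, hT, hdT⟩ hTs hTv
  have hc : Commute (pr n F q (suHom e he ⟨S, hS, hdS⟩)) (pr n F q (suHom e he ⟨T, hT, hdT⟩)) := by
    have : Commute (⟨S, hS, hdS⟩ : isoM B) ⟨T, hT, hdT⟩ := Subtype.ext hST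
    exact (this.map (suHom e he)).map (pr n F q)
  exact adj_of_dvd hu hv huv hc (by rw [h1]) (by rw [h2]) (by rw [h1]; exact hu.ne_zero)
    (by rw [h2]; exact hv.ne_zero)

/-- from an element of `SU` to an isometry -/
theorem exists_iso_of_mem [FiniteDimensional F V] {B : V →ₛₗ[cj hF] V →ₗ[F] F} (hB : IsHerm hF B)
    (hn : Module.finrank F V = n) {u : ℕ} (hu : u.Prime) (hd : u ∣ Nat.card (SU n F q)) :
    ∃ T : Module.End F V, Iso B T ∧ LinearMap.det T = 1 ∧ T ^ u = 1 ∧ T ≠ 1 := by
  obtain ⟨e, he⟩ := exists_coord hB hn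
  have := Fact.mk hu
  obtain ⟨g, hg⟩ := exists_prime_orderOf_dvd_card' u hd
  have hm : ∀ k : ℕ, (Matrix.toLin' (mat g)) ^ k = Matrix.toLin' (mat (g ^ k)) := by
    intro k
    induction k with
    | zero => rw [pow_zero, pow_zero, mat_one, Matrix.toLin'_one]; rfl
    | succ k ih => rw [pow_succ, pow_succ, ih, mat_mul, Matrix.toLin'_mul]; rfl
  have hpow : ∀ k : ℕ, (e.symm.toLinearMap ∘ₗ Matrix.toLin' (mat g) ∘ₗ e.toLinearMap : Module.End F V) ^ k =
      e.symm.toLinearMap ∘ₗ Matrix.toLin' (mat (g ^ k)) ∘ₗ e.toLinearMap := by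
    intro k
    rw [← hm]
    induction k with
    | zero => ext x; simp
    | succ k ih =>
      rw [pow_succ, ih, pow_succ]
      ext x
      simp
  refine ⟨e.symm.toLinearMap ∘ₗ Matrix.toLin' (mat g) ∘ₗ e.toLinearMap, ?_, ?_, ?_, ?_⟩
  · intro x y
    show B (e.symm (Matrix.toLin' (mat g) (e x))) (e.symm (Matrix.toLin' (mat g) (e y))) = _
    rw [← he, LinearEquiv.apply_symm_apply, LinearEquiv.apply_symm_apply, Matrix.toLin'_apply,
      Matrix.toLin'_apply]
    have h1 := g.2
    rw [SUBasic.mem_SU_iff] at h1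
    have h2 := h1 (e y) (e x)
    change hermForm n F q ((mat g).mulVec (e y)) ((mat g).mulVec (e x)) = _ at h2
    rw [h2, he]
  · have h1 := LinearMap.det_conj (Matrix.toLin' (mat g)) e.symm
    rw [LinearEquiv.symm_symm] at h1
    rw [h1, LinearMap.det_toLin']
    exact g.1.2
  · rw [hpow, ← hg, pow_orderOf_eq_one, mat_one, Matrix.toLin'_one]
    ext x
    simp
  · intro h1
    have h2 : g = 1 := by
      apply ext_act
      intro v
      rw [act_one]
      have h3 := LinearMap.congr_fun h1 (e.symm v)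
      change e.symm (Matrix.toLin' (mat g) (e (e.symm v))) = e.symm v at h3
      rw [LinearEquiv.apply_symm_apply] at h3
      exact e.symm.injective h3
    rw [h2, orderOf_one] at hg
    exact hu.one_lt.ne hg

/-- the determinant of an isometry has norm one -/
theorem det_norm [FiniteDimensional F V] {B : V →ₛₗ[cj hF] V →ₗ[F] F} (hB : IsHerm hF B)
    {T : Module.End F V} (hT : Iso B T) : LinearMap.det T ^ (q + 1) = 1 := by
  obtain ⟨b, hb⟩ := exists_orthonormal_basis (cj_ne_id hF) (cj_cj hF) B hB.symm hB.sep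
  set M := LinearMap.toMatrix b b T with hM
  have h1 : (M.map (cj hF)).transpose * M = 1 := by
    ext i j
    rw [Matrix.mul_apply, Matrix.one_apply, ← hb i j, ← hT]
    conv_rhs => rw [← b.sum_repr (T (b i)), ← b.sum_repr (T (b j))]
    rw [map_sum, map_sum]
    simp only [LinearMap.sum_apply, LinearMap.map_smulₛₗ, LinearMap.smul_apply, hb, smul_eq_mul,
      RingHom.id_apply]
    simp only [mul_ite, mul_one, mul_zero, Finset.sum_ite_eq', Finset.mem_univ, if_true]
    apply Finset.sum_congr rfl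
    intro k _
    rw [Matrix.transpose_apply, Matrix.map_apply, hM, LinearMap.toMatrix_apply, LinearMap.toMatrix_apply,
      mul_comm]
  have h2 := congrArg Matrix.det h1
  rw [Matrix.det_mul, Matrix.det_transpose, Matrix.det_one] at h2
  have h3 : (M.map (cj hF)).det = M.det ^ q := by
    have := (cj hF).map_det M
    rw [cj_apply] at this
    rw [this]
    rfl
  rw [h3, ← pow_succ, hM, LinearMap.det_toMatrix] at h2
  exact h2

end Coord

end Cfsg.Agent.H948.UBase
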