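import Mathlib
import Cfsg.Agent.H948.UBase
import Cfsg.Agent.S0278
import Cfsg.Agent.S0280

/-!
# Orthogonal sums, and primes of the prime graph of `PSU n F q` connected to 2 (helper948)

`ph q i = q ^ (i+1) - (-1) ^ (i+1)`.

* `adj_two_of_block` : `u ∣ |SU_m(q)|`, `m + 2 ≤ n` ⇒ `u` is connected to `2`;
* `adj_two_of_odd` : `q` odd, `n ≥ 3`, `u ∣ |SU_2(q)|` odd ⇒ `u` is connected to `2`.
-/

set_option autoImplicit false
set_option linter.unusedSectionVars false

namespace Cfsg.Agent.H948.UProd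

open Cfsg Cfsg.Agent.LieClassical Cfsg.Agent.LieClassical.HermBasic Cfsg.Agent.H948.UBase
open Cfsg.Agent.H94.PG (Adj)

variable {F : Type*} [Field F] [Fintype F] {q : ℕ} {hF : Fintype.card F = q ^ 2}
variable {V : Type*} [AddCommGroup V] [Module F V] {W : Type*} [AddCommGroup W] [Module F W]

/-- the form `x̄ y` on `F` -/
def oneForm (hF : Fintype.card F = q ^ 2) : F →ₛₗ[cj hF] F →ₗ[F] F :=
  LinearMap.mk₂'ₛₗ (cj hF) (RingHom.id F) (fun x y => x ^ q * y)
    (fun x y z => by rw [add_pow_q hF, add_mul]) (fun c x y => by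
      rw [smul_eq_mul, mul_pow, smul_eq_mul, cj_apply, mul_assoc])
    (fun x y z => by rw [mul_add]) (fun c x y => by
      rw [smul_eq_mul, smul_eq_mul, RingHom.id_apply]; ring)

@[simp] theorem oneForm_apply (x y : F) : oneForm hF x y = x ^ q * y := rfl

theorem isHerm_one : IsHerm hF (oneForm hF) where
  symm := ⟨fun x y => by
    rw [cj_apply, oneForm_apply, oneForm_apply, mul_pow, pow_q_pow_q hF, mul_comm]⟩
  sep := fun x h => by
    have := h 1
    rw [oneForm_apply, mul_one, pow_q_eq_zero hF] at this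
    exact this

/-- orthogonal sum -/
def prodForm (B : V →ₛₗ[cj hF] V →ₗ[F] F) (C : W →ₛₗ[cj hF] W →ₗ[F] F) :
    (V × W) →ₛₗ[cj hF] (V × W) →ₗ[F] F :=
  LinearMap.mk₂'ₛₗ (cj hF) (RingHom.id F) (fun x y => B x.1 y.1 + C x.2 y.2)
    (fun x y z => by simp only [Prod.fst_add, Prod.snd_add, map_add, LinearMap.add_apply]; abel)
    (fun c x y => by
      simp only [Prod.smul_fst, Prod.smul_snd, LinearMap.map_smulₛₗ, LinearMap.smul_apply, smul_add])
    (fun x y z => by simp only [Prod.fst_add, Prod.snd_add, map_add]; abel)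
    (fun c x y => by
      simp only [Prod.smul_fst, Prod.smul_snd, map_smul, smul_add, RingHom.id_apply])

@[simp] theorem prodForm_apply (B : V →ₛₗ[cj hF] V →ₗ[F] F) (C : W →ₛₗ[cj hF] W →ₗ[F] F) (x y : V × W) :
    prodForm B C x y = B x.1 y.1 + C x.2 y.2 := rfl

theorem isHerm_prod {B : V →ₛₗ[cj hF] V →ₗ[F] F} {C : W →ₛₗ[cj hF] W →ₗ[F] F} (hB : IsHerm hF B)
    (hC : IsHerm hF C) : IsHerm hF (prodForm B C) where
  symm := ⟨fun x y => by
    rw [prodForm_apply, prodForm_apply, map_add, hB.symm.eq, hC.symm.eq]⟩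
  sep := fun x h => by
    apply Prod.ext
    · apply hB.sep
      intro y
      have := h (y, 0)
      simpa using this
    · apply hC.sep
      intro y
      have := h (0, y)
      simpa using this

theorem iso_prod {B : V →ₛₗ[cj hF] V →ₗ[F] F} {C : W →ₛₗ[cj hF] W →ₗ[F] F} {S : Module.End F V}
    {T : Module.End F W} (hS : Iso B S) (hT : Iso C T) : Iso (prodForm B C) (S.prodMap T) := by
  intro x y
  rw [prodForm_apply, prodForm_apply, LinearMap.prodMap_apply, LinearMap.prodMap_apply, hS, hT]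

theorem det_prod [FiniteDimensional F V] [FiniteDimensional F W] (S : Module.End F V) (T : Module.End F W) :
    LinearMap.det (S.prodMap T) = LinearMap.det S * LinearMap.det T := LinearMap.det_prodMap S T

theorem prodMap_pow (S : Module.End F V) (T : Module.End F W) (k : ℕ) :
    (S.prodMap T) ^ k = (S ^ k).prodMap (T ^ k) := by
  induction k with
  | zero => ext <;> simp
  | succ k ih => rw [pow_succ, ih, pow_succ, pow_succ, LinearMap.prodMap_mul]

theorem commute_prod {S S' : Module.End F V} {T T' : Module.End F W} (h : Commute S S') (h' : Commute T T') :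
    Commute (S.prodMap T) (S'.prodMap T') := by
  show _ * _ = _ * _
  rw [LinearMap.prodMap_mul, LinearMap.prodMap_mul, h.eq, h'.eq]

/-- Hermitian spaces of every dimension -/
theorem exists_space (hF : Fintype.card F = q ^ 2) (m : ℕ) :
    ∃ B : (Fin m → F) →ₛₗ[cj hF] (Fin m → F) →ₗ[F] F, IsHerm hF B := by
  refine ⟨LinearMap.mk₂'ₛₗ (cj hF) (RingHom.id F) (fun x y => ∑ i, x i ^ q * y i) ?_ ?_ ?_ ?_, ?_, ?_⟩
  · intro x y z
    rw [← Finset.sum_add_distrib]
    exact Finset.sum_congr rfl fun i _ => by rw [Pi.add_apply, add_pow_q hF, add_mul]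
  · intro c x y
    rw [smul_eq_mul, Finset.mul_sum]
    exact Finset.sum_congr rfl fun i _ => by rw [Pi.smul_apply, smul_eq_mul, mul_pow, cj_apply, mul_assoc]
  · intro x y z
    rw [← Finset.sum_add_distrib]
    exact Finset.sum_congr rfl fun i _ => by rw [Pi.add_apply, mul_add]
  · intro c x y
    rw [smul_eq_mul, Finset.mul_sum]
    exact Finset.sum_congr rfl fun i _ => by rw [Pi.smul_apply, smul_eq_mul, RingHom.id_apply]; ring
  · refine ⟨fun x y => ?_⟩
    show cj hF (∑ i, x i ^ q * y i) = ∑ i, y i ^ q * x i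
    rw [map_sum]
    exact Finset.sum_congr rfl fun i _ => by rw [cj_apply, mul_pow, pow_q_pow_q hF, mul_comm]
  · intro x h
    funext i
    have h1 : ∑ j, x j ^ q * (Pi.single i 1 : Fin m → F) j = 0 := h (Pi.single i 1)
    rw [Finset.sum_eq_single i] at h1
    · rw [Pi.single_eq_same, mul_one, pow_q_eq_zero hF] at h1
      exact h1
    · intro j _ hj
      rw [Pi.single_eq_of_ne hj, mul_zero]
    · intro h2
      exact absurd (Finset.mem_univ i) h2

theorem two_ne_one_of_odd (hF : Fintype.card F = q ^ 2) (hq : Odd q) : (-1 : F) ≠ 1 := by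
  intro h
  have h2 : (2 : F) = 0 := by
    have : (1 : F) + 1 = 0 := by nth_rewrite 1 [← h]; ring
    rwa [one_add_one_eq_two] at this
  have h3 : ringChar F = 2 := by
    have h4 : ringChar F ∣ 2 := (ringChar.spec F 2).1 (by exact_mod_cast h2)
    rcases (Nat.dvd_prime Nat.prime_two).1 h4 with h5 | h5
    · exact absurd h5 (CharP.ringChar_ne_one)
    · exact h5
  have : CharP F 2 := by rw [← h3]; infer_instance
  have h6 : 2 ∣ Fintype.card F := by
    rw [← CharP.cast_eq_zero_iff F 2, FiniteField.cast_card_eq_zero]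
  rw [hF] at h6
  exact (Nat.not_even_iff_odd.2 hq) (even_iff_two_dvd.2 (Nat.prime_two.dvd_of_dvd_pow h6))

theorem neg_one_eq_of_even (hF : Fintype.card F = q ^ 2) (hq : Even q) : (-1 : F) = 1 := by
  have h0 : ((q : ℕ) : F) = 0 := by
    have := FiniteField.cast_card_eq_zero F
    rw [hF, Nat.cast_pow] at this
    exact (pow_eq_zero_iff two_ne_zero).1 this
  obtain ⟨p, k, hp, hchar, hk, hk0⟩ := exists_prime_pow hF
  have hp2 : p = 2 := by
    rw [hk] at hq
    have := (Nat.prime_two.dvd_of_dvd_pow (even_iff_two_dvd.1 hq))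
    exact ((Nat.prime_dvd_prime_iff_eq Nat.prime_two hp).1 this).symm
  subst hp2
  exact CharTwo.neg_eq 1

/-- a nontrivial involutory isometry of determinant one of a plane -/
theorem exists_invol (hF : Fintype.card F = q ^ 2) :
    ∃ T : Module.End F (F × F), Iso (prodForm (oneForm hF) (oneForm hF)) T ∧ LinearMap.det T = 1 ∧
      T * T = 1 ∧ T ≠ 1 := by
  rcases Nat.even_or_odd q with hq | hq
  · refine ⟨(LinearMap.snd F F F).prod (LinearMap.fst F F F), ?_, ?_, ?_, ?_⟩
    · intro x y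
      show x.2 ^ q * y.2 + x.1 ^ q * y.1 = x.1 ^ q * y.1 + x.2 ^ q * y.2
      rw [add_comm]
    · set T : Module.End F (F × F) := (LinearMap.snd F F F).prod (LinearMap.fst F F F) with hT
      have h1 : T * T = 1 := by ext <;> rfl
      have h2 : LinearMap.det T * LinearMap.det T = 1 := by rw [← map_mul, h1, map_one]
      rcases mul_self_eq_one_iff.1 h2 with h | h
      · exact h
      · rw [h, neg_one_eq_of_even hF hq]
    · ext <;> rfl
    · intro h
      have := LinearMap.congr_fun h (1, 0)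
      simp at this
  · refine ⟨(-1 : F) • (1 : Module.End F (F × F)), ?_, ?_, ?_, ?_⟩
    · intro x y
      simp only [LinearMap.smul_apply, Module.End.one_apply, prodForm_apply, oneForm_apply, Prod.smul_fst,
        Prod.smul_snd, smul_eq_mul, mul_pow, neg_pow_q hF, one_pow]
      ring
    · rw [LinearMap.det_smul, map_one, Module.finrank_prod, Module.finrank_self]
      norm_num
    · rw [smul_mul_smul_comm, one_mul]
      norm_num
    · intro h
      have := LinearMap.congr_fun h (1, 0)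
      simp only [LinearMap.smul_apply, Module.End.one_apply, Prod.smul_mk, smul_eq_mul, mul_one, mul_zero,
        Prod.mk.injEq, and_true] at this
      exact two_ne_one_of_odd hF hq this

theorem IsScal.eq_one {T : Module.End F V} (h : IsScal T) {x : V} (hx : x ≠ 0) (hTx : T x = x) : T = 1 := by
  obtain ⟨c, hc⟩ := h
  have h1 : c = 1 := by
    have h2 := hc x
    rw [hTx] at h2
    have h3 : (c - 1) • x = 0 := by rw [sub_smul, one_smul, ← h2, sub_self]
    rcases smul_eq_zero.1 h3 with h4 | h4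
    · exact sub_eq_zero.1 h4
    · exact absurd h4 hx
  ext y
  rw [hc, h1, one_smul, Module.End.one_apply]

theorem prodMap_one_ne {S : Module.End F V} (h : S ≠ 1) :
    (S.prodMap (1 : Module.End F W)) ≠ 1 := by
  intro h1
  apply h
  refine LinearMap.ext fun x => ?_
  have := congrArg Prod.fst (LinearMap.congr_fun h1 (x, 0))
  simpa using this

theorem one_prodMap_ne {T : Module.End F W} (h : T ≠ 1) :
    (LinearMap.prodMap (1 : Module.End F V) T) ≠ 1 := by
  intro h1
  apply h
  refine LinearMap.ext fun x => ?_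
  have := congrArg Prod.snd (LinearMap.congr_fun h1 (0, x))
  simpa using this

theorem not_isScal_of {T : Module.End F V} (h : T ≠ 1) {x : V} (hx : x ≠ 0) (hTx : T x = x) : ¬ IsScal T :=
  fun h1 => h (IsScal.eq_one h1 hx hTx)

theorem isScal_one : IsScal (1 : Module.End F V) := ⟨1, fun x => by rw [Module.End.one_apply, one_smul]⟩

/-- **block** : `u ∣ |SU_m(q)|`, `m + 2 ≤ n`, `m ≥ 1` -/
theorem adj_two_of_block (hF : Fintype.card F = q ^ 2) {m n : ℕ} (hm : 1 ≤ m) (hmn : m + 2 ≤ n) {u : ℕ}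
    (hu : u.Prime) (hu2 : u ≠ 2) (hd : u ∣ Nat.card (SU m F q)) : Adj (PSU n F q) u 2 := by
  obtain ⟨B, hB⟩ := exists_space hF m
  obtain ⟨C, hC⟩ := exists_space hF (n - m - 2)
  obtain ⟨S, hS, hdS, hSu, hS1⟩ := exists_iso_of_mem hB (by rw [Module.finrank_fin_fun]) hu hd
  obtain ⟨T, hT, hdT, hT2, hT1⟩ := exists_invol hF
  have hD : IsHerm hF (prodForm B (prodForm (prodForm (oneForm hF) (oneForm hF)) C)) :=
    isHerm_prod hB (isHerm_prod (isHerm_prod isHerm_one isHerm_one) hC)
  refine adj_of_iso hD ?_ (by omega) hu Nat.prime_two (S := S.prodMap 1) (T := LinearMap.prodMap 1 (T.prodMap 1))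
    (iso_prod hS Iso.one) (iso_prod Iso.one (iso_prod hT Iso.one)) ?_ ?_ ?_ ?_ ?_ ?_ ?_ hu2
  · rw [Module.finrank_prod, Module.finrank_prod, Module.finrank_prod, Module.finrank_fin_fun,
      Module.finrank_fin_fun, Module.finrank_self]
    omega
  · rw [det_prod, hdS, map_one, one_mul]
  · rw [det_prod, det_prod, hdT, map_one, map_one, one_mul, one_mul]
  · exact commute_prod (Commute.one_right _) (Commute.one_left _)
  · exact not_isScal_of (prodMap_one_ne hS1)
      (x := ((0 : Fin m → F), (((1 : F), (0 : F)), (0 : Fin (n - m - 2) → F)))) (by simp) (by simp)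
  · have hne : (fun _ => 1 : Fin m → F) ≠ 0 := by
      intro h0
      have := congrFun h0 ⟨0, by omega⟩
      simp at this
    exact not_isScal_of (one_prodMap_ne (prodMap_one_ne hT1))
      (x := ((fun _ => 1 : Fin m → F), (((0 : F), (0 : F)), (0 : Fin (n - m - 2) → F))))
      (by intro h0; exact hne (congrArg Prod.fst h0)) (by simp only [LinearMap.prodMap_apply, Module.End.one_apply, Prod.mk.injEq, true_and, and_true]; exact map_zero T)
  · rw [prodMap_pow, hSu, one_pow]
    refine ⟨1, fun x => ?_⟩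
    simp
  · rw [prodMap_pow, prodMap_pow, one_pow, one_pow, pow_two, hT2]
    refine ⟨1, fun x => ?_⟩
    simp

/-- `q` odd, `n ≥ 3`: the primes dividing `|SU_2(q)|` are connected to 2 -/
theorem adj_two_of_odd (hF : Fintype.card F = q ^ 2) (hq : Odd q) {n : ℕ} (hn : 3 ≤ n) {u : ℕ}
    (hu : u.Prime) (hu2 : u ≠ 2) (hd : u ∣ Nat.card (SU 2 F q)) : Adj (PSU n F q) u 2 := by
  obtain ⟨B, hB⟩ := exists_space hF 2
  obtain ⟨C, hC⟩ := exists_space hF (n - 2)
  obtain ⟨S, hS, hdS, hSu, hS1⟩ := exists_iso_of_mem hB (by rw [Module.finrank_fin_fun]) hu hd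
  have hD : IsHerm hF (prodForm B C) := isHerm_prod hB hC
  have hne : (fun _ => 1 : Fin (n - 2) → F) ≠ 0 := by
    intro h0
    have := congrFun h0 ⟨0, by omega⟩
    simp at this
  have hneg : ((-1 : F) • (1 : Module.End F (Fin 2 → F))) ≠ 1 := by
    intro h
    have := congrFun (LinearMap.congr_fun h (fun _ => 1)) 0
    simp only [LinearMap.smul_apply, Module.End.one_apply, Pi.smul_apply, smul_eq_mul, mul_one] at this
    exact two_ne_one_of_odd hF hq this
  have hIso : Iso B ((-1 : F) • (1 : Module.End F (Fin 2 → F))) := by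
    intro x y
    simp only [LinearMap.smul_apply, Module.End.one_apply, LinearMap.map_smulₛₗ, cj_apply, neg_pow_q hF, one_pow,
      RingHom.id_apply, smul_eq_mul]
    ring
  refine adj_of_iso hD ?_ (by omega) hu Nat.prime_two (S := S.prodMap 1)
    (T := LinearMap.prodMap ((-1 : F) • (1 : Module.End F (Fin 2 → F))) 1)
    (iso_prod hS Iso.one) (iso_prod hIso Iso.one) ?_ ?_ ?_ ?_ ?_ ?_ ?_ hu2
  · rw [Module.finrank_prod, Module.finrank_fin_fun, Module.finrank_fin_fun]
    omega
  · rw [det_prod, hdS, map_one, one_mul]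
  · rw [det_prod, LinearMap.det_smul, map_one, map_one, Module.finrank_fin_fun]
    norm_num
  · exact commute_prod ((Commute.one_right S).smul_right _) (Commute.one_left _)
  · exact not_isScal_of (prodMap_one_ne hS1) (x := ((0 : Fin 2 → F), (fun _ => 1 : Fin (n - 2) → F)))
      (by intro h0; exact hne (congrArg Prod.snd h0)) (by simp)
  · exact not_isScal_of (prodMap_one_ne hneg) (x := ((0 : Fin 2 → F), (fun _ => 1 : Fin (n - 2) → F)))
      (by intro h0; exact hne (congrArg Prod.snd h0)) (by simp)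
  · rw [prodMap_pow, hSu, one_pow]
    refine ⟨1, fun x => ?_⟩
    simp
  · refine ⟨1, fun x => ?_⟩
    rw [prodMap_pow, one_pow, pow_two, smul_mul_smul_comm]
    simp

/-- `ph q i = q ^ (i+1) - (-1) ^ (i+1)` -/
def ph (q i : ℕ) : ℕ := if Even i then q ^ (i + 1) + 1 else q ^ (i + 1) - 1

theorem card_SU (hF : Fintype.card F = q ^ 2) {n : ℕ} (hn : 1 ≤ n) :
    Nat.card (SU n F q) = q ^ (n * (n - 1) / 2) * ∏ i ∈ Finset.range (n - 1), ph q (i + 1) := by
  have h1 := Cfsg.Agent.S0278.result hF n hn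
  obtain ⟨m, rfl⟩ : ∃ m, n = m + 1 := ⟨n - 1, by omega⟩
  rw [Finset.prod_range_succ'] at h1
  have h2 : (if Even 0 then q ^ (0 + 1) + 1 else q ^ (0 + 1) - 1) = q + 1 := by simp
  rw [h2] at h1
  have h3 : (q + 1) * Nat.card (SU (m + 1) F q) = (q + 1) * (q ^ ((m + 1) * (m + 1 - 1) / 2) *
      ∏ i ∈ Finset.range m, ph q (i + 1)) := by
    rw [h1]; unfold ph; ring
  exact Nat.eq_of_mul_eq_mul_left (by omega) h3

theorem dvd_card_SU (hF : Fintype.card F = q ^ 2) {m i u : ℕ} (hm : 2 ≤ m) (hi : i < m)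
    (hd : u ∣ ph q i) : u ∣ Nat.card (SU m F q) := by
  rw [card_SU hF (by omega)]
  apply Dvd.dvd.mul_left
  rcases Nat.eq_zero_or_pos i with h0 | h0
  · subst h0
    have h1 : ph q 1 ∣ ∏ i ∈ Finset.range (m - 1), ph q (i + 1) :=
      Finset.dvd_prod_of_mem (fun i => ph q (i + 1)) (Finset.mem_range.2 (by omega : 0 < m - 1))
    refine dvd_trans (dvd_trans hd ?_) h1
    unfold ph
    have h2 : q ^ (1 + 1) - 1 = (q ^ (0 + 1) + 1) * (q - 1) := by
      have := two_le hF
      obtain ⟨r, rfl⟩ : ∃ r, q = r + 1 := ⟨q - 1, by omega⟩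
      rw [Nat.add_sub_cancel]
      have : (r + 1) ^ (1 + 1) = ((r + 1) ^ (0 + 1) + 1) * r + 1 := by ring
      omega
    rw [if_pos (by decide), if_neg (by decide)] 
    rw [h2]
    exact dvd_mul_right _ _
  · refine dvd_trans hd ?_
    have h1 : ph q ((i - 1) + 1) ∣ ∏ i ∈ Finset.range (m - 1), ph q (i + 1) :=
      Finset.dvd_prod_of_mem (fun i => ph q (i + 1)) (Finset.mem_range.2 (by omega : i - 1 < m - 1))
    rwa [Nat.sub_add_cancel h0] at h1

/-- the prime divisors of `|PSU_n(q)|` -/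
theorem prime_dvd_card_PSU (hF : Fintype.card F = q ^ 2) {n u : ℕ} (hn : 2 ≤ n) (hu : u.Prime)
    (hd : u ∣ Nat.card (PSU n F q)) : u ∣ q ∨ ∃ i, i < n ∧ u ∣ ph q i := by
  have h1 : u ∣ Nat.card (SU n F q) := by
    refine dvd_trans hd ?_
    exact Subgroup.card_quotient_dvd_card _
  rw [card_SU hF (by omega)] at h1
  rcases (Nat.Prime.dvd_mul hu).1 h1 with h2 | h2
  · exact Or.inl (hu.dvd_of_dvd_pow h2)
  · rw [Prime.dvd_finsetProd_iff hu.prime] at h2
    obtain ⟨i, hi, hi2⟩ := h2
    rw [Finset.mem_range] at hi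
    exact Or.inr ⟨i + 1, by omega, hi2⟩

end Cfsg.Agent.H948.UProd
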