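import Mathlib
import Cfsg.Agent.H948.UProd

/-!
# Cyclic tori of unitary groups (helper948)

`exists_torus` : for `m ≥ 1` there is an `m`-dimensional nondegenerate Hermitian space with a cyclic group of
isometries of order `q ^ m - (-1) ^ m` containing the scalars of norm one; for `m` even it contains, for `c` in the
subfield of order `q`, an element of determinant 1 which is scalar only if `c ^ 2 = 1`.
-/

set_option autoImplicit false
set_option linter.unusedSectionVars false

namespace Cfsg.Agent.H948.UTorus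

open Cfsg Cfsg.Agent.LieClassical Cfsg.Agent.LieClassical.HermBasic Cfsg.Agent.H948.UBase Cfsg.Agent.H948.UProd

variable {F : Type*} [Field F] [Fintype F] {q : ℕ} {hF : Fintype.card F = q ^ 2}

theorem pow_odd (hF : Fintype.card F = q ^ 2) (c : F) {e : ℕ} (he : Odd e) : c ^ q ^ e = c ^ q := by
  obtain ⟨k, rfl⟩ := he
  rw [pow_succ, pow_mul, pow_mul, ← hF]
  congr 1
  induction k with
  | zero => simp
  | succ k ih => rw [pow_succ, pow_mul, ih, FiniteField.pow_card]

section Tr

variable {K : Type*} [Field K] [Finite K] [Algebra F K]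

theorem add_pow_qe (hF : Fintype.card F = q ^ 2) (e : ℕ) (x y : K) :
    (x + y) ^ q ^ e = x ^ q ^ e + y ^ q ^ e := by
  obtain ⟨p, k, hp, hchar, hk, -⟩ := exists_prime_pow hF
  have := Fact.mk hp
  have : CharP K p := charP_of_injective_algebraMap (algebraMap F K).injective p
  rw [hk, ← pow_mul]
  exact add_pow_char_pow x y p (k * e)

theorem trace_pow (hF : Fintype.card F = q ^ 2) (e : ℕ) (z : K) :
    (Algebra.trace F K z) ^ q ^ e = Algebra.trace F K (z ^ q ^ e) := by
  apply (algebraMap F K).injective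
  rw [map_pow, FiniteField.algebraMap_trace_eq_sum_pow, FiniteField.algebraMap_trace_eq_sum_pow]
  have h : ∀ (s : Finset ℕ) (f : ℕ → K), (∑ i ∈ s, f i) ^ q ^ e = ∑ i ∈ s, f i ^ q ^ e := by
    intro s f
    classical
    induction s using Finset.induction_on with
    | empty => simp [(q_pos hF).ne']
    | insert a s ha ih => rw [Finset.sum_insert ha, Finset.sum_insert ha, add_pow_qe hF, ih]
  rw [h]
  exact Finset.sum_congr rfl fun i _ => by rw [← pow_mul, ← pow_mul, mul_comm]

theorem trace_odd (hF : Fintype.card F = q ^ 2) {e : ℕ} (he : Odd e) (z : K) :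
    cj hF (Algebra.trace F K z) = Algebra.trace F K (z ^ q ^ e) := by
  rw [← trace_pow hF, cj_apply, pow_odd hF _ he]

theorem eq_zero_of_trace {x : K} (h : ∀ y : K, Algebra.trace F K (x * y) = 0) : x = 0 :=
  (traceForm_nondegenerate F K).1 x h

end Tr

/-- the data -/
structure Tor (hF : Fintype.card F = q ^ 2) (m : ℕ) where
  V : Type
  [ab : AddCommGroup V]
  [mod : Module F V]
  [fd : FiniteDimensional F V]
  B : V →ₛₗ[cj hF] V →ₗ[F] F
  herm : IsHerm hF B
  dim : Module.finrank F V = m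
  C : Type
  [gr : CommGroup C]
  [cyc : IsCyclic C]
  card : Nat.card C = ph q (m - 1)
  ρ : C →* Module.End F V
  iso : ∀ z, Iso B (ρ z)
  inj : Function.Injective ρ
  scal : ∀ c : F, c ^ (q + 1) = 1 → ∃ z, ρ z = c • (1 : Module.End F V)
  spl : Even m → ∀ c : F, c ^ (q - 1) = 1 → ∃ z, LinearMap.det (ρ z) = 1 ∧ z ^ (q - 1) = 1 ∧
    (IsScal (ρ z) → c ^ 2 = 1)

attribute [instance] Tor.ab Tor.mod Tor.fd Tor.gr Tor.cyc

theorem exists_odd (hF : Fintype.card F = q ^ 2) {m : ℕ} (hm : Odd m) : Nonempty (Tor hF m) := by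
  classical
  obtain ⟨p, hp⟩ := CharP.exists F
  have hpp : Fact p.Prime := ⟨CharP.char_is_prime F p⟩
  have hm0 : NeZero m := ⟨by rintro rfl; simp at hm⟩
  set K := FiniteField.Extension F p m with hK
  have hcard : Nat.card K = (q ^ m) ^ 2 := by
    rw [hK, FiniteField.natCard_extension, Nat.card_eq_fintype_card, hF]; ring
  have h2 := two_le hF
  have hunits : Nat.card Kˣ = (q ^ m + 1) * (q ^ m - 1) := by
    rw [Nat.card_units, hcard]
    have h3 : 1 ≤ q ^ m := Nat.one_le_pow _ _ (by omega)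
    obtain ⟨r, hr⟩ : ∃ r, q ^ m = r + 1 := ⟨q ^ m - 1, by omega⟩
    rw [hr]
    have : (r + 1) ^ 2 = (r + 1 + 1) * (r + 1 - 1) + 1 := by rw [Nat.add_sub_cancel]; ring
    omega
  have hfix : ∀ x : K, (x ^ q ^ m) ^ q ^ m = x := by
    intro x
    rw [← pow_mul, ← pow_two, ← hcard]
    have : Fintype K := Fintype.ofFinite K
    rw [Nat.card_eq_fintype_card]
    exact FiniteField.pow_card x
  let B : K →ₛₗ[cj hF] K →ₗ[F] F := LinearMap.mk₂'ₛₗ (cj hF) (RingHom.id F)
    (fun x y => Algebra.trace F K (x ^ q ^ m * y))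
    (fun x y z => by rw [add_pow_qe hF, add_mul, map_add])
    (fun c x y => by
      rw [Algebra.smul_def, mul_pow, ← map_pow, pow_odd hF _ hm, mul_assoc, ← Algebra.smul_def, map_smul]
      rfl)
    (fun x y z => by rw [mul_add, map_add])
    (fun c x y => by rw [mul_smul_comm, map_smul]; rfl)
  have hB : ∀ x y, B x y = Algebra.trace F K (x ^ q ^ m * y) := fun x y => rfl
  let C : Subgroup Kˣ := (powMonoidHom (q ^ m + 1) : Kˣ →* Kˣ).ker
  have hC : ∀ z : Kˣ, z ∈ C ↔ (z : K) ^ (q ^ m + 1) = 1 := by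
    intro z
    rw [MonoidHom.mem_ker, powMonoidHom_apply, Units.ext_iff, Units.val_pow_eq_pow_val, Units.val_one]
  refine ⟨{
    V := K
    B := B
    herm := ⟨⟨fun x y => ?_⟩, fun x h => ?_⟩
    dim := FiniteField.finrank_extension F p m
    C := C
    card := ?_
    ρ := ((Algebra.lmul F K).toRingHom.toMonoidHom.comp (Units.coeHom K)).comp C.subtype
    iso := fun z x y => ?_
    inj := ?_
    scal := fun c hc => ?_
    spl := fun he => absurd hm (Nat.not_odd_iff_even.2 he) }⟩
  · rw [hB, hB, trace_odd hF hm, mul_pow, hfix, mul_comm]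
  · have h1 := eq_zero_of_trace (F := F) (x := x ^ q ^ m) h
    exact (pow_eq_zero_iff (pow_pos (by omega) _).ne').1 h1
  · rw [IsCyclic.card_powMonoidHom_ker, hunits, Nat.gcd_eq_right (Dvd.intro _ rfl)]
    unfold ph
    obtain ⟨r, hr⟩ := hm
    rw [if_pos (by rw [hr]; simp), Nat.sub_add_cancel (by omega)]
  · show B ((z : Kˣ) * x) ((z : Kˣ) * y) = B x y
    have h1 := (hC z).1 z.2
    rw [hB, hB]
    congr 1
    calc (((z : Kˣ) : K) * x) ^ q ^ m * (((z : Kˣ) : K) * y)
        = (((z : Kˣ) : K) ^ (q ^ m + 1)) * (x ^ q ^ m * y) := by ring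
      _ = _ := by rw [h1, one_mul]
  · intro z w h
    have h1 : (((z : Kˣ) : K) * 1 : K) = ((w : Kˣ) : K) * 1 := LinearMap.congr_fun h 1
    rw [mul_one, mul_one] at h1
    exact Subtype.ext (Units.ext h1)
  · have hc0 : c ≠ 0 := by
      rintro rfl
      rw [zero_pow (by omega)] at hc
      exact zero_ne_one hc
    have hc0' : algebraMap F K c ≠ 0 := by simpa using hc0
    refine ⟨⟨Units.mk0 (algebraMap F K c) hc0', ?_⟩, ?_⟩
    · rw [hC, Units.val_mk0, ← map_pow]
      have hd : q + 1 ∣ q ^ m + 1 := by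
        have := Odd.nat_add_dvd_pow_add_pow q 1 hm
        rwa [one_pow] at this
      obtain ⟨t, ht⟩ := hd
      rw [ht, pow_mul, hc, one_pow, map_one]
    · refine LinearMap.ext fun x => ?_
      show algebraMap F K c * x = c • x
      rw [Algebra.smul_def]

theorem exists_even (hF : Fintype.card F = q ^ 2) {m : ℕ} (hm0 : 0 < m) (hm : Even m) :
    Nonempty (Tor hF m) := by
  classical
  obtain ⟨k, rfl⟩ := hm
  obtain ⟨p, hp⟩ := CharP.exists F
  have hpp : Fact p.Prime := ⟨CharP.char_is_prime F p⟩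
  have hk0 : NeZero k := ⟨by rintro rfl; simp at hm0⟩
  have hk1 : 1 ≤ k := Nat.one_le_iff_ne_zero.2 hk0.ne
  set K := FiniteField.Extension F p k with hK
  have hcard : Nat.card K = q ^ (k + k) := by
    rw [hK, FiniteField.natCard_extension, Nat.card_eq_fintype_card, hF]; ring
  have h2 := two_le hF
  have hodd : Odd (k + k - 1) := ⟨k - 1, by omega⟩
  have hfix : ∀ x : K, (x ^ q) ^ q ^ (k + k - 1) = x := by
    intro x
    rw [← pow_mul, ← pow_succ', Nat.sub_add_cancel (by omega), ← hcard]
    have : Fintype K := Fintype.ofFinite K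
    rw [Nat.card_eq_fintype_card]
    exact FiniteField.pow_card x
  have hfix' : ∀ x : K, (x ^ q ^ (k + k - 1)) ^ q = x := by
    intro x
    rw [← pow_mul, mul_comm, pow_mul, hfix]
  have hadd : ∀ x y : K, (x + y) ^ q = x ^ q + y ^ q := by
    intro x y
    have := add_pow_qe hF 1 x y
    rwa [pow_one] at this
  let B : (K × K) →ₛₗ[cj hF] (K × K) →ₗ[F] F := LinearMap.mk₂'ₛₗ (cj hF) (RingHom.id F)
    (fun x y => Algebra.trace F K (x.1 ^ q * y.2) + Algebra.trace F K (x.2 ^ q ^ (k + k - 1) * y.1))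
    (fun x y z => by
      rw [Prod.fst_add, Prod.snd_add, add_pow_qe hF, hadd, add_mul, map_add, add_mul, map_add]; abel)
    (fun c x y => by
      rw [Prod.smul_fst, Prod.smul_snd, Algebra.smul_def, Algebra.smul_def, mul_pow, mul_pow, ← map_pow,
        ← map_pow, pow_odd hF _ hodd, mul_assoc, mul_assoc, ← Algebra.smul_def, ← Algebra.smul_def, map_smul,
        map_smul, ← smul_add]
      rfl)
    (fun x y z => by rw [Prod.fst_add, Prod.snd_add, mul_add, mul_add, map_add, map_add]; abel)
    (fun c x y => by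
      rw [Prod.smul_fst, Prod.smul_snd, mul_smul_comm, mul_smul_comm, map_smul, map_smul, ← smul_add]; rfl)
  have hB : ∀ x y, B x y = Algebra.trace F K (x.1 ^ q * y.2) + Algebra.trace F K (x.2 ^ q ^ (k + k - 1) * y.1) :=
    fun x y => rfl
  have htr1 : ∀ z : K, cj hF (Algebra.trace F K z) = Algebra.trace F K (z ^ q) := by
    intro z
    have := trace_odd hF (e := 1) odd_one z
    rwa [pow_one] at this
  let L : Kˣ →* Module.End F K := (Algebra.lmul F K).toRingHom.toMonoidHom.comp (Units.coeHom K)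
  have hL : ∀ (z : Kˣ) (x : K), L z x = (z : K) * x := fun z x => rfl
  let ρ : Kˣ →* Module.End F (K × K) :=
    { toFun := fun z => (L z).prodMap (L ((z⁻¹) ^ q))
      map_one' := by rw [map_one, inv_one, one_pow, map_one]; rfl
      map_mul' := fun z w => by
        rw [map_mul, mul_inv, mul_pow, map_mul]
        rfl }
  have hρ : ∀ (z : Kˣ) (x : K × K), ρ z x = ((z : K) * x.1, (((z⁻¹) ^ q : Kˣ) : K) * x.2) := fun z x => rfl
  have hinv : ∀ z : Kˣ, ((z : K)) ^ q * (((z⁻¹) ^ q : Kˣ) : K) = 1 := by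
    intro z
    rw [← Units.val_pow_eq_pow_val, ← Units.val_mul, ← mul_pow, mul_inv_cancel, one_pow, Units.val_one]
  have hinv2 : ∀ z : Kˣ, ((((z⁻¹) ^ q : Kˣ) : K)) ^ q ^ (k + k - 1) * (z : K) = 1 := by
    intro z
    rw [Units.val_pow_eq_pow_val, hfix, ← Units.val_mul, inv_mul_cancel, Units.val_one]
  have hdet : ∀ z : Kˣ, LinearMap.det (ρ z) =
      Algebra.norm F (z : K) * Algebra.norm F ((((z⁻¹) ^ q : Kˣ) : K)) := by
    intro z
    show LinearMap.det ((L z).prodMap (L ((z⁻¹) ^ q))) = _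
    rw [det_prod]
    rfl
  refine ⟨{
    V := K × K
    B := B
    herm := ⟨⟨fun x y => ?_⟩, fun x h => ?_⟩
    dim := ?_
    C := Kˣ
    card := ?_
    ρ := ρ
    iso := fun z x y => ?_
    inj := ?_
    scal := fun c hc => ?_
    spl := fun _ c hc => ?_ }⟩
  · rw [hB, hB, map_add, add_comm]
    congr 1
    · rw [htr1, mul_pow, hfix', mul_comm]
    · rw [trace_odd hF hodd, mul_pow, hfix, mul_comm]
  · apply Prod.ext
    · have h1 := eq_zero_of_trace (F := F) (x := x.1 ^ q) (fun y => by
        have := h (0, y)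
        rw [hB] at this
        simpa using this)
      exact (pow_eq_zero_iff (by omega)).1 h1
    · have h1 := eq_zero_of_trace (F := F) (x := x.2 ^ q ^ (k + k - 1)) (fun y => by
        have := h (y, 0)
        rw [hB] at this
        simpa using this)
      exact (pow_eq_zero_iff (pow_pos (by omega) _).ne').1 h1
  · have h1 : Module.finrank F K = k := FiniteField.finrank_extension F p k
    rw [Module.finrank_prod, h1]
  · rw [Nat.card_units, hcard]
    unfold ph
    rw [if_neg (Nat.not_even_iff_odd.2 hodd), Nat.sub_add_cancel (by omega)]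
  · rw [hB, hB, hρ, hρ]
    congr 1
    · congr 1
      calc _ = ((z : K) ^ q * (((z⁻¹) ^ q : Kˣ) : K)) * (x.1 ^ q * y.2) := by ring
        _ = _ := by rw [hinv, one_mul]
    · congr 1
      calc _ = (((((z⁻¹) ^ q : Kˣ) : K)) ^ q ^ (k + k - 1) * (z : K)) * (x.2 ^ q ^ (k + k - 1) * y.1) := by
            rw [mul_pow]; ring
        _ = _ := by rw [hinv2, one_mul]
  · intro z w h
    have h1 := congrArg Prod.fst (LinearMap.congr_fun h ((1 : K), (0 : K)))
    rw [hρ, hρ] at h1
    simp only [mul_one] at h1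
    exact Units.ext h1
  · have hc0 : c ≠ 0 := by
      rintro rfl
      rw [zero_pow (by omega)] at hc
      exact zero_ne_one hc
    have hc0' : algebraMap F K c ≠ 0 := by simpa using hc0
    refine ⟨Units.mk0 (algebraMap F K c) hc0', ?_⟩
    refine LinearMap.ext fun x => ?_
    rw [hρ, LinearMap.smul_apply, Module.End.one_apply]
    have h3 : ((((Units.mk0 (algebraMap F K c) hc0')⁻¹) ^ q : Kˣ) : K) = algebraMap F K c := by
      rw [inv_pow, Units.val_inv_eq_inv_val]
      apply inv_eq_of_mul_eq_one_left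
      rw [Units.val_pow_eq_pow_val, Units.val_mk0, ← pow_succ', ← map_pow, hc, map_one]
    rw [h3, Units.val_mk0]
    apply Prod.ext
    · show _ = c • x.1
      rw [Algebra.smul_def]
    · show _ = c • x.2
      rw [Algebra.smul_def]
  · have hc0 : c ≠ 0 := by
      rintro rfl
      rw [zero_pow (by omega)] at hc
      exact zero_ne_one hc
    have hc0' : algebraMap F K c ≠ 0 := by simpa using hc0
    have h3 : ((((Units.mk0 (algebraMap F K c) hc0')⁻¹) ^ q : Kˣ) : K) = algebraMap F K (c⁻¹) := by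
      rw [Units.val_pow_eq_pow_val, Units.val_inv_eq_inv_val, Units.val_mk0, ← map_inv₀, ← map_pow]
      congr 1
      obtain ⟨r, hr⟩ : ∃ r, q = r + 1 := ⟨q - 1, by omega⟩
      rw [hr, Nat.add_sub_cancel] at hc
      rw [hr, pow_succ, inv_pow, hc, inv_one, one_mul]
    refine ⟨Units.mk0 (algebraMap F K c) hc0', ?_, ?_, ?_⟩
    · rw [hdet, h3, Units.val_mk0, ← map_mul, ← map_mul, mul_inv_cancel₀ hc0, map_one, map_one]
    · ext
      rw [Units.val_pow_eq_pow_val, Units.val_mk0, ← map_pow, hc, map_one, Units.val_one]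
    · rintro ⟨d, hd⟩
      have h4 := hd ((1 : K), (1 : K))
      rw [hρ, h3, Units.val_mk0, mul_one, mul_one] at h4
      have h5 : algebraMap F K c = d • (1 : K) := congrArg Prod.fst h4
      have h6 : algebraMap F K c⁻¹ = d • (1 : K) := congrArg Prod.snd h4
      have h7 : c = c⁻¹ := (algebraMap F K).injective (h5.trans h6.symm)
      rw [pow_two]
      nth_rewrite 2 [h7]
      exact mul_inv_cancel₀ hc0

theorem exists_tor (hF : Fintype.card F = q ^ 2) {m : ℕ} (hm : 1 ≤ m) : Nonempty (Tor hF m) := by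
  rcases Nat.even_or_odd m with h | h
  · exact exists_even hF hm h
  · exact exists_odd hF h

end Cfsg.Agent.H948.UTorus
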