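import Mathlib
import Cfsg.Agent.H948.UTorus
import Cfsg.Agent.H564.Near

/-!
# The components of the prime graph of `PSU n F q` (helper948)

`Near S u` : `u` has distance at most 2 from `2` (`H564.Near`).

* `near_or` : an odd prime `u` dividing `|PSU_n(q)|`, `(n, q) ≠ (3, 2)`, is `Near` or `Far2` (divides
  `q ^ n - (-1) ^ n`, not `q + 1`) or `Far1` (`n ≥ 4`, `u` divides `q ^ (n-1) - (-1) ^ (n-1)`, not `q + 1`, and `q + 1 ∣ n`);
* `adj_far2`, `adj_far1` : two different `Far2` (`Far1`) primes are adjacent;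
* `near_of_far` : `Far1` and `Far2` primes that are both not near exist only for `(n, q) = (4, 3), (6, 2)`;
* `psu_three` : at most two components, apart from `(4, 3)`, `(6, 2)`.
-/

set_option autoImplicit false
set_option linter.unusedSectionVars false

namespace Cfsg.Agent.H948.UMain

open Cfsg Cfsg.Agent.LieClassical Cfsg.Agent.LieClassical.HermBasic Cfsg.Agent.H948.UBase Cfsg.Agent.H948.UProd
  Cfsg.Agent.H948.UTorus
open Cfsg.Agent.H94.PG (Adj Conn)
open Cfsg.Agent.H564.NearTwo (Near)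

variable {F : Type*} [Field F] [Fintype F] {q : ℕ} {hF : Fintype.card F = q ^ 2}

section General

variable {V : Type*} [AddCommGroup V] [Module F V]

/-- a power of a nonscalar isometry has prime order modulo scalars -/
theorem exists_prime_power (T : Module.End F V) (N : ℕ) (hN : 0 < N) (hT : ¬ IsScal T) (h : IsScal (T ^ N)) :
    ∃ s k : ℕ, s.Prime ∧ s ∣ N ∧ ¬ IsScal (T ^ k) ∧ IsScal ((T ^ k) ^ s) := by
  induction N using Nat.strong_induction_on with
  | _ N ih =>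
    have hN1 : N ≠ 1 := by
      rintro rfl
      rw [pow_one] at h
      exact hT h
    obtain ⟨s, hs, hsN⟩ := Nat.exists_prime_and_dvd hN1
    by_cases h1 : IsScal (T ^ (N / s))
    · obtain ⟨t, k, ht, htN, h2, h3⟩ := ih (N / s) (Nat.div_lt_self hN hs.one_lt)
        (Nat.div_pos (Nat.le_of_dvd hN hsN) hs.pos) h1
      exact ⟨t, k, ht, htN.trans (Nat.div_dvd_of_dvd hsN), h2, h3⟩
    · refine ⟨s, N / s, hs, hsN, h1, ?_⟩
      rw [← pow_mul, Nat.div_mul_cancel hsN]
      exact h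

theorem isScal_smul_one (c : F) : IsScal (c • (1 : Module.End F V)) := ⟨c, fun x => by
  rw [LinearMap.smul_apply, Module.End.one_apply]⟩

theorem IsScal.pow {T : Module.End F V} (h : IsScal T) (k : ℕ) : IsScal (T ^ k) := by
  obtain ⟨c, hc⟩ := h
  refine ⟨c ^ k, ?_⟩
  induction k with
  | zero => intro x; rw [pow_zero, pow_zero, one_smul, Module.End.one_apply]
  | succ k ih => intro x; rw [pow_succ, Module.End.mul_apply, hc, map_smul, ih, smul_smul, pow_succ, mul_comm]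

theorem norm_of_scal {B : V →ₛₗ[cj hF] V →ₗ[F] F} (hB : IsHerm hF B) {T : Module.End F V} (hT : Iso B T)
    {c : F} (hc : ∀ x, T x = c • x) {x₀ : V} (hx₀ : x₀ ≠ 0) : c ^ (q + 1) = 1 := by
  have h1 : ∃ y, B x₀ y ≠ 0 := by
    by_contra h
    push Not at h
    exact hx₀ (hB.sep x₀ h)
  obtain ⟨y, hy⟩ := h1
  have h2 := hT x₀ y
  rw [hc, hc, LinearMap.map_smulₛₗ₂, map_smul, cj_apply, smul_eq_mul, smul_eq_mul,
    ← mul_assoc, ← pow_succ] at h2
  exact mul_right_cancel₀ hy (h2.trans (one_mul _).symm)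

theorem eq_one_of_pow_pow {c : F} {a b : ℕ} (h1 : c ^ a = 1) (h2 : c ^ b = 1) (hab : a.Coprime b) : c = 1 := by
  have h3 : orderOf c ∣ Nat.gcd a b :=
    Nat.dvd_gcd (orderOf_dvd_of_pow_eq_one h1) (orderOf_dvd_of_pow_eq_one h2)
  rw [hab] at h3
  exact orderOf_eq_one_iff.1 (Nat.dvd_one.1 h3)

end General

section Tori

variable {n : ℕ}

/-- the extension of a torus by the inverse of the determinant -/
noncomputable def ext {m : ℕ} (t : Tor hF m) (z : t.C) : Module.End F (t.V × F) :=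
  (t.ρ z).prodMap ((LinearMap.det (t.ρ z))⁻¹ • (1 : Module.End F F))

theorem det_ne_zero {m : ℕ} (t : Tor hF m) (z : t.C) : LinearMap.det (t.ρ z) ≠ 0 := by
  intro h
  have := det_norm t.herm (t.iso z)
  rw [h, zero_pow (by omega)] at this
  exact zero_ne_one this

theorem ext_mul {m : ℕ} (t : Tor hF m) (z w : t.C) : ext t (z * w) = ext t z * ext t w := by
  unfold ext
  rw [LinearMap.prodMap_mul, map_mul, map_mul, mul_inv, smul_mul_smul_comm, one_mul]

theorem ext_one {m : ℕ} (t : Tor hF m) : ext t 1 = 1 := by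
  unfold ext
  rw [map_one, map_one, inv_one, one_smul]
  rfl

theorem ext_pow {m : ℕ} (t : Tor hF m) (z : t.C) (k : ℕ) : ext t z ^ k = ext t (z ^ k) := by
  induction k with
  | zero => rw [pow_zero, pow_zero, ext_one]
  | succ k ih => rw [pow_succ, pow_succ, ih, ext_mul]

theorem iso_ext {m : ℕ} (t : Tor hF m) (z : t.C) : Iso (prodForm t.B (oneForm hF)) (ext t z) := by
  refine iso_prod (t.iso z) ?_
  intro x y
  have h := det_norm t.herm (t.iso z)
  rw [oneForm_apply, oneForm_apply, LinearMap.smul_apply, LinearMap.smul_apply, Module.End.one_apply,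
    Module.End.one_apply, smul_eq_mul, smul_eq_mul, mul_pow, inv_pow]
  have h0 := det_ne_zero t z
  have h1 : ((LinearMap.det (t.ρ z)) ^ q)⁻¹ * (LinearMap.det (t.ρ z))⁻¹ = 1 := by
    rw [← mul_inv, ← pow_succ, h, inv_one]
  calc _ = (((LinearMap.det (t.ρ z)) ^ q)⁻¹ * (LinearMap.det (t.ρ z))⁻¹) * (x ^ q * y) := by ring
    _ = _ := by rw [h1, one_mul]

theorem det_ext {m : ℕ} (t : Tor hF m) (z : t.C) : LinearMap.det (ext t z) = 1 := by
  unfold ext
  rw [det_prod, LinearMap.det_smul, map_one, Module.finrank_self, pow_one, mul_one,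
    mul_inv_cancel₀ (det_ne_zero t z)]

theorem commute_ext {m : ℕ} (t : Tor hF m) (z w : t.C) : Commute (ext t z) (ext t w) := by
  show _ * _ = _ * _
  rw [← ext_mul, ← ext_mul, mul_comm]

theorem exists_ne_zero {m : ℕ} (hm : 1 ≤ m) (t : Tor hF m) : ∃ x : t.V, x ≠ 0 := by
  have h : 0 < Module.finrank F t.V := by rw [t.dim]; omega
  have := Module.finrank_pos_iff.1 h
  exact exists_ne 0

theorem not_scal_of_prime {m : ℕ} (hm : 1 ≤ m) (t : Tor hF m) {z : t.C} {u : ℕ} (hu : u.Prime)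
    (hz : orderOf z = u) (hq : ¬ u ∣ q + 1) : ¬ IsScal (t.ρ z) := by
  rintro ⟨c, hc⟩
  obtain ⟨x, hx⟩ := exists_ne_zero hm t
  have h1 := norm_of_scal t.herm (t.iso z) hc hx
  have h2 : c ^ u = 1 := by
    obtain ⟨d, hd⟩ := IsScal.pow ⟨c, hc⟩ u
    have h3 : ∀ k : ℕ, (t.ρ z ^ k) x = c ^ k • x := by
      intro k
      induction k with
      | zero => simp
      | succ k ih => rw [pow_succ, Module.End.mul_apply, hc, map_smul, ih, smul_smul, pow_succ, mul_comm]
    have h4 := h3 u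
    rw [← map_pow, ← hz, pow_orderOf_eq_one, map_one, Module.End.one_apply] at h4
    have h5 : (c ^ orderOf z - 1) • x = 0 := by rw [sub_smul, one_smul, ← h4, sub_self]
    rcases smul_eq_zero.1 h5 with h6 | h6
    · rw [hz] at h6; exact sub_eq_zero.1 h6
    · exact absurd h6 hx
  have h7 : c = 1 := eq_one_of_pow_pow h2 h1 ((Nat.Prime.coprime_iff_not_dvd hu).2 hq)
  have h8 : t.ρ z = t.ρ 1 := by
    rw [map_one]
    refine LinearMap.ext fun y => ?_
    rw [hc, h7, one_smul, Module.End.one_apply]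
  have h9 := t.inj h8
  rw [h9, orderOf_one] at hz
  exact hu.one_lt.ne hz

theorem exists_order {m : ℕ} (t : Tor hF m) {u : ℕ} (hu : u.Prime) (hd : u ∣ ph q (m - 1)) :
    ∃ z : t.C, orderOf z = u := by
  have hfin : Finite t.C := by
    apply Nat.finite_of_card_ne_zero
    rw [t.card]
    unfold ph
    have := two_le hF
    split_ifs
    · omega
    · have : q ^ 1 ≤ q ^ (m - 1 + 1) := Nat.pow_le_pow_right (by omega) (by omega)
      rw [pow_one] at this
      omega
  have := Fact.mk hu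
  exact exists_prime_orderOf_dvd_card' u (by rw [t.card]; exact hd)

theorem det_one_of_order {m : ℕ} (t : Tor hF m) {z : t.C} {u : ℕ} (hu : u.Prime)
    (hz : z ^ u = 1) (hq : ¬ u ∣ q + 1) : LinearMap.det (t.ρ z) = 1 := by
  apply eq_one_of_pow_pow (a := u) (b := q + 1) _ (det_norm t.herm (t.iso z))
    ((Nat.Prime.coprime_iff_not_dvd hu).2 hq)
  rw [← map_pow, ← map_pow, hz, map_one, map_one]

theorem commute_rho {m : ℕ} (t : Tor hF m) (z w : t.C) : Commute (t.ρ z) (t.ρ w) := by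
  show _ * _ = _ * _
  rw [← map_mul, ← map_mul, mul_comm]

theorem scal_pow_of_order {m : ℕ} (t : Tor hF m) {z : t.C} {u : ℕ} (hz : z ^ u = 1) : IsScal (t.ρ z ^ u) := by
  rw [← map_pow, hz, map_one]; exact isScal_one

theorem ext_scal_iff {m : ℕ} (t : Tor hF m) {z : t.C} (h : IsScal (ext t z)) : IsScal (t.ρ z) := by
  obtain ⟨c, hc⟩ := h
  refine ⟨c, fun x => ?_⟩
  have := congrArg Prod.fst (hc (x, 0))
  exact this

/-- primes dividing the order of the big torus -/
def Far2 (n q u : ℕ) : Prop := u ∣ ph q (n - 1) ∧ ¬ u ∣ q + 1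

theorem adj_far2 (hF : Fintype.card F = q ^ 2) (hn : 3 ≤ n) {u v : ℕ} (hu : u.Prime) (hv : v.Prime)
    (hne : u ≠ v) (h1 : Far2 n q u) (h2 : Far2 n q v) : Adj (PSU n F q) u v := by
  obtain ⟨t⟩ := exists_tor hF (m := n) (by omega)
  obtain ⟨z, hz⟩ := exists_order t hu h1.1
  obtain ⟨w, hw⟩ := exists_order t hv h2.1
  have hz1 : z ^ u = 1 := by rw [← hz, pow_orderOf_eq_one]
  have hw1 : w ^ v = 1 := by rw [← hw, pow_orderOf_eq_one]
  exact adj_of_iso t.herm t.dim hn hu hv (t.iso z) (t.iso w) (det_one_of_order t hu hz1 h1.2)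
    (det_one_of_order t hv hw1 h2.2) (commute_rho t z w) (not_scal_of_prime (by omega) t hu hz h1.2)
    (not_scal_of_prime (by omega) t hv hw h2.2) (scal_pow_of_order t hz1) (scal_pow_of_order t hw1) hne

/-- primes dividing the order of the second torus -/
def Far1 (n q u : ℕ) : Prop := u ∣ ph q (n - 2) ∧ ¬ u ∣ q + 1

theorem ext_scal_pow {m : ℕ} (t : Tor hF m) {z : t.C} {u : ℕ} (hz : z ^ u = 1) : IsScal (ext t z ^ u) := by
  rw [ext_pow, hz, ext_one]; exact isScal_one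

theorem finrank_ext {m : ℕ} (t : Tor hF m) : Module.finrank F (t.V × F) = m + 1 := by
  rw [Module.finrank_prod, t.dim, Module.finrank_self]

theorem adj_far1 (hF : Fintype.card F = q ^ 2) (hn : 3 ≤ n) {u v : ℕ} (hu : u.Prime) (hv : v.Prime)
    (hne : u ≠ v) (h1 : Far1 n q u) (h2 : Far1 n q v) : Adj (PSU n F q) u v := by
  obtain ⟨m, rfl⟩ : ∃ m, n = m + 1 := ⟨n - 1, by omega⟩
  obtain ⟨t⟩ := exists_tor hF (m := m) (by omega)
  obtain ⟨z, hz⟩ := exists_order t hu h1.1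
  obtain ⟨w, hw⟩ := exists_order t hv h2.1
  have hz1 : z ^ u = 1 := by rw [← hz, pow_orderOf_eq_one]
  have hw1 : w ^ v = 1 := by rw [← hw, pow_orderOf_eq_one]
  exact adj_of_iso (isHerm_prod t.herm isHerm_one) (finrank_ext t) hn hu hv (iso_ext t z) (iso_ext t w)
    (det_ext t z) (det_ext t w) (commute_ext t z w)
    (fun h => not_scal_of_prime (by omega) t hu hz h1.2 (ext_scal_iff t h))
    (fun h => not_scal_of_prime (by omega) t hv hw h2.2 (ext_scal_iff t h)) (ext_scal_pow t hz1)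
    (ext_scal_pow t hw1) hne

/-- existence of an element of order `N` of the unit group -/
theorem exists_unit_order (hF : Fintype.card F = q ^ 2) {N : ℕ} (hN : N ∣ q ^ 2 - 1) :
    ∃ c : F, orderOf c = N ∧ c ^ N = 1 := by
  classical
  obtain ⟨g, hg⟩ := IsCyclic.exists_generator (α := Fˣ)
  have h1 : orderOf g = q ^ 2 - 1 := by
    rw [orderOf_eq_card_of_forall_mem_zpowers hg, Nat.card_units, Nat.card_eq_fintype_card, hF]
  obtain ⟨k, hk⟩ := hN
  have h2 := two_le hF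
  have h3 : q ^ 2 - 1 ≠ 0 := by
    have : 2 ^ 2 ≤ q ^ 2 := Nat.pow_le_pow_left h2 2
    omega
  have hk0 : k ≠ 0 := by rintro rfl; rw [mul_zero] at hk; exact h3 hk
  have h4 : orderOf (g ^ k) = N := by
    rw [orderOf_pow_of_dvd hk0 (by rw [h1, hk]; exact dvd_mul_left _ _), h1, hk,
      Nat.mul_div_cancel _ (Nat.pos_of_ne_zero hk0)]
  refine ⟨((g ^ k : Fˣ) : F), ?_, ?_⟩
  · rw [← h4]; exact orderOf_units
  · rw [← Units.val_pow_eq_pow_val, ← h4, pow_orderOf_eq_one, Units.val_one]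

/-- the scalars of `GU_{n-1}`: an element with prime order `s` modulo scalars, commuting with the torus `t` -/
theorem exists_scal_ext (hF : Fintype.card F = q ^ 2) {m : ℕ} (t : Tor hF m) (hm : 1 ≤ m)
    (hd : ¬ (q + 1) ∣ m + 1) :
    ∃ (s : ℕ) (z : t.C) (c : F), s.Prime ∧ s ∣ q + 1 ∧ t.ρ z = c • 1 ∧ c ^ (q + 1) = 1 ∧ ¬ IsScal (ext t z) ∧
      IsScal (ext t z ^ s) := by
  have h2 := two_le hF
  obtain ⟨c₀, hc₀, hc1⟩ := exists_unit_order hF (N := q + 1) ⟨q - 1, by
    obtain ⟨r, rfl⟩ : ∃ r, q = r + 1 := ⟨q - 1, by omega⟩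
    rw [Nat.add_sub_cancel]
    have : (r + 1) ^ 2 = (r + 1 + 1) * r + 1 := by ring
    omega⟩
  obtain ⟨z₀, hz₀⟩ := t.scal c₀ hc1
  have hns : ¬ IsScal (ext t z₀) := by
    rintro ⟨d, hd'⟩
    obtain ⟨x, hx⟩ := exists_ne_zero hm t
    have h3 := hd' (x, 1)
    have h4 : t.ρ z₀ x = d • x := congrArg Prod.fst h3
    have h5 : ((LinearMap.det (t.ρ z₀))⁻¹ • (1 : Module.End F F)) 1 = d • (1 : F) := congrArg Prod.snd h3
    rw [LinearMap.smul_apply, Module.End.one_apply, smul_eq_mul, smul_eq_mul, mul_one, mul_one, hz₀,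
      LinearMap.det_smul, map_one, mul_one, t.dim] at h5
    rw [hz₀, LinearMap.smul_apply, Module.End.one_apply] at h4
    have h6 : c₀ = d := by
      have h7 : (c₀ - d) • x = 0 := by rw [sub_smul, h4, sub_self]
      rcases smul_eq_zero.1 h7 with h8 | h8
      · exact sub_eq_zero.1 h8
      · exact absurd h8 hx
    rw [← h6] at h5
    have hc0 : c₀ ≠ 0 := by
      rintro rfl
      rw [zero_pow (by omega)] at hc1
      exact zero_ne_one hc1
    have h9 : c₀ ^ (m + 1) = 1 := by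
      have : c₀ ^ m * (c₀ ^ m)⁻¹ = 1 := mul_inv_cancel₀ (pow_ne_zero _ hc0)
      rw [h5] at this
      rw [pow_succ]; exact this
    apply hd
    rw [← hc₀]
    exact orderOf_dvd_of_pow_eq_one h9
  have hpow : IsScal (ext t z₀ ^ (q + 1)) := by
    rw [ext_pow]
    have : z₀ ^ (q + 1) = 1 := by
      apply t.inj
      rw [map_pow, hz₀, map_one, smul_pow, one_pow, hc1, one_smul]
    rw [this, ext_one]
    exact isScal_one
  obtain ⟨s, k, hs, hsd, h3, h4⟩ := exists_prime_power _ (q + 1) (by omega) hns hpow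
  refine ⟨s, z₀ ^ k, c₀ ^ k, hs, hsd, ?_, ?_, ?_, ?_⟩
  · rw [map_pow, hz₀, smul_pow, one_pow]
  · rw [← pow_mul, mul_comm, pow_mul, hc1, one_pow]
  · rw [← ext_pow]; exact h3
  · rw [← ext_pow]; exact h4

theorem two_dvd_card_SU (hF : Fintype.card F = q ^ 2) {m : ℕ} (hm : 2 ≤ m) : 2 ∣ Nat.card (SU m F q) := by
  rcases Nat.even_or_odd q with hq | hq
  · rw [card_SU hF (by omega)]
    apply Dvd.dvd.mul_right
    have h1 : m * (m - 1) / 2 ≠ 0 := by
      have h2 : 2 * 1 ≤ m * (m - 1) := Nat.mul_le_mul hm (by omega)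
      omega
    exact dvd_trans (even_iff_two_dvd.1 hq) (dvd_pow_self q h1)
  · apply dvd_card_SU hF hm (i := 0) (by omega)
    unfold ph
    rw [if_pos (by decide)]
    exact even_iff_two_dvd.1 (by rw [zero_add, pow_one]; exact hq.add_one)

/-- that prime is adjacent to 2 -/
theorem adj_two_of_scal_ext (hF : Fintype.card F = q ^ 2) {m : ℕ} (t : Tor hF m) (hm : 2 ≤ m) {s : ℕ}
    (hs : s.Prime) (hs2 : s ≠ 2) {z : t.C} {c : F} (hz : t.ρ z = c • 1) (h1 : ¬ IsScal (ext t z))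
    (h2 : IsScal (ext t z ^ s)) : Adj (PSU (m + 1) F q) s 2 := by
  obtain ⟨T, hT, hdT, hT2, hT1⟩ := exists_iso_of_mem t.herm t.dim Nat.prime_two (two_dvd_card_SU hF hm)
  refine adj_of_iso (isHerm_prod t.herm isHerm_one) (finrank_ext t) (by omega) hs Nat.prime_two (iso_ext t z)
    (iso_prod hT Iso.one) (det_ext t z) ?_ ?_ h1 ?_ h2 ?_ hs2
  · rw [det_prod, hdT, map_one, one_mul]
  · unfold ext
    rw [hz]
    exact commute_prod ((Commute.one_left T).smul_left c) (Commute.one_right _)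
  · exact not_isScal_of (prodMap_one_ne hT1) (x := ((0 : t.V), (1 : F))) (by simp) (by simp)
  · rw [prodMap_pow, hT2, one_pow]
    refine ⟨1, fun x => ?_⟩
    simp

theorem sq_sub_one (q : ℕ) (h : 1 ≤ q) : q ^ 2 - 1 = (q + 1) * (q - 1) := by
  obtain ⟨r, rfl⟩ : ∃ r, q = r + 1 := ⟨q - 1, by omega⟩
  rw [Nat.add_sub_cancel]
  have : (r + 1) ^ 2 = (r + 1 + 1) * r + 1 := by ring
  omega

theorem ph_one (h : 1 ≤ q) : ph q 1 = (q + 1) * (q - 1) := by
  unfold ph
  rw [if_neg (by decide), ← sq_sub_one q h]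

theorem ph_zero : ph q 0 = q + 1 := by
  unfold ph
  rw [if_pos (by decide), zero_add, pow_one]

/-- (A) the primes of `SU_{n-2}` -/
theorem adj_two_of_lt (hF : Fintype.card F = q ^ 2) (hn : 4 ≤ n) {u i : ℕ} (hu : u.Prime) (hu2 : u ≠ 2)
    (hi : i < n - 2) (hd : u ∣ ph q i) : Adj (PSU n F q) u 2 :=
  adj_two_of_block hF (m := n - 2) (by omega) (by omega) hu hu2 (dvd_card_SU hF (by omega) hi hd)

/-- (B) the characteristic -/
theorem adj_two_of_char (hF : Fintype.card F = q ^ 2) (hn : 3 ≤ n) {u : ℕ} (hu : u.Prime) (hu2 : u ≠ 2)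
    (hd : u ∣ q) : Adj (PSU n F q) u 2 := by
  have hodd : Odd q := by
    obtain ⟨p, k, hp, -, hk, hk0⟩ := exists_prime_pow hF
    rw [hk] at hd
    have h1 : u = p := (Nat.prime_dvd_prime_iff_eq hu hp).1 (hu.dvd_of_dvd_pow hd)
    rw [hk, ← h1]
    exact (hu.odd_of_ne_two hu2).pow
  apply adj_two_of_odd hF hodd hn hu hu2
  rw [card_SU hF (by omega)]
  apply Dvd.dvd.mul_right
  simpa using hd

/-- a prime `Far1` or ... is near if `q + 1` does not divide `n` -/
theorem near_far1 (hF : Fintype.card F = q ^ 2) (hn : 3 ≤ n) (hqn : ¬ (q + 1) ∣ n) {u : ℕ} (hu : u.Prime)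
    (h1 : Far1 n q u) : Near (PSU n F q) u := by
  obtain ⟨m, rfl⟩ : ∃ m, n = m + 1 := ⟨n - 1, by omega⟩
  obtain ⟨t⟩ := exists_tor hF (m := m) (by omega)
  obtain ⟨s, w, c, hs, hsq, hw, hc, h2, h3⟩ := exists_scal_ext hF t (by omega) hqn
  obtain ⟨z, hz⟩ := exists_order t hu h1.1
  have hz1 : z ^ u = 1 := by rw [← hz, pow_orderOf_eq_one]
  have hus : u ≠ s := by
    rintro rfl
    exact h1.2 hsq
  have h4 : Adj (PSU (m + 1) F q) u s :=
    adj_of_iso (isHerm_prod t.herm isHerm_one) (finrank_ext t) hn hu hs (iso_ext t z) (iso_ext t w)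
      (det_ext t z) (det_ext t w) (commute_ext t z w)
      (fun h => not_scal_of_prime (by omega) t hu hz h1.2 (ext_scal_iff t h)) h2 (ext_scal_pow t hz1) h3 hus
  by_cases hs2 : s = 2
  · rw [hs2] at h4
    exact Near.of_adj h4
  · exact Near.of_adj_adj h4 (adj_two_of_scal_ext hF t (by omega) hs hs2 hw h2 h3)

/-- the split element of the torus of even dimension -/
theorem exists_split (hF : Fintype.card F = q ^ 2) {m : ℕ} (hm : Even m) (t : Tor hF m) (hq : 4 ≤ q) :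
    ∃ (s : ℕ) (z : t.C), s.Prime ∧ s ∣ q - 1 ∧ LinearMap.det (t.ρ z) = 1 ∧ ¬ IsScal (t.ρ z) ∧
      IsScal (t.ρ z ^ s) ∧ (z ^ (q - 1) = 1) := by
  obtain ⟨c, hc, hc1⟩ := exists_unit_order hF (N := q - 1) (by
    rw [sq_sub_one q (by omega)]; exact dvd_mul_left _ _)
  obtain ⟨z, hd, hz, hs⟩ := t.spl hm c hc1
  have hns : ¬ IsScal (t.ρ z) := by
    intro h
    have h1 := hs h
    have h2 : q - 1 ∣ 2 := by rw [← hc]; exact orderOf_dvd_of_pow_eq_one h1
    have := Nat.le_of_dvd (by norm_num) h2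
    omega
  obtain ⟨s, k, hs, hsd, h3, h4⟩ := exists_prime_power _ (q - 1) (by omega) hns
    (by rw [← map_pow, hz, map_one]; exact isScal_one)
  refine ⟨s, z ^ k, hs, hsd, ?_, ?_, ?_, ?_⟩
  · rw [map_pow, map_pow, hd, one_pow]
  · rw [map_pow]; exact h3
  · rw [map_pow]; exact h4
  · rw [← pow_mul, mul_comm, pow_mul, hz, one_pow]

theorem near_of_adj_lt (hF : Fintype.card F = q ^ 2) (hn : 4 ≤ n) {u s i : ℕ} (hs : s.Prime) (hi : i < n - 2)
    (hd : s ∣ ph q i) (h : Adj (PSU n F q) u s) : Near (PSU n F q) u := by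
  by_cases hs2 : s = 2
  · rw [hs2] at h; exact Near.of_adj h
  · exact Near.of_adj_adj h (adj_two_of_lt hF hn hs hs2 hi hd)

/-- (E) `n` even, `q ≥ 4` -/
theorem near_far2_even (hF : Fintype.card F = q ^ 2) (hn : 4 ≤ n) (hne : Even n) (hq : 4 ≤ q) {u : ℕ}
    (hu : u.Prime) (h1 : Far2 n q u) (hu1 : ¬ u ∣ q - 1) : Near (PSU n F q) u := by
  obtain ⟨t⟩ := exists_tor hF (m := n) (by omega)
  obtain ⟨s, w, hs, hsq, hdw, h2, h3, -⟩ := exists_split hF hne t hq
  obtain ⟨z, hz⟩ := exists_order t hu h1.1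
  have hz1 : z ^ u = 1 := by rw [← hz, pow_orderOf_eq_one]
  have hus : u ≠ s := by
    rintro rfl
    exact hu1 hsq
  have h4 : Adj (PSU n F q) u s :=
    adj_of_iso t.herm t.dim (by omega) hu hs (t.iso z) (t.iso w) (det_one_of_order t hu hz1 h1.2) hdw
      (commute_rho t z w) (not_scal_of_prime (by omega) t hu hz h1.2) h2 (scal_pow_of_order t hz1) h3 hus
  exact near_of_adj_lt hF hn hs (i := 1) (by omega)
    (by rw [ph_one (by omega)]; exact Dvd.dvd.mul_left hsq _) h4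

/-- the split element, extended -/
theorem exists_split_ext (hF : Fintype.card F = q ^ 2) {m : ℕ} (hm : Even m) (t : Tor hF m) (hq : 4 ≤ q) :
    ∃ (s : ℕ) (z : t.C), s.Prime ∧ s ∣ q - 1 ∧ ¬ IsScal (ext t z) ∧ IsScal (ext t z ^ s) := by
  obtain ⟨c, hc, hc1⟩ := exists_unit_order hF (N := q - 1) (by
    rw [sq_sub_one q (by omega)]; exact dvd_mul_left _ _)
  obtain ⟨z, hd, hz, hs⟩ := t.spl hm c hc1
  have hns : ¬ IsScal (ext t z) := by
    intro h
    have h1 := hs (ext_scal_iff t h)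
    have h2 : q - 1 ∣ 2 := by rw [← hc]; exact orderOf_dvd_of_pow_eq_one h1
    have := Nat.le_of_dvd (by norm_num) h2
    omega
  obtain ⟨s, k, hs, hsd, h3, h4⟩ := exists_prime_power _ (q - 1) (by omega) hns
    (by rw [ext_pow, hz, ext_one]; exact isScal_one)
  refine ⟨s, z ^ k, hs, hsd, ?_, ?_⟩
  · rw [← ext_pow]; exact h3
  · rw [← ext_pow]; exact h4

/-- (F) `n` odd, `q ≥ 4` -/
theorem near_far1_odd (hF : Fintype.card F = q ^ 2) (hn : 4 ≤ n) (hno : Odd n) (hq : 4 ≤ q) {u : ℕ}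
    (hu : u.Prime) (h1 : Far1 n q u) (hu1 : ¬ u ∣ q - 1) : Near (PSU n F q) u := by
  obtain ⟨m, rfl⟩ : ∃ m, n = m + 1 := ⟨n - 1, by omega⟩
  have hme : Even m := by
    rcases Nat.even_or_odd m with h | h
    · exact h
    · exact absurd hno (Nat.not_odd_iff_even.2 h.add_one)
  obtain ⟨t⟩ := exists_tor hF (m := m) (by omega)
  obtain ⟨s, w, hs, hsq, h2, h3⟩ := exists_split_ext hF hme t hq
  obtain ⟨z, hz⟩ := exists_order t hu h1.1
  have hz1 : z ^ u = 1 := by rw [← hz, pow_orderOf_eq_one]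
  have hus : u ≠ s := by
    rintro rfl
    exact hu1 hsq
  have h4 : Adj (PSU (m + 1) F q) u s :=
    adj_of_iso (isHerm_prod t.herm isHerm_one) (finrank_ext t) (by omega) hu hs (iso_ext t z) (iso_ext t w)
      (det_ext t z) (det_ext t w) (commute_ext t z w)
      (fun h => not_scal_of_prime (by omega) t hu hz h1.2 (ext_scal_iff t h)) h2 (ext_scal_pow t hz1) h3 hus
  exact near_of_adj_lt hF hn hs (i := 1) (by omega)
    (by rw [ph_one (by omega)]; exact Dvd.dvd.mul_left hsq _) h4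

/-- connection through a common prime of the torus -/
theorem near_far2_of (hF : Fintype.card F = q ^ 2) (hn : 4 ≤ n) {u s i : ℕ} (hu : u.Prime) (hs : s.Prime)
    (hi : i < n - 2) (hd : s ∣ ph q i) (h1 : Far2 n q u) (h2 : Far2 n q s) (hs2 : s ≠ 2) :
    Near (PSU n F q) u := by
  by_cases hus : u = s
  · subst hus
    exact Near.of_adj (adj_two_of_lt hF hn hs hs2 hi hd)
  · exact near_of_adj_lt hF hn hs hi hd (adj_far2 hF (by omega) hu hs hus h1 h2)

theorem near_far1_of (hF : Fintype.card F = q ^ 2) (hn : 4 ≤ n) {u s i : ℕ} (hu : u.Prime) (hs : s.Prime)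
    (hi : i < n - 2) (hd : s ∣ ph q i) (h1 : Far1 n q u) (h2 : Far1 n q s) (hs2 : s ≠ 2) :
    Near (PSU n F q) u := by
  by_cases hus : u = s
  · subst hus
    exact Near.of_adj (adj_two_of_lt hF hn hs hs2 hi hd)
  · exact near_of_adj_lt hF hn hs hi hd (adj_far1 hF (by omega) hu hs hus h1 h2)

theorem ph_odd {i : ℕ} (hi : ¬ Even i) : ph q i = q ^ (i + 1) - 1 := by unfold ph; rw [if_neg hi]

theorem ph_even {i : ℕ} (hi : Even i) : ph q i = q ^ (i + 1) + 1 := by unfold ph; rw [if_pos hi]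

/-- (G1) `q = 3`, `4 ∣ n`, `n ≥ 8` -/
theorem near_three {F : Type*} [Field F] [Fintype F] (hF : Fintype.card F = 3 ^ 2) (hn : 8 ≤ n) (h4 : 4 ∣ n)
    {u : ℕ} (hu : u.Prime) (h1 : Far2 n 3 u) : Near (PSU n F 3) u := by
  apply near_far2_of hF (by omega) hu (s := 5) (by norm_num) (i := 3) (by omega)
    (by unfold ph; rw [if_neg (by decide)]; norm_num) h1 _ (by norm_num)
  refine ⟨?_, by norm_num⟩
  rw [ph_odd (by rw [Nat.not_even_iff_odd]; obtain ⟨k, hk⟩ := h4; exact ⟨2 * k - 1, by omega⟩),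
    Nat.sub_add_cancel (by omega)]
  obtain ⟨k, rfl⟩ := h4
  rw [pow_mul]
  have := Nat.sub_dvd_pow_sub_pow (3 ^ 4) 1 k
  rw [one_pow] at this
  exact dvd_trans (by norm_num) this

/-- (G2) `q = 2`, `6 ∣ n`, `n ≥ 12` -/
theorem near_two_even {F : Type*} [Field F] [Fintype F] (hF : Fintype.card F = 2 ^ 2) (hn : 12 ≤ n) (h6 : 6 ∣ n)
    {u : ℕ} (hu : u.Prime) (h1 : Far2 n 2 u) : Near (PSU n F 2) u := by
  apply near_far2_of hF (by omega) hu (s := 7) (by norm_num) (i := 5) (by omega)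
    (by unfold ph; rw [if_neg (by decide)]; norm_num) h1 _ (by norm_num)
  refine ⟨?_, by norm_num⟩
  rw [ph_odd (by rw [Nat.not_even_iff_odd]; obtain ⟨k, hk⟩ := h6; exact ⟨3 * k - 1, by omega⟩),
    Nat.sub_add_cancel (by omega)]
  obtain ⟨k, rfl⟩ := h6
  rw [pow_mul]
  have := Nat.sub_dvd_pow_sub_pow (2 ^ 6) 1 k
  rw [one_pow] at this
  exact dvd_trans (by norm_num) this

/-- `2 ^ j + 1` is not a power of 3 for `j ≥ 4` -/
theorem not_pow_three {j a : ℕ} (hj : 4 ≤ j) : 2 ^ j + 1 ≠ 3 ^ a := by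
  intro h
  have h8 : 3 ^ a % 8 = 1 := by
    rw [← h]
    obtain ⟨k, rfl⟩ : ∃ k, j = 3 + k := ⟨j - 3, by omega⟩
    rw [pow_add]
    omega
  have hev : Even a := by
    rcases Nat.even_or_odd a with h1 | h1
    · exact h1
    · obtain ⟨b, rfl⟩ := h1
      rw [pow_succ, pow_mul, Nat.mul_mod, Nat.pow_mod] at h8
      norm_num at h8
  obtain ⟨b, rfl⟩ := hev
  have h1 : (3 ^ b - 1) * (3 ^ b + 1) = 2 ^ j := by
    have h2 : 1 ≤ 3 ^ b := Nat.one_le_pow _ _ (by norm_num)
    obtain ⟨r, hr⟩ : ∃ r, 3 ^ b = r + 1 := ⟨3 ^ b - 1, by omega⟩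
    rw [pow_add, hr] at h
    rw [hr, Nat.add_sub_cancel]
    have : (r + 1) * (r + 1) = r * (r + 1 + 1) + 1 := by ring
    omega
  obtain ⟨x, hx, hx2⟩ := (Nat.dvd_prime_pow Nat.prime_two).1 (Dvd.intro _ h1)
  obtain ⟨y, hy, hy2⟩ := (Nat.dvd_prime_pow Nat.prime_two).1 (Dvd.intro_left _ h1)
  have h3 : 2 ^ y = 2 ^ x + 2 := by
    have h2 : 1 ≤ 3 ^ b := Nat.one_le_pow _ _ (by norm_num)
    omega
  have h4 : x ≤ 1 := by
    by_contra hx1
    have h5 : 4 ∣ 2 ^ x := by
      obtain ⟨k, rfl⟩ : ∃ k, x = 2 + k := ⟨x - 2, by omega⟩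
      rw [pow_add]; exact dvd_mul_right _ _
    have h6 : 2 ≤ y := by
      by_contra h7
      have : 2 ^ y ≤ 2 ^ 1 := Nat.pow_le_pow_right (by norm_num) (by omega)
      have : 0 < 2 ^ x := by positivity
      omega
    have h7 : 4 ∣ 2 ^ y := by
      obtain ⟨k, rfl⟩ : ∃ k, y = 2 + k := ⟨y - 2, by omega⟩
      rw [pow_add]; exact dvd_mul_right _ _
    omega
  have h5 : 2 ^ x ≤ 2 := by
    calc 2 ^ x ≤ 2 ^ 1 := Nat.pow_le_pow_right (by norm_num) h4
      _ = 2 := by norm_num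
  have h6 : (3 ^ b - 1) * (3 ^ b + 1) ≤ 2 * 4 := Nat.mul_le_mul (by omega) (by omega)
  have h7 : 2 ^ 4 ≤ 2 ^ j := Nat.pow_le_pow_right (by norm_num) hj
  omega

/-- (G3) `q = 2`, `n` odd, `n ≥ 9` -/
theorem near_two_odd {F : Type*} [Field F] [Fintype F] (hF : Fintype.card F = 2 ^ 2) (hn : 9 ≤ n) (ho : Odd n)
    {u : ℕ} (hu : u.Prime) (h1 : Far1 n 2 u) : Near (PSU n F 2) u := by
  obtain ⟨j, rfl⟩ := ho
  have hph : ph 2 (2 * j + 1 - 2) = 2 ^ (2 * j) - 1 := by
    rw [ph_odd (by rw [Nat.not_even_iff_odd]; exact ⟨j - 1, by omega⟩)]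
    congr 2
    omega
  rcases Nat.even_or_odd j with hj | hj
  · apply near_far1_of hF (by omega) hu (s := 5) (by norm_num) (i := 3) (by omega)
      (by unfold ph; rw [if_neg (by decide)]; norm_num) h1 _ (by norm_num)
    refine ⟨?_, by norm_num⟩
    rw [hph]
    obtain ⟨k, rfl⟩ := hj
    rw [show 2 * (k + k) = 4 * k by ring, pow_mul]
    have := Nat.sub_dvd_pow_sub_pow (2 ^ 4) 1 k
    rw [one_pow] at this
    exact dvd_trans (by norm_num) this
  · have h3 : ∃ s, s.Prime ∧ s ∣ 2 ^ j + 1 ∧ s ≠ 3 := by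
      by_contra hcon
      push Not at hcon
      have h4 := Nat.eq_prime_pow_of_unique_prime_dvd (p := 3) (n := 2 ^ j + 1) (by positivity)
        (fun {d} hd hdd => hcon d hd hdd)
      exact not_pow_three (by omega) h4
    obtain ⟨s, hs, hsd, hs3⟩ := h3
    have hs2 : s ≠ 2 := by
      rintro rfl
      have h5 : 2 ∣ 2 ^ j := dvd_pow_self 2 (by omega)
      have := (Nat.dvd_add_right h5).1 hsd
      norm_num at this
    apply near_far1_of hF (by omega) hu hs (i := j - 1) (by omega)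
      (by
        have he : Even (j - 1) := by
          obtain ⟨k, rfl⟩ := hj
          exact ⟨k, by omega⟩
        rw [ph_even he, Nat.sub_add_cancel (by omega)]
        exact hsd) h1 _ hs2
    refine ⟨?_, ?_⟩
    · rw [hph]
      refine dvd_trans hsd ?_
      have : 2 ^ (2 * j) - 1 = (2 ^ j + 1) * (2 ^ j - 1) := by
        rw [mul_comm 2 j, pow_mul, ← sq_sub_one (2 ^ j) (Nat.one_le_pow _ _ (by norm_num))]
      rw [this]
      exact dvd_mul_right _ _
    · intro h
      exact hs3 ((Nat.prime_dvd_prime_iff_eq hs Nat.prime_three).1 h)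

/-- the element `diag(d, d, d⁻²)` -/
noncomputable def T3 (F : Type*) [Field F] (d : F) : Module.End F ((F × F) × F) :=
  LinearMap.prodMap (d • (1 : Module.End F (F × F))) ((d ^ 2)⁻¹ • (1 : Module.End F F))

theorem T3_pow (d : F) (k : ℕ) : T3 F d ^ k = T3 F (d ^ k) := by
  unfold T3
  rw [prodMap_pow, smul_pow, smul_pow, one_pow, one_pow, inv_pow, ← pow_mul, ← pow_mul, mul_comm]

theorem iso_smul {V : Type*} [AddCommGroup V] [Module F V] {B : V →ₛₗ[cj hF] V →ₗ[F] F} {d : F}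
    (hd : d ^ (q + 1) = 1) : Iso B (d • (1 : Module.End F V)) := by
  intro x y
  rw [LinearMap.smul_apply, LinearMap.smul_apply, Module.End.one_apply, Module.End.one_apply,
    LinearMap.map_smulₛₗ₂, map_smul, cj_apply, smul_eq_mul, smul_eq_mul, ← mul_assoc, ← pow_succ, hd, one_mul]

theorem ne_zero_of_norm {d : F} (hd : d ^ (q + 1) = 1) : d ≠ 0 := by
  rintro rfl
  rw [zero_pow (by omega)] at hd
  exact zero_ne_one hd

/-- the Hermitian space `(F ⊕ F) ⊕ F` -/
def B3 (hF : Fintype.card F = q ^ 2) : ((F × F) × F) →ₛₗ[cj hF] ((F × F) × F) →ₗ[F] F :=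
  prodForm (prodForm (oneForm hF) (oneForm hF)) (oneForm hF)

theorem herm_B3 : IsHerm hF (B3 hF) := isHerm_prod (isHerm_prod isHerm_one isHerm_one) isHerm_one

theorem iso_T3 {d : F} (hd : d ^ (q + 1) = 1) : Iso (B3 hF) (T3 F d) := by
  refine iso_prod (iso_smul hd) (iso_smul ?_)
  rw [inv_pow, ← pow_mul, mul_comm, pow_mul, hd, one_pow, inv_one]

theorem det_T3 {d : F} (hd : d ≠ 0) : LinearMap.det (T3 F d) = 1 := by
  unfold T3
  rw [det_prod, LinearMap.det_smul, LinearMap.det_smul, map_one, map_one, Module.finrank_prod,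
    Module.finrank_self, pow_one, mul_one, mul_one]
  exact mul_inv_cancel₀ (pow_ne_zero _ hd)

theorem exists_T3 (hF : Fintype.card F = q ^ 2) (hq : q ≠ 2) :
    ∃ (s : ℕ) (d : F), s.Prime ∧ s ∣ q + 1 ∧ d ^ (q + 1) = 1 ∧ ¬ IsScal (T3 F d) ∧ IsScal (T3 F d ^ s) := by
  have h2 := two_le hF
  obtain ⟨c₀, hc₀, hc1⟩ := exists_unit_order hF (N := q + 1) (by
    rw [sq_sub_one q (by omega)]; exact dvd_mul_right _ _)
  have hc0 := ne_zero_of_norm hc1
  have hns : ¬ IsScal (T3 F c₀) := by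
    rintro ⟨e, he⟩
    have h3 := he ((1, 0), 1)
    have h4 : c₀ = e := by
      have := congrArg (fun z : (F × F) × F => z.1.1) h3
      simpa [T3] using this
    have h5 : (c₀ ^ 2)⁻¹ = e := by
      have := congrArg (fun z : (F × F) × F => z.2) h3
      simpa [T3] using this
    have h6 : c₀ ^ 3 = 1 := by
      rw [← h4] at h5
      rw [pow_succ]
      nth_rewrite 2 [← h5]
      exact mul_inv_cancel₀ (pow_ne_zero _ hc0)
    have h7 : q + 1 ∣ 3 := by rw [← hc₀]; exact orderOf_dvd_of_pow_eq_one h6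
    have := Nat.le_of_dvd (by norm_num) h7
    omega
  have hsc : IsScal (T3 F c₀ ^ (q + 1)) := by
    rw [T3_pow, hc1]
    refine ⟨1, fun x => ?_⟩
    simp [T3]
  obtain ⟨s, k, hs, hsd, h3, h4⟩ := exists_prime_power _ (q + 1) (by omega) hns hsc
  refine ⟨s, c₀ ^ k, hs, hsd, ?_, ?_, ?_⟩
  · rw [← pow_mul, mul_comm, pow_mul, hc1, one_pow]
  · rw [← T3_pow]; exact h3
  · rw [← T3_pow]; exact h4

theorem finrank_three : Module.finrank F ((F × F) × F) = 3 := by
  rw [Module.finrank_prod, Module.finrank_prod, Module.finrank_self]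

/-- `n = 3`, `q ≠ 2`: the odd primes dividing `q + 1` are near 2 -/
theorem near_q_add_one (hF : Fintype.card F = q ^ 2) (hq : q ≠ 2) {u : ℕ} (hu : u.Prime) (hu2 : u ≠ 2)
    (hd : u ∣ q + 1) : Near (PSU 3 F q) u := by
  obtain ⟨s, d, hs, hsd, hd1, h1, h2⟩ := exists_T3 hF hq
  have hd0 := ne_zero_of_norm hd1
  have hs2 : s ≠ 2 → Adj (PSU 3 F q) s 2 := by
    intro hs2
    obtain ⟨T, hT, hdT, hT2, hT1⟩ := exists_invol hF
    refine adj_of_iso (herm_B3 (hF := hF)) finrank_three le_rfl hs Nat.prime_two (iso_T3 hd1) (iso_prod hT Iso.one)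
      (det_T3 hd0) ?_ ?_ h1 ?_ h2 ?_ hs2
    · rw [det_prod, hdT, map_one, one_mul]
    · exact commute_prod ((Commute.one_left T).smul_left d) (Commute.one_right _)
    · exact not_isScal_of (prodMap_one_ne hT1) (x := ((0 : F × F), (1 : F))) (by simp) (by
        simp only [LinearMap.prodMap_apply, Module.End.one_apply, Prod.mk.injEq, and_true]; exact map_zero T)
    · rw [prodMap_pow, pow_two, hT2, one_pow]
      refine ⟨1, fun x => ?_⟩
      simp
  have hus : u ≠ s → Adj (PSU 3 F q) u s := by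
    intro hus
    have hq2 := two_le hF
    obtain ⟨c, hc, hc1⟩ := exists_unit_order hF (N := u) (by
      rw [sq_sub_one q (by omega)]; exact Dvd.dvd.mul_right hd _)
    have hcq : c ^ (q + 1) = 1 := by
      obtain ⟨k, hk⟩ := hd
      rw [hk, pow_mul, hc1, one_pow]
    have hc0 := ne_zero_of_norm hcq
    refine adj_of_iso (herm_B3 (hF := hF)) finrank_three le_rfl hu hs
      (S := LinearMap.prodMap (LinearMap.prodMap (c • (1 : Module.End F F)) (c⁻¹ • (1 : Module.End F F))) 1)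
      (iso_prod (iso_prod (iso_smul hcq) (iso_smul (by rw [inv_pow, hcq, inv_one]))) Iso.one) (iso_T3 hd1)
      ?_ (det_T3 hd0) ?_ ?_ h1 ?_ h2 hus
    · rw [det_prod, det_prod, map_one, LinearMap.det_smul, LinearMap.det_smul, map_one, Module.finrank_self]
      simp [hc0]
    · refine commute_prod ?_ (Commute.one_left _)
      exact (Commute.one_right _).smul_right d
    · have hne : (LinearMap.prodMap (LinearMap.prodMap (c • (1 : Module.End F F)) (c⁻¹ • (1 : Module.End F F)))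
          (1 : Module.End F F)) ≠ 1 := by
        intro h
        have := congrArg (fun z : (F × F) × F => z.1.1) (LinearMap.congr_fun h ((1, 0), 0))
        simp at this
        rw [this, orderOf_one] at hc
        exact hu.one_lt.ne hc
      exact not_isScal_of hne (x := ((0 : F × F), (1 : F))) (by simp) (by simp)
    · rw [prodMap_pow, prodMap_pow, smul_pow, smul_pow, one_pow, inv_pow, hc1]
      refine ⟨1, fun x => ?_⟩
      simp
  by_cases h3 : u = s
  · rw [h3]
    rw [h3] at hu2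
    exact Near.of_adj (hs2 hu2)
  · by_cases h4 : s = 2
    · have h5 := hus h3
      rw [h4] at h5
      exact Near.of_adj h5
    · exact Near.of_adj_adj (hus h3) (hs2 h4)

/-- **the trichotomy** -/
theorem near_or (hF : Fintype.card F = q ^ 2) (hn : 3 ≤ n) (h32 : ¬ (n = 3 ∧ q = 2)) {u : ℕ} (hu : u.Prime)
    (hu2 : u ≠ 2) (hd : u ∣ Nat.card (PSU n F q)) :
    Near (PSU n F q) u ∨ Far2 n q u ∨ (4 ≤ n ∧ Far1 n q u ∧ (q + 1) ∣ n) := by
  have h2 := two_le hF
  rcases prime_dvd_card_PSU hF (by omega) hu hd with h | ⟨i, hi, hid⟩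
  · exact Or.inl (Near.of_adj (adj_two_of_char hF hn hu hu2 h))
  by_cases hn4 : 4 ≤ n
  · rcases Nat.lt_or_ge i (n - 2) with h1 | h1
    · exact Or.inl (Near.of_adj (adj_two_of_lt hF hn4 hu hu2 h1 hid))
    by_cases hq1 : u ∣ q + 1
    · exact Or.inl (Near.of_adj (adj_two_of_lt hF hn4 hu hu2 (i := 0) (by omega) (by rw [ph_zero]; exact hq1)))
    rcases Nat.lt_or_ge i (n - 1) with h3 | h3
    · have h4 : i = n - 2 := by omega
      have h5 : Far1 n q u := ⟨by rw [← h4]; exact hid, hq1⟩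
      by_cases h6 : (q + 1) ∣ n
      · exact Or.inr (Or.inr ⟨hn4, h5, h6⟩)
      · exact Or.inl (near_far1 hF hn h6 hu h5)
    · have h4 : i = n - 1 := by omega
      exact Or.inr (Or.inl ⟨by rw [← h4]; exact hid, hq1⟩)
  · obtain rfl : n = 3 := by omega
    have hq2 : q ≠ 2 := fun h => h32 ⟨rfl, h⟩
    by_cases hq1 : u ∣ q + 1
    · exact Or.inl (near_q_add_one hF hq2 hu hu2 hq1)
    interval_cases i
    · exact absurd (by rw [ph_zero] at hid; exact hid) hq1
    · left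
      rcases Nat.even_or_odd q with he | he
      · exact near_far1 hF le_rfl (fun h => by
          have := Nat.le_of_dvd (by norm_num) h
          omega) hu ⟨hid, hq1⟩
      · exact Near.of_adj (adj_two_of_odd hF he le_rfl hu hu2 (dvd_card_SU hF le_rfl (by omega) hid))
    · exact Or.inr (Or.inl ⟨hid, hq1⟩)

/-- **mixed far primes** -/
theorem mixed (hF : Fintype.card F = q ^ 2) (hn4 : 4 ≤ n) {p r : ℕ} (hp : p.Prime) (hr : r.Prime) (hp2 : p ≠ 2)
    (hr2 : r ≠ 2) (hqn : (q + 1) ∣ n) (h1 : Far1 n q p) (h2 : Far2 n q r) :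
    Near (PSU n F q) p ∨ Near (PSU n F q) r ∨ (n = 4 ∧ q = 3) ∨ (n = 6 ∧ q = 2) := by
  have hq2 := two_le hF
  by_cases hp1 : p ∣ q - 1
  · exact Or.inl (Near.of_adj (adj_two_of_lt hF hn4 hp hp2 (i := 1) (by omega)
      (by rw [ph_one (by omega)]; exact Dvd.dvd.mul_left hp1 _)))
  by_cases hr1 : r ∣ q - 1
  · exact Or.inr (Or.inl (Near.of_adj (adj_two_of_lt hF hn4 hr hr2 (i := 1) (by omega)
      (by rw [ph_one (by omega)]; exact Dvd.dvd.mul_left hr1 _))))
  obtain ⟨k, hk⟩ := hqn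
  rcases Nat.even_or_odd n with hne | hno
  · rcases Nat.lt_or_ge q 4 with hq4 | hq4
    · interval_cases q
      · by_cases h6 : n = 6
        · exact Or.inr (Or.inr (Or.inr ⟨h6, rfl⟩))
        · have h62 : 6 ∣ n := by
            obtain ⟨l, hl⟩ := hne
            omega
          have : 12 ≤ n := by
            obtain ⟨l, hl⟩ := h62
            omega
          exact Or.inr (Or.inl (near_two_even hF this h62 hr h2))
      · by_cases h4 : n = 4
        · exact Or.inr (Or.inr (Or.inl ⟨h4, rfl⟩))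
        · have h42 : 4 ∣ n := ⟨k, hk⟩
          exact Or.inr (Or.inl (near_three hF (by omega) h42 hr h2))
    · exact Or.inr (Or.inl (near_far2_even hF hn4 hne hq4 hr h2 hr1))
  · have hqe : Even q := by
      rcases Nat.even_or_odd q with h | h
      · exact h
      · have : Even n := by
          rw [hk]
          exact h.add_one.mul_right k
        exact absurd hno (Nat.not_odd_iff_even.2 this)
    rcases Nat.lt_or_ge q 4 with hq4 | hq4
    · have hq2' : q = 2 := by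
        obtain ⟨l, hl⟩ := hqe
        omega
      subst hq2'
      have : 9 ≤ n := by
        obtain ⟨l, hl⟩ := hno
        omega
      exact Or.inl (near_two_odd hF this hno hp h1)
    · exact Or.inl (near_far1_odd hF hn4 hno hq4 hp h1 hp1)

/-- **at most two components, apart from `(4, 3)`, `(6, 2)`** -/
theorem psu_two (hF : Fintype.card F = q ^ 2) (hn : 3 ≤ n) (h32 : ¬ (n = 3 ∧ q = 2)) {p r : ℕ} (hp : p.Prime)
    (hr : r.Prime) (hp2 : p ≠ 2) (hr2 : r ≠ 2) (hpr : p ≠ r) (hpd : p ∣ Nat.card (PSU n F q))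
    (hrd : r ∣ Nat.card (PSU n F q)) :
    Near (PSU n F q) p ∨ Near (PSU n F q) r ∨ Adj (PSU n F q) p r ∨ (n = 4 ∧ q = 3) ∨ (n = 6 ∧ q = 2) := by
  rcases near_or hF hn h32 hp hp2 hpd with h1 | h1 | ⟨hn4, h1, hd1⟩
  · exact Or.inl h1
  · rcases near_or hF hn h32 hr hr2 hrd with h2 | h2 | ⟨hn4, h2, hd2⟩
    · exact Or.inr (Or.inl h2)
    · exact Or.inr (Or.inr (Or.inl (adj_far2 hF hn hp hr hpr h1 h2)))
    · rcases mixed hF hn4 hr hp hr2 hp2 hd2 h2 h1 with h | h | h
      · exact Or.inr (Or.inl h)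
      · exact Or.inl h
      · exact Or.inr (Or.inr (Or.inr h))
  · rcases near_or hF hn h32 hr hr2 hrd with h2 | h2 | ⟨-, h2, hd2⟩
    · exact Or.inr (Or.inl h2)
    · rcases mixed hF hn4 hp hr hp2 hr2 hd1 h1 h2 with h | h | h
      · exact Or.inl h
      · exact Or.inr (Or.inl h)
      · exact Or.inr (Or.inr (Or.inr h))
    · exact Or.inr (Or.inr (Or.inl (adj_far1 hF hn hp hr hpr h1 h2)))

/-- the row of the three-component theorem -/
theorem psu_three {S : Type*} [Group S] (hS : IsPSU S) {p r : ℕ} (hp : p.Prime)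
    (hr : r.Prime) (hp2 : p ≠ 2) (hr2 : r ≠ 2) (hpd : p ∣ Nat.card S) (hrd : r ∣ Nat.card S) :
    Conn S 2 p ∨ Conn S 2 r ∨ Conn S p r ∨
      (∃ (F : Type) (_ : Field F) (_ : Fintype F), Fintype.card F = 3 ^ 2 ∧ Nonempty (S ≃* PSU 4 F 3)) ∨
      (∃ (F : Type) (_ : Field F) (_ : Fintype F), Fintype.card F = 2 ^ 2 ∧ Nonempty (S ≃* PSU 6 F 2)) := by
  obtain ⟨F, _, _, n, q, hF, hn, h32, ⟨e⟩⟩ := hS
  rw [Nat.card_congr e.toEquiv] at hpd hrd
  by_cases hpr : p = r
  · subst hpr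
    exact Or.inr (Or.inr (Or.inl Relation.ReflTransGen.refl))
  rcases psu_two hF hn h32 hp hr hp2 hr2 hpr hpd hrd with h | h | h | ⟨rfl, rfl⟩ | ⟨rfl, rfl⟩
  · exact Or.inl (((Cfsg.Agent.H94.PG.conn_congr e).2 h.conn).symm)
  · exact Or.inr (Or.inl (((Cfsg.Agent.H94.PG.conn_congr e).2 h.conn).symm))
  · exact Or.inr (Or.inr (Or.inl ((Cfsg.Agent.H94.PG.conn_congr e).2 h.conn)))
  · exact Or.inr (Or.inr (Or.inr (Or.inl ⟨F, _, _, hF, ⟨e⟩⟩)))
  · exact Or.inr (Or.inr (Or.inr (Or.inr ⟨F, _, _, hF, ⟨e⟩⟩)))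

/-- the exceptional cases: `PSU_4(3)` has odd far primes 5, 7; `PSU_6(2)` has 7, 11 -/
theorem psu_four_three {F : Type*} [Field F] [Fintype F] (hF : Fintype.card F = 3 ^ 2) {u : ℕ} (hu : u.Prime)
    (hd : u ∣ Nat.card (PSU 4 F 3)) : Near (PSU 4 F 3) u ∨ u = 5 ∨ u = 7 := by
  by_cases hu2 : u = 2
  · exact Or.inl (Or.inl hu2)
  rcases near_or hF (by norm_num) (by norm_num) hu hu2 hd with h | h | ⟨-, h, -⟩
  · exact Or.inl h
  · have h1 : u ∣ 2 ^ 4 * 5 := by
      have := h.1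
      rw [ph_odd (by decide)] at this
      norm_num at this ⊢
      exact this
    rcases (Nat.Prime.dvd_mul hu).1 h1 with h2 | h2
    · exact absurd ((Nat.prime_dvd_prime_iff_eq hu Nat.prime_two).1 (hu.dvd_of_dvd_pow h2)) hu2
    · exact Or.inr (Or.inl ((Nat.prime_dvd_prime_iff_eq hu (by norm_num)).1 h2))
  · have h1 : u ∣ 2 ^ 2 * 7 := by
      have := h.1
      rw [ph_even (by decide)] at this
      norm_num at this ⊢
      exact this
    rcases (Nat.Prime.dvd_mul hu).1 h1 with h2 | h2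
    · exact absurd ((Nat.prime_dvd_prime_iff_eq hu Nat.prime_two).1 (hu.dvd_of_dvd_pow h2)) hu2
    · exact Or.inr (Or.inr ((Nat.prime_dvd_prime_iff_eq hu (by norm_num)).1 h2))

theorem psu_six_two {F : Type*} [Field F] [Fintype F] (hF : Fintype.card F = 2 ^ 2) {u : ℕ} (hu : u.Prime)
    (hd : u ∣ Nat.card (PSU 6 F 2)) : Near (PSU 6 F 2) u ∨ u = 7 ∨ u = 11 := by
  by_cases hu2 : u = 2
  · exact Or.inl (Or.inl hu2)
  rcases near_or hF (by norm_num) (by norm_num) hu hu2 hd with h | h | ⟨-, h, -⟩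
  · exact Or.inl h
  · have h1 : u ∣ 3 ^ 2 * 7 := by
      have := h.1
      rw [ph_odd (by decide)] at this
      norm_num at this ⊢
      exact this
    rcases (Nat.Prime.dvd_mul hu).1 h1 with h2 | h2
    · have h3 := (Nat.prime_dvd_prime_iff_eq hu Nat.prime_three).1 (hu.dvd_of_dvd_pow h2)
      exact absurd (by rw [h3]) h.2
    · exact Or.inr (Or.inl ((Nat.prime_dvd_prime_iff_eq hu (by norm_num)).1 h2))
  · have h1 : u ∣ 3 * 11 := by
      have := h.1
      rw [ph_even (by decide)] at this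
      norm_num at this ⊢
      exact this
    rcases (Nat.Prime.dvd_mul hu).1 h1 with h2 | h2
    · have h3 := (Nat.prime_dvd_prime_iff_eq hu Nat.prime_three).1 h2
      exact absurd (by rw [h3]) h.2
    · exact Or.inr (Or.inr ((Nat.prime_dvd_prime_iff_eq hu (by norm_num)).1 h2))

end Tori

end Cfsg.Agent.H948.UMain
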