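import Cfsg.Agent.H948.SynLoc
import Cfsg.Agent.H248.DichChev
import Cfsg.Agent.H400.LieLocal
import Cfsg.Agent.S4613

/-!
# S4286: in a group of Lie type of characteristic `p` the part of `p` is `{p}` (helper948)

* `dvd_index` : `G` simple of Lie type in characteristic `p`, `R ≠ 1` an `r`-subgroup, `r ≠ p`: `p ∣ |G : N(R)|`
  (a Sylow `p`-subgroup normalises no nontrivial `r`-subgroup);
* `opp_char`  : with `Cfg G S` every prime divisor `r ≠ p` of `|G|` is opposite to `p`;
* `eq_pow`    : so that `n_r` is a power of `p` for `r ≠ p`.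
-/

set_option autoImplicit false

namespace Cfsg.Agent.H948.SynLie

open Subgroup Cfsg Cfsg.Agent.H948.Syn

universe u

variable {G : Type u} [Group G]

/-- **a Sylow `p`-subgroup of a group of Lie type of characteristic `p` normalises no nontrivial `r`-subgroup** -/
theorem dvd_index [Finite G] [IsSimpleGroup G] (hG : ¬ IsMulCommutative G) {p r : ℕ} [hp : Fact p.Prime]
    [hr : Fact r.Prime] (hL : IsLieTypeChar p G) (hrp : r ≠ p) {R : Subgroup G}
    (hR : IsPGroup r R) (hR1 : R ≠ ⊥) : p ∣ (normalizer (R : Set G)).index := by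
  have hD : H248.Ovg.Dich p G := H248.Ovg.dich_of_chev (Or.inl hL)
  by_cases hsz : p = 2 ∧ Lie.IsoSuzuki G
  · -- the Suzuki groups: TI Sylow subgroups
    obtain ⟨rfl, hs⟩ := hsz
    by_contra hcon
    set M := normalizer (R : Set G) with hM
    have hMtop : M ≠ ⊤ := normalizer_ne_top hG hR hR1
    have h1 : pCore 2 ↥M ≠ ⊥ := fun h => hMtop (hD.eq_top M h hcon)
    set V : Subgroup G := (pCore 2 ↥M).map M.subtype with hV
    have hVp : IsPGroup 2 V := (Lib.Cores.pCore_isPGroup 2).map _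
    have hV1 : V ≠ ⊥ := fun h => h1 ((Subgroup.map_eq_bot_iff_of_injective _ M.subtype_injective).1 h)
    have hVM : V ≤ M := map_subtype_le _
    have hMV : M ≤ normalizer (V : Set G) := by
      intro g hg
      rw [mem_normalizer_iff]
      intro x
      constructor
      · rintro ⟨y, hy, rfl⟩
        exact ⟨⟨g, hg⟩ * y * ⟨g, hg⟩⁻¹, (Lib.Cores.pCore_normal 2).conj_mem _ hy _, rfl⟩
      · rintro ⟨y, hy, e⟩
        refine ⟨⟨g, hg⟩⁻¹ * y * ⟨g, hg⟩, ?_, ?_⟩
        · have := (Lib.Cores.pCore_normal (G := ↥M) 2).conj_mem _ hy (⟨g, hg⟩⁻¹)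
          rwa [inv_inv] at this
        · change g⁻¹ * (y : G) * g = x
          have e' : (y : G) = g * x * g⁻¹ := e
          rw [e']
          group
    have hRM : R ≤ M := le_normalizer
    have hcard : ∀ {q : ℕ} [Fact q.Prime] (U : Subgroup G), IsPGroup q U → q ≠ r →
        (Nat.card R).Coprime (Nat.card U) := by
      intro q hq U hU hqr
      obtain ⟨a, ha⟩ := IsPGroup.iff_card.1 hR
      obtain ⟨b, hb⟩ := IsPGroup.iff_card.1 hU
      rw [ha, hb]
      exact Nat.Coprime.pow _ _ ((Nat.coprime_primes hr.out hq.out).2 hqr.symm)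
    have hcomm := SynLoc.comm_of_coprime hRM hVM le_rfl hMV (hcard V hVp hrp.symm)
    obtain ⟨P, hPM⟩ := exists_sylow_le M hcon
    have hVP : V ≤ (P : Subgroup G) := by
      have h3 : IsPGroup 2 ((P : Subgroup G) ⊔ V : Subgroup G) :=
        IsPGroup.to_sup_of_normal_right' P.isPGroup' hVp (hPM.trans hMV)
      exact le_sup_right.trans (P.is_maximal' h3 le_sup_left).le
    obtain ⟨⟨v, hv⟩, hv1'⟩ := Subgroup.ne_bot_iff_exists_ne_one.1 hV1
    have hv1 : v ≠ 1 := fun h => hv1' (Subtype.ext h)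
    have hRP : R ≤ normalizer ((P : Subgroup G) : Set G) := by
      have key : ∀ x ∈ R, ∀ y ∈ (P : Subgroup G), x⁻¹ * y * x ∈ (P : Subgroup G) := by
        intro x hx
        refine H400.LieLocal.ti_of_suzuki hs P x ⟨v, hVP hv, hv1, ?_⟩
        have h2 : x⁻¹ * v * x = v := by
          rw [mul_assoc, ← hcomm x hx v hv, inv_mul_cancel_left]
        rw [h2]
        exact hVP hv
      intro x hx
      rw [mem_normalizer_iff]
      intro y
      constructor
      · intro hy
        have := key x⁻¹ (R.inv_mem hx) y hy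
        rwa [inv_inv] at this
      · intro hy
        have := key x hx _ hy
        have e : x⁻¹ * (x * y * x⁻¹) * x = y := by group
        rwa [e] at this
    -- `R` centralises `P`
    have hPc : ∀ x ∈ R, ∀ y ∈ (P : Subgroup G), x * y = y * x := by
      have hPn : (P : Subgroup G) ≤ normalizer ((P : Subgroup G) : Set G) := le_normalizer
      refine SynLoc.comm_of_coprime (M := R ⊔ (P : Subgroup G)) le_sup_left le_sup_right
        (sup_le le_normalizer hPM) (sup_le hRP hPn) (hcard _ P.isPGroup' hrp.symm)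
    obtain ⟨⟨x, hx⟩, hx1'⟩ := Subgroup.ne_bot_iff_exists_ne_one.1 hR1
    have hx1 : x ≠ 1 := fun h => hx1' (Subtype.ext h)
    apply hx1
    have h5 : ¬ 2 ∣ orderOf (MulAut.conj x) := by
      intro h
      have h6 : 2 ∣ orderOf x := h.trans (orderOf_map_dvd _ _)
      obtain ⟨n, hn⟩ := hR ⟨x, hx⟩
      have hn' : x ^ r ^ n = 1 := congrArg Subtype.val hn
      have h7 := h6.trans (orderOf_dvd_of_pow_eq_one hn')
      exact hrp ((Nat.prime_dvd_prime_iff_eq Nat.prime_two hr.out).1 (Nat.prime_two.dvd_of_dvd_pow h7)).symm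
    have h6 := Cfsg.Agent.S4613.result 2 hL (MulAut.conj x) h5 P (fun y hy => by
      rw [MulAut.conj_apply, hPc x hx y hy, mul_inv_cancel_right])
    have h7 : x ∈ center G := by
      rw [mem_center_iff]
      intro g
      have h8 : MulAut.conj x g = g := by rw [h6]; rfl
      rw [MulAut.conj_apply] at h8
      calc g * x = x * g * x⁻¹ * x := by rw [h8]
        _ = x * g := by group
    rw [center_eq_bot hG, mem_bot] at h7
    exact h7
  · exact SynLoc.dvd_of_local hG hD (H400.LieLocal.local_char_of_lie hL hsz) hrp hR hR1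

/-- **the part of the characteristic is a single prime** -/
theorem opp_char [Finite G] {S : Set ℕ} (h : Cfg G S) {p : ℕ} (hp : p.Prime) (hL : IsLieTypeChar p G) {r : ℕ}
    (hr : r.Prime) (hrG : r ∣ Nat.card G) (hrp : r ≠ p) : ¬ (r ∈ S ↔ p ∈ S) := by
  have := Fact.mk hr
  have := Fact.mk hp
  have := h.simple
  obtain ⟨R⟩ : Nonempty (Sylow r G) := inferInstance
  refine h.opp_of_dvd hr hp ?_
  rw [Syn.card_eq_index R]
  exact dvd_index h.nonab hL hrp R.2 (R.ne_bot_of_dvd_card hrG)

/-- **the Sylow numbers are powers of `p`** -/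
theorem eq_pow [Finite G] {S : Set ℕ} (h : Cfg G S) {p : ℕ} (hp : p.Prime) (hL : IsLieTypeChar p G) {r : ℕ}
    (hr : r.Prime) (hrG : r ∣ Nat.card G) (hrp : r ≠ p) : ∃ a : ℕ, 1 ≤ a ∧ Nat.card (Sylow r G) = p ^ a :=
  h.eq_pow (fun _ ht htG htp => opp_char h hp hL ht htG htp) hr hrG hrp

/-- no element of order `r s` for distinct primes `r`, `s ≠ p` -/
theorem false_of_two [Finite G] {S : Set ℕ} (h : Cfg G S) {p : ℕ} (hp : p.Prime) (hL : IsLieTypeChar p G) {r s : ℕ}
    (hr : r.Prime) (hs : s.Prime) (hrG : r ∣ Nat.card G) (hsG : s ∣ Nat.card G) (hrp : r ≠ p) (hsp : s ≠ p)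
    (hn : ∀ x y : G, orderOf x = r → orderOf y = s → x * y ≠ y * x) : False :=
  h.false_of_two hr hs hrG hsG (opp_char h hp hL hr hrG hrp) (opp_char h hp hL hs hsG hsp) hn

/-- no proper subgroup of index prime to `p` and to a prime divisor `r ≠ p` of `|G|` -/
theorem false_of_index [Finite G] {S : Set ℕ} (h : Cfg G S) {p : ℕ} (hp : p.Prime) (hL : IsLieTypeChar p G) {r : ℕ}
    (hr : r.Prime) (hrG : r ∣ Nat.card G) (hrp : r ≠ p) {P : Subgroup G} (hP : P ≠ ⊤) (hpP : ¬ p ∣ P.index)
    (hrP : ¬ r ∣ P.index) : False := by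
  refine h.kl hP hr hrG hrP fun t ht htP => ?_
  have h1 := opp_char h hp hL hr hrG hrp
  have h2 := opp_char h hp hL ht (htP.trans (Subgroup.index_dvd_card P)) (fun h => hpP (h ▸ htP))
  tauto

end Cfsg.Agent.H948.SynLie
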