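import Mathlib
import Cfsg.Agent.H288.E8L.Iface
import Cfsg.Agent.H948.E8.RegPar
import Cfsg.Agent.KFacts.RgdFiltChev

/-!
# `E8L.BT`: Borel–Tits for a 3-subgroup of `E₈(3)` normalised by a regular semisimple element
-/

set_option autoImplicit false
set_option linter.unusedSectionVars false

namespace Cfsg.Agent.H948.E8BT

open CoxeterSystem Cfsg Cfsg.Lie Cfsg.Lie.ChevalleyDatum
open Cfsg.Agent.ChevalleyStructure Cfsg.Agent.ChevalleyStructure.Elts Cfsg.Agent.ChevalleyStructure.CoxeterGeom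
  Cfsg.Agent.ChevalleyStructure.CoxeterGeomTypes
open Cfsg.Agent.Tits.Roots Cfsg.Agent.Tits.Core Cfsg.Agent.Nodes Cfsg.Agent.Nodes.Reps Cfsg.Agent.Nodes.BNOf
  Cfsg.Agent.Nodes.RGDChev Cfsg.Agent.Nodes.Bruhat
open Cfsg.Agent.GpExc.Field Cfsg.Agent.BpExc.TowChev Cfsg.Agent.H129.TorusChar
open Cfsg.Agent.KFacts Cfsg.Agent.KFacts.RgdChevCoord Cfsg.Agent.H948.E8.RegPar

universe u

section Gen

variable {D : ChevalleyDatum} {l : ℕ} {M : CoxeterMatrix (Fin l)} (hp : IsType D l M) {W : Type*} [Group W]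
  (cs : CoxeterSystem M W) {k : Type u} [Field k] (hk : LocFin k) (r : ℕ) [Fact r.Prime] [CharP k r]

include hk r

/-- regularity of the torus elements of the levels -/
theorem regular_lev {E : Lev k} {t : ↥(D.group ↥E.1)} (ht : t ∈ TT D ↥E.1)
    (hreg : ∀ a, IsRoot cs hp.isCartan a → cX hp (emb hp.inList E.1.subtype t) a ≠ 1) :
    Regular cs hp.isCartan (XX D l ↥E.1) t := by
  intro x hx a ha hc
  have C := (coordsL (k := k) hp cs hk r).coord x hx
  have hT : emb hp.inList E.1.subtype t ∈ TT D k := emb_T hp _ ⟨t, ht, rfl⟩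
  have hX : emb hp.inList E.1.subtype a ∈ XX D l k x := emb_X hp _ cs hx ⟨a, ha, rfl⟩
  obtain ⟨s, hs⟩ := (C.mem _).1 hX
  have h1 := C.act _ hT s
  have h2 : emb hp.inList E.1.subtype t * emb hp.inList E.1.subtype a * (emb hp.inList E.1.subtype t)⁻¹ =
      emb hp.inList E.1.subtype a := by
    rw [← map_mul, hc, map_mul, mul_inv_cancel_right]
  rw [hs, h2, ← hs] at h1
  have h3 := C.inj h1
  have h4 : ch hp x (emb hp.inList E.1.subtype t) ≠ 1 := by
    rw [← cX_root hp cs hT hx]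
    exact hreg x hx
  have h5 : s = 0 := by
    by_contra h0
    apply h4
    exact (mul_eq_right₀ h0).1 h3.symm
  apply emb_injective hp.inList E.1.subtype
  rw [map_one, ← hs, h5]
  exact C.zero

/-- **Borel–Tits with a regular element in `D.group k`, `k` locally finite.** -/
theorem bt_gen {K : Subgroup ↥(D.group k)} (hfin : (K : Set ↥(D.group k)).Finite) (hK : IsPGroup r K)
    {y z t : ↥(D.group k)} (hy : y ∈ Subgroup.normalizer (K : Set ↥(D.group k))) (hz : z⁻¹ * y * z = t)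
    (ht : t ∈ TT D k) (hreg : ∀ a, IsRoot cs hp.isCartan a → cX hp t a ≠ 1) :
    ∃ f : (Fin l → ℤ) →+ ℤ, ∀ u ∈ K, z⁻¹ * u * z ∈ RGD.Sup (XX D l k) {a | IsRoot cs hp.isCartan a ∧ 0 < f a} := by
  have hWf := finite_W hp cs
  obtain ⟨E1, h1⟩ := exists_TT hp hk ht
  obtain ⟨E2, h2⟩ := exists_level_finite hp hk (S := (K : Set ↥(D.group k)) ∪ {z}) (hfin.union (Set.finite_singleton z))
  obtain ⟨E, h3, h4⟩ := dir_lev hk E1 E2
  obtain ⟨t', ht', rfl⟩ := h1 E h3
  have hr := h2 E h4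
  have := charP_lev r E.1
  set f := emb hp.inList E.1.subtype with hf
  have hinj : Function.Injective f := emb_injective hp.inList _
  obtain ⟨z', rfl⟩ := hr (Or.inr rfl)
  obtain ⟨y', rfl⟩ : ∃ y', f y' = y := by
    refine ⟨z' * t' * z'⁻¹, ?_⟩
    rw [map_mul, map_mul, map_inv, ← hz]; group
  have hKr : K ≤ f.range := fun u hu => hr (Or.inl hu)
  have hmap : (K.comap f).map f = K := by
    rw [Subgroup.map_comap_eq, inf_eq_right]
    exact hKr
  have hK' : IsPGroup r (K.comap f) := hK.comap_of_injective f hinj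
  have hy' : y' ∈ Subgroup.normalizer (K.comap f : Set ↥(D.group ↥E.1)) := by
    rw [Subgroup.mem_normalizer_iff] at hy ⊢
    intro u
    have := hy (f u)
    rw [← map_inv, ← map_mul, ← map_mul] at this
    exact this
  have hz' : z'⁻¹ * y' * z' = t' := by
    apply hinj
    rw [map_mul, map_mul, map_inv]
    exact hz
  have hGG : GG cs hp.isCartan (TT D ↥E.1) (XX D l ↥E.1) = ⊤ := by
    rw [eq_top_iff, ← G1_eq_top hp cs]
    exact le_sup_right
  have : Finite ↥(D.group ↥E.1) := finite_group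
  obtain ⟨F, hF⟩ := borel_tits_reg (rgd (K := ↥E.1) hp cs r) (RgdFiltChev.filt (K := ↥E.1) hp cs r) hGG hK' hy' hz'
    ht' (regular_lev hp cs hk r ht' hreg)
  refine ⟨F, fun u hu => ?_⟩
  rw [← hmap] at hu
  obtain ⟨u', hu', rfl⟩ := hu
  have h5 := hF u' hu'
  rw [← map_inv, ← map_mul, ← map_mul]
  have h6 : RGD.Sup (XX D l ↥E.1) {a | IsRoot cs hp.isCartan a ∧ 0 < F a} ≤
      (RGD.Sup (XX D l k) {a | IsRoot cs hp.isCartan a ∧ 0 < F a}).comap f := by
    refine RGD.Sup_le fun a ha => ?_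
    intro x hx
    exact RGD.le_Sup (S := {a | IsRoot cs hp.isCartan a ∧ 0 < F a}) ha (emb_X hp _ cs ha.1 ⟨x, hx, rfl⟩)
  exact h6 h5

end Gen

/-- a form of `bt_gen` for images of subgroups -/
theorem bt_map {D : ChevalleyDatum} {l : ℕ} {M : CoxeterMatrix (Fin l)} (hp : IsType D l M) {W : Type*} [Group W]
    (cs : CoxeterSystem M W) {k : Type u} [Field k] (hk : LocFin k) (r : ℕ) [Fact r.Prime] [CharP k r]
    {G : Type*} [Group G] [Finite G] (φ : G →* ↥(D.group k)) {U : Subgroup G} {y : G} {z t : ↥(D.group k)}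
    (hU : IsPGroup r U) (hy : y ∈ Subgroup.normalizer (U : Set G)) (hz : z⁻¹ * φ y * z = t) (ht : t ∈ TT D k)
    (hreg : ∀ a, IsRoot cs hp.isCartan a → cX hp t a ≠ 1) :
    ∃ f : (Fin l → ℤ) →+ ℤ, ∀ u ∈ U, z⁻¹ * φ u * z ∈ RGD.Sup (XX D l k) {a | IsRoot cs hp.isCartan a ∧ 0 < f a} := by
  have h1 : IsPGroup r (U.map φ) := hU.map φ
  have h2 : φ y ∈ Subgroup.normalizer ((U.map φ : Subgroup ↥(D.group k)) : Set ↥(D.group k)) := by
    have h3 := Subgroup.le_normalizer_map (H := U) φ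
    exact h3 ⟨y, hy, rfl⟩
  have hfin : ((U.map φ : Subgroup ↥(D.group k)) : Set ↥(D.group k)).Finite := by
    rw [Subgroup.coe_map]
    exact (Set.toFinite _).image _
  obtain ⟨f, hf⟩ := bt_gen hp cs hk r hfin h1 h2 hz ht hreg
  exact ⟨f, fun u hu => hf _ ⟨u, hu, rfl⟩⟩

/-- **BT.** -/
theorem bt : Cfsg.Agent.H288.E8L.BT := by
  intro U y z t hU hy hz ht
  have : Fact (Nat.Prime 3) := ⟨Nat.prime_three⟩
  have hfinG : Finite ↥(chevE8.group (ZMod 3)) := finite_group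
  exact bt_map (D := chevE8) Cfsg.Agent.H942.E8Tab.e8T Cfsg.Agent.H942.CB.cs8 (k := Cfsg.Agent.H288.E8L.K8)
    Cfsg.Agent.H288.E8L.locFin8 3 Cfsg.Agent.H288.E8L.emb8 hU hy hz ht.1 ht.2

end Cfsg.Agent.H948.E8BT
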