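import Cfsg.Agent.H948.OutSheet
import Cfsg.Agent.KFacts.HN.Sheet
import Cfsg.Agent.KFacts.SheetIso
import Cfsg.Agent.H55.OutGen

/-!
# S3842, S4094, S4095 at the prime `2`: the outer row of the Harada-Norton group (helper948)
-/

set_option autoImplicit false

namespace Cfsg.Agent.H948

open Subgroup Cfsg
open Cfsg.Agent.H509.TwoFrame

universe u

/-- In the context `Ctx 2 L x`, `L ≅ HN`, `2 ∣ o(x)`: `x ∈ L`. -/
theorem mem_of_hn {G : Type u} [Group G] [Finite G] {L : Subgroup G} (h : Cfsg.Spor.IsoHN L) {x : G} (C : Ctx 2 L x)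
    (hx : 2 ∣ orderOf x) : x ∈ L := by
  obtain ⟨e⟩ := h
  refine mem_of_sheetE (Cfsg.Agent.KFacts.SheetIso.sheetE_map e.symm Cfsg.Agent.KFacts.HN.sheetE) ?_ C hx
  rw [Cfsg.Agent.H55.OutGen.index_range_conj_congr e]
  exact Cfsg.Agent.KFacts.HN.out_index

/-- **the outer row `HN`** -/
theorem outrow_hn {G : Type u} [Group G] [Finite G] {L : Subgroup G} (h : Cfsg.Spor.IsoHN L) {x : G} (C : Ctx 2 L x)
    (hx : x ∉ L) (h2 : 2 ∣ orderOf x) : False := hx (mem_of_hn h C h2)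

end Cfsg.Agent.H948
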