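import Cfsg.Agent.H451.OutRowON
import Cfsg.Agent.OddHalf.D8.Sheet

/-!
# S3842, S4094, S4095 at the prime `2`: groups with a sheet of type (E) (helper948)

`mem_of_sheetE` : in `Ctx 2 L x` with `2 ∣ o(x)`, a sheet `SheetE z P R` of `L` and `|Out L| ≤ 2` imply `x ∈ L`.
-/

set_option autoImplicit false

namespace Cfsg.Agent.H948

open Subgroup Cfsg
open Cfsg.Agent.H509.TwoFrame
open Cfsg.Agent.OddHalf.D8.Sheet

universe u

variable {G : Type u} [Group G] [Finite G] {L : Subgroup G} {x : G}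

omit [Finite G] in
/-- An element of `G` inducing an inner automorphism of `L` lies in `L`. -/
theorem mem_of_conj (hc : centralizer (L : Set G) = ⊥) {y : G} (u : L)
    (h : ∀ l : L, y * l * y⁻¹ = ((u * l * u⁻¹ : L) : G)) : y ∈ L := by
  have h1 : (u : G)⁻¹ * y ∈ centralizer (L : Set G) := by
    rw [mem_centralizer_iff]
    intro l hl
    have h3 : y * l * y⁻¹ = u * l * (u : G)⁻¹ := h ⟨l, hl⟩
    calc l * ((u : G)⁻¹ * y) = (u : G)⁻¹ * (u * l * (u : G)⁻¹) * y := by group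
      _ = (u : G)⁻¹ * (y * l * y⁻¹) * y := by rw [h3]
      _ = (u : G)⁻¹ * y * l := by group
  rw [hc, mem_bot] at h1
  have h3 : y = u := by
    calc y = u * ((u : G)⁻¹ * y) := by group
      _ = u := by rw [h1, mul_one]
  rw [h3]
  exact u.2

omit [Finite G] in
/-- The squares of `G` lie in `L` if `|Out L| ≤ 2`. -/
theorem sq_mem (hL : L.Normal) (hc : centralizer (L : Set G) = ⊥)
    (ho : (MulAut.conj : L →* MulAut L).range.index = 1 ∨ (MulAut.conj : L →* MulAut L).range.index = 2) (y : G) :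
    y * y ∈ L := by
  let α : MulAut L := MulAut.conjNormal y
  have hα : ∀ l : L, ((α l : L) : G) = y * l * y⁻¹ := fun l => MulAut.conjNormal_apply y l
  have h1 : α * α ∈ (MulAut.conj : L →* MulAut L).range := by
    rcases ho with h | h
    · rw [index_eq_one.1 h]
      trivial
    · exact mul_self_mem_of_index_two h α
  obtain ⟨u, hu⟩ := h1
  refine mem_of_conj hc u fun l => ?_
  have h2 : ((α (α l) : L) : G) = ((u * l * u⁻¹ : L) : G) := by
    have := congrArg (fun β : MulAut L => ((β l : L) : G)) hu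
    exact this.symm
  rw [← h2, hα, hα]
  group

/-- **The frame row** for groups with a sheet of type (E). -/
theorem mem_of_sheetE {z : L} {P R : Subgroup L} (hS : SheetE z P R)
    (ho : (MulAut.conj : L →* MulAut L).range.index = 1 ∨ (MulAut.conj : L →* MulAut L).range.index = 2)
    (C : Ctx 2 L x) (hx : 2 ∣ orderOf x) : x ∈ L := by
  have h2 : Fact (Nat.Prime 2) := ⟨Nat.prime_two⟩
  have hL := C.normal
  obtain ⟨Sy, hzS, hcS, hZS⟩ := hS.syl
  obtain ⟨g, hg⟩ := Cfsg.Agent.H451.InRow.exists_conj_cent C hx hS.z1 Sy hzS hcS hZS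
  obtain ⟨y, hy⟩ : ∃ y, y = g * x * g⁻¹ := ⟨_, rfl⟩
  rw [← hy] at hg
  have Cy : Ctx 2 L y := by rw [hy]; exact C.conj g
  -- the 2-part of `y`
  obtain ⟨k, m, hm, he⟩ := Nat.exists_eq_pow_mul_and_not_dvd (orderOf_pos x).ne' 2 (by norm_num)
  have hyo : orderOf y = 2 ^ k * m := by
    rw [hy, ← he]
    exact orderOf_injective (MulAut.conj g).toMonoidHom (MulAut.conj g).injective x
  have hk : (y ^ (m : ℤ)) ^ 2 ^ k = 1 := by
    rw [zpow_natCast, ← pow_mul, mul_comm, ← hyo, pow_orderOf_eq_one]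
  -- the centralizer of `z`
  obtain ⟨D, hDd⟩ : ∃ D : Subgroup G, D = centralizer ({(z : G)} : Set G) := ⟨_, rfl⟩
  have hmD : ∀ y, y ∈ D ↔ y * (z : G) = z * y := fun y => by rw [hDd, mem_centralizer_singleton_iff]
  have hDt : D ≠ ⊤ := by
    intro h
    have h3 : (z : G) ∈ centralizer (L : Set G) := by
      rw [mem_centralizer_iff]
      intro g _
      exact (hmD g).1 (by rw [h]; trivial)
    rw [C.cent, mem_bot] at h3
    exact hS.z1 (Subtype.ext h3)
  have hyD : y ∈ D := (hmD y).2 hg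
  obtain ⟨w, hw⟩ : ∃ w, w = y ^ (m : ℤ) := ⟨_, rfl⟩
  have hwc : w ∈ core 2 D := by rw [hw]; exact Cy.mem_core hyD hDt hk
  have hwD : w ∈ D := core_le 2 D hwc
  let α : MulAut L := MulAut.conjNormal w
  have hα : ∀ l : L, ((α l : L) : G) = w * l * w⁻¹ := fun l => MulAut.conjNormal_apply w l
  have hαz : α z = z := by
    apply Subtype.ext
    rw [hα, (hmD w).1 hwD]
    group
  have hα2 : IsPGroup 2 (zpowers α) := by
    have h1 : α ^ 2 ^ k = 1 := by
      have h3 : α ^ 2 ^ k = MulAut.conjNormal (w ^ 2 ^ k) := (map_pow MulAut.conjNormal w (2 ^ k)).symm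
      rw [h3, hw, hk, map_one]
    rintro ⟨β, n, rfl⟩
    refine ⟨k, Subtype.ext ?_⟩
    show (α ^ n) ^ 2 ^ k = 1
    rw [← zpow_natCast, ← zpow_mul, mul_comm, zpow_mul, zpow_natCast, h1, one_zpow]
  have hαP : ∀ p ∈ P, p⁻¹ * α p ∈ R := by
    intro p hp
    have h1 : α p ∈ P := map_P hS.perf hS.cen hS.der α hαz hp
    have h3 : p⁻¹ * α p ∈ P := P.mul_mem (P.inv_mem hp) h1
    have hPD : ∀ p ∈ P, (p : G) ∈ D := fun p hp => (hmD _).2 (congrArg Subtype.val (hS.cen p hp))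
    have h4 : (((core 2 D).comap L.subtype) ⊓ P) ≤ R := by
      apply hS.Rmax _ inf_le_right
      · exact ((core_isPGroup 2 D).comap_of_injective L.subtype L.subtype_injective).to_le inf_le_left
      · rintro q hq b ⟨hb, hbP⟩
        exact ⟨core_conj hb (hPD q hq), P.mul_mem (P.mul_mem hq hbP) (P.inv_mem hq)⟩
    apply h4
    refine ⟨?_, h3⟩
    show ((p⁻¹ * α p : L) : G) ∈ core 2 D
    have h5 : ((p⁻¹ * α p : L) : G) = ((p : G)⁻¹ * w * ((p : G)⁻¹)⁻¹) * w⁻¹ := by
      show ((p : L) : G)⁻¹ * ((α p : L) : G) = _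
      rw [hα]
      group
    rw [h5]
    exact mul_mem (core_conj hwc (inv_mem (hPD p hp))) (inv_mem hwc)
  obtain ⟨r, -, hr⟩ := hS.aut α hα2 hαz hαP
  have hwL : w ∈ L := by
    refine mem_of_conj C.cent r fun l => ?_
    rw [← hα l, hr]
    rfl
  -- `x ^ m ∈ L` and `x * x ∈ L`
  have hxm : x ^ m ∈ L := by
    have h1 := hL.conj_mem w hwL g⁻¹
    have h3 : g⁻¹ * w * g⁻¹⁻¹ = x ^ m := by
      rw [hw, hy, zpow_natCast, conj_pow]
      group
    rwa [h3] at h1
  have hxx : x * x ∈ L := sq_mem hL C.cent ho x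
  obtain ⟨j, hj⟩ : ∃ j, m = 2 * j + 1 := by
    rcases Nat.even_or_odd' m with ⟨j, h | h⟩
    · exact absurd ⟨j, h⟩ hm
    · exact ⟨j, h⟩
  have h3 : x = ((x * x) ^ j)⁻¹ * x ^ m := by
    rw [hj, pow_succ, pow_mul, pow_two]
    group
  rw [h3]
  exact mul_mem (inv_mem (pow_mem hxx j)) hxm

end Cfsg.Agent.H948
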