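import Cfsg.Agent.H948.SynPSL
import Cfsg.Agent.H169.ExcRows
import Cfsg.Agent.H169.ExcG2
import Cfsg.Agent.H169.ExcD4
import Cfsg.Agent.H169.ExcTw
import Cfsg.Agent.H169.ExcRank
import Cfsg.Agent.S1059
import Cfsg.Agent.S1067

/-!
# S4286: the exceptional groups of Lie type (helper948)
-/

set_option autoImplicit false

namespace Cfsg.Agent.H948.SynExc

open Subgroup Cfsg Cfsg.Lie Cfsg.Agent.H948.Syn Cfsg.Agent.H948.SynPSL
open Cfsg.Agent.H163.PG (Adj Has3Out charP_of)
open Cfsg.Agent.ChevalleyStructure.CoxeterGeomTypes Cfsg.Agent.Nodes.RGDChev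

universe u

variable {G : Type u} [Group G]

/-- `G₂(3)`: the primes `7` and `13` -/
theorem g2_three {F : Type} [Field F] [Fintype F] (hF : Fintype.card F = 3) {S : Set ℕ}
    (h : Cfg ↥(chevG2.group F) S) : False := by
  have hp : IsType chevG2 2 CoxeterMatrix.G₂ := by simp [IsType, typeList]
  have hc : CharP F 3 := charP_of (f := 1) Nat.prime_three (by rw [hF, pow_one])
  have hL : IsLieTypeChar 3 ↥(chevG2.group F) :=
    Or.inr (Or.inr (Or.inr (Or.inr (Or.inr (Or.inr (Or.inl
      ⟨F, inferInstance, inferInstance, hc, Or.inl ⟨hF.ge, ⟨MulEquiv.refl _⟩⟩⟩))))))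
  have hcard := Cfsg.Agent.S1059.result (F := F) hF
  have hfin : Finite ↥(chevG2.group F) := by
    have : Finite (GL chevG2.Idx F) := inferInstance
    infer_instance
  have o7 : orderOf ((3 : ℕ) : ZMod 7) = 6 := by
    rw [orderOf_eq_iff (by norm_num)]
    refine ⟨by decide, ?_⟩
    intro m hm hm0
    interval_cases m <;> decide
  have o13 : orderOf ((3 : ℕ) : ZMod 13) = 3 := by
    rw [orderOf_eq_iff (by norm_num)]
    refine ⟨by decide, ?_⟩
    intro m hm hm0
    interval_cases m <;> decide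
  refine false_lie h Nat.prime_three hL (r := 7) (s := 13) (by norm_num) (by norm_num) (by norm_num)
    (by rw [hcard]; norm_num) (by rw [hcard]; norm_num) (by norm_num) (by norm_num) ?_
  exact H169.ExcRows.no_adj hp hF (by norm_num) (by norm_num) (by norm_num) (by norm_num) (by norm_num) (by norm_num)
    o7 o13 (by norm_num) (by decide)

/-- `³D₄(2)`: the primes `7` and `13` -/
theorem d4_two {K : Type} [Field K] [Fintype K] (hK : Fintype.card K = 2 ^ 3) {S : Set ℕ}
    (h : Cfg ↥(twistedD4 K 2) S) : False := by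
  have hc : CharP K 2 := charP_of (f := 3) Nat.prime_two hK
  have hq : IsPrimePow 2 := Nat.prime_two.isPrimePow
  have := Fact.mk Nat.prime_two
  have hL : IsLieTypeChar 2 ↥(twistedD4 K 2) :=
    Or.inr (Or.inr (Or.inr (Or.inr (Or.inr (Or.inr (Or.inr (Or.inl
      ⟨K, inferInstance, inferInstance, hc, 2, hq, Or.inr ⟨hK, ⟨MulEquiv.refl _⟩⟩⟩)))))))
  have hcard := Cfsg.Agent.S1067.result (K := K) hq hK
  have hfin : Finite ↥(twistedD4 K 2) := by
    have : Finite (GL chevD4.Idx K) := inferInstance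
    infer_instance
  have o7 : orderOf ((2 ^ 1 : ℕ) : ZMod 7) = 3 := by
    rw [orderOf_eq_iff (by norm_num)]
    refine ⟨by decide, ?_⟩
    intro m hm hm0
    interval_cases m <;> decide
  have o13 : orderOf ((2 ^ 1 : ℕ) : ZMod 13) = 12 := by
    rw [orderOf_eq_iff (by norm_num)]
    refine ⟨by decide, ?_⟩
    intro m hm hm0
    interval_cases m <;> decide
  refine false_lie h Nat.prime_two hL (r := 7) (s := 13) (by norm_num) (by norm_num) (by norm_num)
    (by rw [hcard]; norm_num) (by rw [hcard]; norm_num) (by norm_num) (by norm_num) ?_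
  exact H169.ExcD4.four_no_pair (p := 2) (f := 1) one_pos hK (by norm_num) (by norm_num) (by norm_num) (by norm_num)
    (by norm_num) (by norm_num) o7 o13 (by norm_num) (by decide)

theorem fin_group (D : ChevalleyDatum) (F : Type) [Field F] [Fintype F] : Finite ↥(D.group F) := by
  have : Finite (GL D.Idx F) := inferInstance
  infer_instance

/-- **all exceptional groups of Lie type (the Tits group excepted)** -/
theorem isExceptional [Finite G] {S : Set ℕ} (h : Cfg G S) (hG : IsExceptionalLieType G) (hT : ¬ IsoTits G) :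
    False := by
  rcases hG with hG | hG | hG | hG | hG | hG | hG | hG | hG | hG | hG
  · obtain ⟨F, _, _, h3, ⟨e⟩⟩ := hG
    have := fin_group chevG2 F
    have h' := h.congr e
    by_cases hF3 : Fintype.card F = 3
    · exact g2_three hF3 h'
    · obtain ⟨p, f, hp, hf, hF⟩ := H163.PG.exists_pf F
      have := Fact.mk hp
      have hc := charP_of hp hF
      exact h'.false_of_has3Out (H169.ExcG2.g2_of_three_le F hf hF (by omega) (by omega))
  · obtain ⟨F, _, _, ⟨e⟩⟩ := hG
    have := fin_group chevF4 F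
    exact (h.congr e).false_of_has3Out (H169.ExcRows.F4 F)
  · obtain ⟨F, _, _, ⟨e⟩⟩ := hG
    have := fin_group chevE6 F
    exact (h.congr e).false_of_has3Out (H169.ExcRows.E6 F)
  · obtain ⟨F, _, _, ⟨e⟩⟩ := hG
    have := fin_group chevE7 F
    exact (h.congr e).false_of_has3Out (H169.ExcRows.E7 F)
  · obtain ⟨F, _, _, ⟨e⟩⟩ := hG
    have := fin_group chevE8 F
    exact (h.congr e).false_of_has3Out (H169.ExcRows.E8 F)
  · obtain ⟨K, _, _, q, hq, hK, ⟨e⟩⟩ := hG
    have := Finite.of_equiv G e.toEquiv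
    exact (h.congr e).false_of_has3Out (H169.ExcTw.twE6 hq hK)
  · obtain ⟨K, _, _, q, hq, hK, ⟨e⟩⟩ := hG
    have := Finite.of_equiv G e.toEquiv
    by_cases h2 : q = 2
    · subst h2
      exact d4_two hK (h.congr e)
    · exact (h.congr e).false_of_has3Out (H169.ExcD4.twD4 hq hK h2)
  · obtain ⟨F, _, _, m, hm, hF, ⟨e⟩⟩ := hG
    have := Finite.of_equiv G e.toEquiv
    exact (h.congr e).false_of_has3Out (H169.ExcRank.suz hm hF)
  · obtain ⟨K, _, _, m, hm, hK, ⟨e⟩⟩ := hG
    have := Finite.of_equiv G e.toEquiv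
    exact (h.congr e).false_of_has3Out (H169.ExcRank.ree hm hK)
  · obtain ⟨K, _, _, m, hm, hK, ⟨e⟩⟩ := hG
    have := Finite.of_equiv G e.toEquiv
    exact (h.congr e).false_of_has3Out (H169.ExcRank.twF4 hm hK)
  · exact hT hG

end Cfsg.Agent.H948.SynExc
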