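import Cfsg.Agent.H948.SynPSL
import Cfsg.Agent.H149.PGO
import Cfsg.Agent.H149.PGO3
import Cfsg.Agent.H149.PGOGoal
import Cfsg.Agent.LieClassical.OrthForms

/-!
# S4286: the groups `PΩ⁺_{2m}(q)`, `PΩ⁻_{2m}(q)` (helper948)
-/

set_option autoImplicit false

namespace Cfsg.Agent.H948.SynPO

open Subgroup Cfsg Cfsg.Agent.H948.Syn Cfsg.Agent.H163.PG Cfsg.Agent.H948.SynPSL
open Cfsg.Agent.LieClassical.OrthForms

universe u

variable {G : Type u} [Group G]

/-- `PΩ⁺_8(2)`: the primes `5` and `7` -/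
theorem eight {F : Type} [Field F] [Fintype F] (hF : Fintype.card F = 2) {S : Set ℕ}
    (h : Cfg (POmega F (quadFormPlus 4 F)) S) : False := by
  have hc : CharP F 2 := charP_of (f := 1) Nat.prime_two (by rw [hF, pow_one])
  have := Fact.mk Nat.prime_two
  have hL : IsLieTypeChar 2 (POmega F (quadFormPlus 4 F)) :=
    Or.inr (Or.inr (Or.inr (Or.inr (Or.inl
      ⟨F, inferInstance, inferInstance, hc, 4, le_rfl, ⟨MulEquiv.refl _⟩⟩))))
  have o5 : orderOf ((Fintype.card F : ℕ) : ZMod 5) = 4 := by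
    rw [hF, orderOf_eq_iff (by norm_num)]
    refine ⟨by decide, ?_⟩
    intro m hm hm0
    interval_cases m <;> decide
  have o7 : orderOf ((Fintype.card F : ℕ) : ZMod 7) = 3 := by
    rw [hF, orderOf_eq_iff (by norm_num)]
    refine ⟨by decide, ?_⟩
    intro m hm hm0
    interval_cases m <;> decide
  have hfin : Finite (POmega F (quadFormPlus 4 F)) := inferInstance
  refine false_lie h Nat.prime_two hL (r := 5) (s := 7) (by norm_num) (by norm_num) (by norm_num)
    (H149.PGO.dvd_plus (F := F) (m := 4) le_rfl (by norm_num) (by norm_num) o5 (Or.inl dvd_rfl))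
    (H149.PGO.dvd_plus (F := F) (m := 4) le_rfl (by norm_num) (by norm_num) o7
      (Or.inr ⟨2, by norm_num, by norm_num⟩)) (by norm_num) (by norm_num) ?_
  have key := H149.PGO.orth_nonadj (p := 2) (plusForm 4 F) (nondeg_plusForm 4 F) (by decide) (r := 5) (s := 7)
    (by norm_num) (by norm_num) (by norm_num) (by norm_num) (by norm_num) (by norm_num) (by norm_num) o5.symm o7.symm
    (ηk := 2) (ηl := 3) (Or.inr ⟨by decide, rfl⟩) (Or.inl ⟨by decide, rfl⟩) (by norm_num)
    (by rintro ⟨t, -, ht⟩; omega) (by decide)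
  rw [coe_plusForm] at key
  exact key

/-- **all groups `PΩ⁺_{2m}(q)`** -/
theorem isPOmegaPlus [Finite G] {S : Set ℕ} (h : Cfg G S) (hG : IsPOmegaPlus G) : False := by
  obtain ⟨F, _, _, m, hm, ⟨e⟩⟩ := hG
  obtain ⟨p, f, hp, hf, hF⟩ := exists_pf F
  have := Fact.mk hp
  have h' := h.congr e
  have hfin : Finite (POmega F (quadFormPlus m F)) := inferInstance
  by_cases hex : m = 4 ∧ Fintype.card F = 2
  · obtain ⟨rfl, h2⟩ := hex
    exact eight h2 h'
  · exact h'.false_of_has3Out (H149.PGO.plus_has3Out hf hF hm hex (H149.PGO.card_out_plus hf hF hm))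

/-- **all groups `PΩ⁻_{2m}(q)`** -/
theorem isPOmegaMinus [Finite G] {S : Set ℕ} (h : Cfg G S) (hG : IsPOmegaMinus G) : False := by
  obtain ⟨F, _, _, m, a, b, hm, hab, ⟨e⟩⟩ := hG
  obtain ⟨p, f, hp, hf, hF⟩ := exists_pf F
  have := Fact.mk hp
  have h' := h.congr e
  have hfin : Finite (POmega F (quadFormMinus (m - 1) F a b)) := inferInstance
  exact h'.false_of_has3Out (H149.PGO.minus_has3Out hf hF hm a b hab (H149.PGO.card_out_minus hf hF hm a b hab))

end Cfsg.Agent.H948.SynPO
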