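import Cfsg.Agent.H948.SynThree
import Cfsg.Agent.H948.SynLie
import Cfsg.Agent.H163.PG.Ord
import Cfsg.Agent.H163.PG.PslN
import Cfsg.Agent.H163.PG.PspN
import Cfsg.Agent.S2468
import Cfsg.Agent.S2475
import Cfsg.Agent.S2476

/-!
# S4286: the groups `PSL_n(q)` (helper948)
-/

set_option autoImplicit false

namespace Cfsg.Agent.H948.SynPSL

open Subgroup Cfsg Cfsg.Agent.H948.Syn Cfsg.Agent.H163.PG

universe u

variable {G : Type u} [Group G]

/-- two non-adjacent primes different from the characteristic -/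
theorem false_lie [Finite G] {S : Set ℕ} (h : Cfg G S) {p : ℕ} (hp : p.Prime) (hL : IsLieTypeChar p G) {r s : ℕ}
    (hr : r.Prime) (hs : s.Prime) (hrs : r ≠ s) (hrG : r ∣ Nat.card G) (hsG : s ∣ Nat.card G) (hrp : r ≠ p)
    (hsp : s ≠ p) (hn : ¬ Adj G r s) : False :=
  SynLie.false_of_two h hp hL hr hs hrG hsG hrp hsp fun _ _ hx hy hxy => hn (adj_of_commute hr hs hrs hx hy hxy)

theorem ne_of_dvd_sub {p f r : ℕ} (hp : p.Prime) (hf : 1 ≤ f) (hr : r.Prime) (h : r ∣ p ^ f - 1) : r ≠ p := by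
  rintro rfl
  have h1 : r ∣ r ^ f := dvd_pow_self r (by omega)
  have h2 : r ∣ r ^ f - (r ^ f - 1) := Nat.dvd_sub h1 h
  have h3 : 1 ≤ r ^ f := Nat.one_le_pow _ _ hr.pos
  rw [show r ^ f - (r ^ f - 1) = 1 by omega] at h2
  exact hr.one_lt.ne' (Nat.dvd_one.1 h2)

theorem ne_of_dvd_add {p f r m : ℕ} (hf : 1 ≤ f) (hr : r.Prime) (h : r ∣ p ^ f * m + 1) : r ≠ p := by
  rintro rfl
  have h1 : r ∣ r ^ f * m := Dvd.dvd.mul_right (dvd_pow_self r (by omega)) m
  exact hr.one_lt.ne' (Nat.dvd_one.1 ((Nat.dvd_add_right h1).1 h))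

theorem dvd_of_range {H : Type*} [Group H] [Finite H] {A : Set ℕ} (h : Set.range (orderOf : H → ℕ) = A) {r : ℕ}
    (hr : r ∈ A) : r ∣ Nat.card H := by
  rw [← h] at hr
  obtain ⟨x, rfl⟩ := hr
  exact orderOf_dvd_natCard x

/-- `PSL_2(q)` -/
theorem two {F : Type} [Field F] [Fintype F] {p f : ℕ} (hp : p.Prime) (hf : 1 ≤ f) (hF : Fintype.card F = p ^ f)
    (h4 : 4 ≤ Fintype.card F) {S : Set ℕ} (h : Cfg (Matrix.ProjectiveSpecialLinearGroup (Fin 2) F) S)
    (hL : IsLieTypeChar p (Matrix.ProjectiveSpecialLinearGroup (Fin 2) F)) : False := by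
  have := Fact.mk hp
  have hc := charP_of hp hF
  have hspec := S2475.result (F := F) p h4
  set q := Fintype.card F with hq
  set d := Nat.gcd 2 (q - 1) with hd
  have hd0 : 0 < d := Nat.gcd_pos_of_pos_left _ two_pos
  have hd1 : d ∣ q - 1 := Nat.gcd_dvd_right _ _
  have hd2 : d ∣ 2 := Nat.gcd_dvd_left _ _
  have hd3 : d ∣ q + 1 := by
    have h1 := Nat.dvd_add hd1 hd2
    rwa [show q - 1 + 2 = q + 1 by omega] at h1
  obtain ⟨a, ha⟩ := hd1
  obtain ⟨b, hb⟩ := hd3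
  have ea : (q - 1) / d = a := by rw [ha, Nat.mul_div_cancel_left _ hd0]
  have eb : (q + 1) / d = b := by rw [hb, Nat.mul_div_cancel_left _ hd0]
  have hd12 : d = 1 ∨ d = 2 := (Nat.dvd_prime Nat.prime_two).1 hd2
  have ha1 : a ≠ 1 := by
    rintro rfl
    rcases hd12 with h1 | h1 <;> omega
  have hb1 : b ≠ 1 := by
    rintro rfl
    rcases hd12 with h1 | h1 <;> omega
  obtain ⟨r, hr, hra⟩ := Nat.exists_prime_and_dvd ha1
  obtain ⟨s, hs, hsb⟩ := Nat.exists_prime_and_dvd hb1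
  have hco : ∀ t : ℕ, t.Prime → t ∣ a → t ∣ b → False := by
    intro t ht h1 h2
    rcases hd12 with h3 | h3
    · have h4 : t ∣ q - 1 := by rw [ha]; exact h1.mul_left d
      have h5 : t ∣ q + 1 := by rw [hb]; exact h2.mul_left d
      have h6 := Nat.dvd_sub h5 h4
      rw [show q + 1 - (q - 1) = 2 by omega] at h6
      have h7 := (Nat.prime_dvd_prime_iff_eq ht Nat.prime_two).1 h6
      rw [h7] at h4
      have h8 : 2 ∣ d := Nat.dvd_gcd dvd_rfl h4
      rw [h3] at h8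
      omega
    · have h4 : b = a + 1 := by rw [h3] at ha hb; omega
      have h5 := Nat.dvd_sub h2 h1
      rw [h4, Nat.add_sub_cancel_left] at h5
      exact ht.one_lt.ne' (Nat.dvd_one.1 h5)
  have hrs : r ≠ s := by
    rintro rfl
    exact hco r hr hra hsb
  have hrp : r ≠ p := ne_of_dvd_sub (f := f) hp hf hr (by rw [← hF, ha]; exact hra.mul_left d)
  have hsp : s ≠ p := ne_of_dvd_add (f := f) (m := 1) hf hs (by rw [← hF, mul_one, hb]; exact hsb.mul_left d)
  have hfin : Finite (Matrix.ProjectiveSpecialLinearGroup (Fin 2) F) := finite_psl 2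
  refine false_lie h hp hL hr hs hrs (dvd_of_range hspec (Or.inr (Or.inl ?_)))
    (dvd_of_range hspec (Or.inr (Or.inr ?_))) hrp hsp ?_
  · rw [ea]; exact hra
  · rw [eb]; exact hsb
  · rintro ⟨g, hg⟩
    have h1 : r * s ∈ Set.range (orderOf : Matrix.ProjectiveSpecialLinearGroup (Fin 2) F → ℕ) := ⟨g, hg⟩
    rw [hspec] at h1
    rcases h1 with h1 | h1 | h1
    · exact hrp ((Nat.prime_dvd_prime_iff_eq hr hp).1 ((Dvd.intro s rfl).trans h1))
    · rw [ea] at h1
      exact hco s hs ((Dvd.intro_left r rfl).trans h1) hsb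
    · rw [eb] at h1
      exact hco r hr hra ((Dvd.intro s rfl).trans h1)

/-- `PSL_3(q)` -/
theorem three {F : Type} [Field F] [Fintype F] {p f : ℕ} (hp : p.Prime) (hf : 1 ≤ f) (hF : Fintype.card F = p ^ f)
    {S : Set ℕ} (h : Cfg (Matrix.ProjectiveSpecialLinearGroup (Fin 3) F) S)
    (hL : IsLieTypeChar p (Matrix.ProjectiveSpecialLinearGroup (Fin 3) F)) : False := by
  have := Fact.mk hp
  have hc := charP_of hp hF
  have hspec := S2476.result (F := F) p
  set q := Fintype.card F with hq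
  have hq2 : 2 ≤ q := Fintype.one_lt_card
  set d := Nat.gcd 3 (q - 1) with hd
  have hd0 : 0 < d := Nat.gcd_pos_of_pos_left _ three_pos
  have hd13 : d = 1 ∨ d = 3 := (Nat.dvd_prime Nat.prime_three).1 (Nat.gcd_dvd_left _ _)
  have hd1 : d ∣ q - 1 := Nat.gcd_dvd_right _ _
  have hd2 : d ∣ q ^ 2 + q + 1 := by
    rcases hd13 with h1 | h1
    · rw [h1]; exact one_dvd _
    · rw [h1] at hd1 ⊢
      obtain ⟨t, ht⟩ := hd1
      have : q = 3 * t + 1 := by omega
      exact ⟨3 * t ^ 2 + 3 * t + 1, by rw [this]; ring⟩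
  obtain ⟨a, ha⟩ := hd2
  have ea : (q ^ 2 + q + 1) / d = a := by rw [ha, Nat.mul_div_cancel_left _ hd0]
  have h3a : ¬ 3 ∣ a := by
    rintro ⟨c, rfl⟩
    have h9 : 3 ∣ q ^ 2 + q + 1 := ⟨d * c, by rw [ha]; ring⟩
    have hq3 : q % 3 = 1 := by
      have h1 : (q ^ 2 + q + 1) % 3 = 0 := Nat.mod_eq_zero_of_dvd h9
      have h2 : q % 3 < 3 := Nat.mod_lt _ three_pos
      rw [Nat.add_mod, Nat.add_mod (q ^ 2), Nat.pow_mod] at h1
      interval_cases hq' : q % 3
      · norm_num at h1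
      · rfl
      · norm_num at h1
    have hd3 : d = 3 := by
      refine hd13.resolve_left fun h1 => ?_
      have h2 : 3 ∣ d := Nat.dvd_gcd dvd_rfl (by omega)
      omega
    obtain ⟨t, ht⟩ : ∃ t, q = 3 * t + 1 := ⟨q / 3, by omega⟩
    rw [hd3, ht] at ha
    have h5 : 9 * t ^ 2 + 9 * t + 3 = 9 * c := by
      have : (3 * t + 1) ^ 2 + (3 * t + 1) + 1 = 9 * t ^ 2 + 9 * t + 3 := by ring
      rw [← this, ha]; ring
    omega
  have ha1 : a ≠ 1 := by
    rintro rfl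
    rcases hd13 with h1 | h1
    · rw [h1] at ha; nlinarith
    · rw [h1] at ha; nlinarith
  obtain ⟨r, hr, hra⟩ := Nat.exists_prime_and_dvd ha1
  obtain ⟨s, hs, hsb⟩ := Nat.exists_prime_and_dvd (show q + 1 ≠ 1 by omega)
  have hrN : r ∣ q ^ 2 + q + 1 := by rw [ha]; exact hra.mul_left d
  have hr3 : r ≠ 3 := by rintro rfl; exact h3a hra
  have hsN : ¬ s ∣ q ^ 2 + q + 1 := by
    intro h1
    have h2 : s ∣ q * (q + 1) := hsb.mul_left q
    have h3 := (Nat.dvd_add_right h2).1 (by rwa [show q * (q + 1) + 1 = q ^ 2 + q + 1 by ring])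
    exact hs.one_lt.ne' (Nat.dvd_one.1 h3)
  have hrq1 : ¬ r ∣ q - 1 := by
    intro h1
    have h2 : r ∣ (q - 1) * (q + 2) := h1.mul_right _
    have h3 : (q - 1) * (q + 2) + 3 = q ^ 2 + q + 1 := by
      obtain ⟨t, ht⟩ : ∃ t, q = t + 1 := ⟨q - 1, by omega⟩
      rw [ht, Nat.add_sub_cancel]; ring
    have h4 := (Nat.dvd_add_right h2).1 (by rwa [h3])
    exact hr3 ((Nat.prime_dvd_prime_iff_eq hr Nat.prime_three).1 h4)
  have hrq2 : ¬ r ∣ q + 1 := by
    intro h1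
    have h2 : r ∣ q * (q + 1) := h1.mul_left q
    have h3 := (Nat.dvd_add_right h2).1 (by rwa [show q * (q + 1) + 1 = q ^ 2 + q + 1 by ring])
    exact hr.one_lt.ne' (Nat.dvd_one.1 h3)
  have hsq : q ^ 2 - 1 = (q + 1) * (q - 1) := by
    have := Nat.sq_sub_sq q 1
    simpa using this
  have hrs : r ≠ s := by
    rintro rfl
    exact hsN hrN
  have hrp : r ≠ p := ne_of_dvd_add (f := f) (m := q + 1) hf hr
    (by rw [← hF, show q * (q + 1) + 1 = q ^ 2 + q + 1 by ring]; exact hrN)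
  have hsp : s ≠ p := ne_of_dvd_add (f := f) (m := 1) hf hs (by rw [← hF, mul_one]; exact hsb)
  have hfin : Finite (Matrix.ProjectiveSpecialLinearGroup (Fin 3) F) := finite_psl 3
  have hrr : r ∣ Nat.card (Matrix.ProjectiveSpecialLinearGroup (Fin 3) F) :=
    dvd_of_range hspec (Or.inl (by rw [ea]; exact hra))
  have hss : s ∣ Nat.card (Matrix.ProjectiveSpecialLinearGroup (Fin 3) F) := by
    have h1 : (q ^ 2 - 1) / d ∣ Nat.card (Matrix.ProjectiveSpecialLinearGroup (Fin 3) F) :=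
      dvd_of_range hspec (Or.inr (Or.inl dvd_rfl))
    refine Dvd.dvd.trans ?_ h1
    obtain ⟨c, hc⟩ := hd1
    rw [hsq, hc, show (q + 1) * (d * c) = d * ((q + 1) * c) by ring, Nat.mul_div_cancel_left _ hd0]
    exact hsb.mul_right c
  refine false_lie h hp hL hr hs hrs hrr hss hrp hsp ?_
  rintro ⟨g, hg⟩
  have h1 : r * s ∈ Set.range (orderOf : Matrix.ProjectiveSpecialLinearGroup (Fin 3) F → ℕ) := ⟨g, hg⟩
  rw [hspec] at h1
  rcases h1 with h1 | h1 | h1 | h1 | ⟨-, h1⟩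
  · rw [ea] at h1
    exact hsN (((Dvd.intro_left r rfl).trans h1).trans (by rw [ha]; exact Dvd.intro_left d rfl))
  · have h2 : r ∣ (q ^ 2 - 1) / d := (Dvd.intro s rfl).trans h1
    have h3 : r ∣ q ^ 2 - 1 := h2.trans (Nat.div_dvd_of_dvd (by rw [hsq]; exact hd1.mul_left _))
    rw [hsq] at h3
    rcases hr.dvd_mul.1 h3 with h4 | h4
    · exact hrq2 h4
    · exact hrq1 h4
  · exact hrq1 ((Dvd.intro s rfl).trans h1)
  · have h2 : r ∣ p * (q - 1) / d := (Dvd.intro s rfl).trans h1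
    have h3 : r ∣ p * (q - 1) := h2.trans (Nat.div_dvd_of_dvd (hd1.mul_left _))
    rcases hr.dvd_mul.1 h3 with h4 | h4
    · exact hrp ((Nat.prime_dvd_prime_iff_eq hr hp).1 h4)
    · exact hrq1 h4
  · have e4 : (4 : ℕ) = 2 ^ 2 := by norm_num
    rw [e4] at h1
    have hr2 := (Nat.prime_dvd_prime_iff_eq hr Nat.prime_two).1 (hr.dvd_of_dvd_pow ((Dvd.intro s rfl).trans h1))
    have hs2 := (Nat.prime_dvd_prime_iff_eq hs Nat.prime_two).1 (hs.dvd_of_dvd_pow ((Dvd.intro_left r rfl).trans h1))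
    exact hrs (hr2.trans hs2.symm)

/-- `PSL_4(q)` -/
theorem four {F : Type} [Field F] [Fintype F] {p f : ℕ} (hp : p.Prime) (hf : 1 ≤ f) (hF : Fintype.card F = p ^ f)
    {S : Set ℕ} (h : Cfg (Matrix.ProjectiveSpecialLinearGroup (Fin 4) F) S)
    (hL : IsLieTypeChar p (Matrix.ProjectiveSpecialLinearGroup (Fin 4) F)) : False := by
  have := Fact.mk hp
  have hc := charP_of hp hF
  obtain ⟨r, hr, hor, -, hrp, hr2⟩ := exists_rk (p := p) (f := f) (k := 3) hp hf (by omega) (by omega)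
  obtain ⟨s, hs, hos, -, hsp, hs2⟩ := exists_rk (p := p) (f := f) (k := 4) hp hf (by omega) (by omega)
  rw [← hF] at hor hos
  have hrs : r ≠ s := by
    rintro rfl
    omega
  have hrG := dvd_psl (F := F) (n := 4) hr hor (by omega) (by omega)
  have hsG := dvd_psl (F := F) (n := 4) hs hos (by omega) (by omega)
  have hfin : Finite (Matrix.ProjectiveSpecialLinearGroup (Fin 4) F) := finite_psl 4
  refine false_lie h hp hL hr hs hrs hrG hsG hrp hsp ?_
  rintro ⟨g, hg⟩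
  exact (S2468.result (F := F) p 4 (by omega) (by omega) r s hr hs hr2 hs2 hrp hsp hrs hrG hsG 3 4 hor.symm hos.symm
    (by omega) (by omega)).2 ⟨by omega, by omega⟩ ⟨g, hg⟩

/-- **all groups `PSL_n(q)`** -/
theorem isPSL [Finite G] {S : Set ℕ} (h : Cfg G S) (hG : IsPSL G) : False := by
  obtain ⟨F, _, _, n, hn, h4, ⟨e⟩⟩ := hG
  obtain ⟨p, f, hp, hf, hF⟩ := exists_pf F
  have hc := charP_of hp hF
  have h' := h.congr e
  have hfin : Finite (Matrix.ProjectiveSpecialLinearGroup (Fin n) F) := finite_psl n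
  have hL : IsLieTypeChar p (Matrix.ProjectiveSpecialLinearGroup (Fin n) F) :=
    Or.inl ⟨F, inferInstance, inferInstance, hc, n, hn, h4, ⟨MulEquiv.refl _⟩⟩
  rcases (show n = 2 ∨ n = 3 ∨ n = 4 ∨ 5 ≤ n by omega) with rfl | rfl | rfl | h5
  · exact two hp hf hF (h4 rfl) h' hL
  · exact three hp hf hF h' hL
  · exact four hp hf hF h' hL
  · have hsimp := h'.simple
    exact h'.false_of_has3Out (has3Out_psl h5 (center_eq_bot h'.nonab))

end Cfsg.Agent.H948.SynPSL
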