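import Cfsg.Agent.H948.SynPSU
import Cfsg.Agent.S0822

/-!
# S4286: the groups `PSp_2m(q)`, `PΩ_{2m+1}(q)`, `PSU_n(q)` (helper948)
-/

set_option autoImplicit false

namespace Cfsg.Agent.H948.SynPSp

open Subgroup Cfsg Cfsg.Agent.H948.Syn Cfsg.Agent.H163.PG Cfsg.Agent.H948.SynPSL Cfsg.Agent.H948.SynPSU

universe u

variable {G : Type u} [Group G]

theorem lie_psp {F : Type} [Field F] [Fintype F] {p f m : ℕ} (hp : p.Prime) (hF : Fintype.card F = p ^ f)
    (hm : 2 ≤ m) (h3 : m = 2 → 3 ≤ Fintype.card F) {H : Type*} [Group H] (e : H ≃* PSp m F) : IsLieTypeChar p H :=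
  Or.inr (Or.inl ⟨F, inferInstance, inferInstance, charP_of hp hF, m, hm, h3, ⟨e⟩⟩)

theorem lie_psu {F : Type} [Field F] [Fintype F] {p f n q : ℕ} (hp : p.Prime) (hq : q = p ^ f)
    (hF : Fintype.card F = q ^ 2) (hn : 3 ≤ n) (h32 : ¬ (n = 3 ∧ q = 2)) {H : Type*} [Group H] (e : H ≃* PSU n F q) :
    IsLieTypeChar p H :=
  Or.inr (Or.inr (Or.inl ⟨F, inferInstance, inferInstance, charP_of2 hF hp hq, n, q, hF, hn, h32, ⟨e⟩⟩))

/-- `PSp_4(3) ≅ PSU_4(2)` -/
theorem small {K : Type} [Field K] [Fintype K] (hK : Fintype.card K = 3) {S : Set ℕ} (h : Cfg (PSp 2 K) S) :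
    False := by
  letI : Fintype (GaloisField 2 2) := Fintype.ofFinite _
  have h4 : Fintype.card (GaloisField 2 2) = 4 := by
    have : Nat.card (GaloisField 2 2) = 2 ^ 2 := GaloisField.card 2 2 two_ne_zero
    rw [Nat.card_eq_fintype_card] at this
    rw [this]
    norm_num
  obtain ⟨e⟩ := S0822.result (F := GaloisField 2 2) (K := K) h4 hK
  have h1 : IsLieTypeChar 3 (PSp 2 K) :=
    lie_psp (f := 1) Nat.prime_three (by rw [hK, pow_one]) le_rfl (fun _ => hK.ge) (MulEquiv.refl _)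
  have h2 : IsLieTypeChar 2 (PSp 2 K) :=
    lie_psu (f := 1) Nat.prime_two (pow_one 2).symm (by rw [h4]; norm_num) (by norm_num) (by norm_num) e.symm
  have hc := card_psp (F := K) (n := 2) (by norm_num)
  rw [hK] at hc
  have hc' : Nat.card (PSp 2 K) = 25920 := by
    have e1 : Nat.gcd 2 (3 - 1) = 2 := by norm_num
    rw [e1] at hc
    simp only [Finset.prod_range_succ, Finset.prod_range_zero] at hc
    norm_num at hc
    omega
  have hfin : Finite (PSp 2 K) := inferInstance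
  exact false_of_two_char h Nat.prime_three Nat.prime_two (by norm_num : Nat.Prime 5) (by norm_num) (by norm_num)
    (by norm_num) (by rw [hc']; norm_num) (by rw [hc']; norm_num) h1 h2

/-- an odd prime divisor of `q² - 1` -/
theorem exists_odd {q : ℕ} (hq : 4 ≤ q) : ∃ r : ℕ, r.Prime ∧ r ≠ 2 ∧ (r ∣ q - 1 ∨ r ∣ q + 1) := by
  have key : ∀ m : ℕ, m % 2 = 1 → m ≠ 1 → (m ∣ q - 1 ∨ m ∣ q + 1) →
      ∃ r : ℕ, r.Prime ∧ r ≠ 2 ∧ (r ∣ q - 1 ∨ r ∣ q + 1) := by
    intro m hm hm1 hd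
    obtain ⟨r, hr, hrm⟩ := Nat.exists_prime_and_dvd hm1
    refine ⟨r, hr, ?_, hd.imp hrm.trans hrm.trans⟩
    rintro rfl
    omega
  rcases Nat.even_or_odd q with ⟨k, hk⟩ | ⟨k, hk⟩
  · exact key (q - 1) (by omega) (by omega) (Or.inl dvd_rfl)
  · rcases Nat.even_or_odd k with ⟨j, hj⟩ | ⟨j, hj⟩
    · exact key (k + 1) (by omega) (by omega) (Or.inr ⟨2, by omega⟩)
    · exact key k (by omega) (by omega) (Or.inl ⟨2, by omega⟩)

/-- `PSp_4(q)` -/
theorem four {F : Type} [Field F] [Fintype F] {p f : ℕ} (hp : p.Prime) (hf : 1 ≤ f) (hF : Fintype.card F = p ^ f)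
    (h4 : 4 ≤ Fintype.card F) {S : Set ℕ} (h : Cfg (PSp 2 F) S) : False := by
  have hL : IsLieTypeChar p (PSp 2 F) := lie_psp hp hF le_rfl (fun _ => by omega) (MulEquiv.refl _)
  obtain ⟨r, hr, hr2, hrd⟩ := exists_odd h4
  obtain ⟨s, hs, hos, -, hsp, hs4⟩ := H149.NegPrime.exists_pos_prime (e := 4) hp hF hf (by norm_num) (by norm_num)
  have := Fact.mk hr
  have hrp : r ≠ p := by
    rcases hrd with h1 | h1
    · exact ne_of_dvd_sub hp hf hr (by rwa [← hF])
    · exact ne_of_dvd_add (f := f) (m := 1) hf hr (by rwa [← hF, mul_one])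
  have hsq : ((Fintype.card F : ℕ) : ZMod r) ^ 2 = 1 := by
    have h1 : ((Fintype.card F : ℕ) : ZMod r) = 1 ∨ ((Fintype.card F : ℕ) : ZMod r) = -1 := by
      rcases hrd with h1 | h1
      · left
        have h2 : ((Fintype.card F - 1 : ℕ) : ZMod r) = 0 := (ZMod.natCast_eq_zero_iff _ _).2 h1
        rw [Nat.cast_sub (by omega), Nat.cast_one, sub_eq_zero] at h2
        exact h2
      · right
        have h2 : ((Fintype.card F + 1 : ℕ) : ZMod r) = 0 := (ZMod.natCast_eq_zero_iff _ _).2 h1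
        push_cast at h2
        exact eq_neg_of_add_eq_zero_left h2
    rcases h1 with h1 | h1 <;> rw [h1] <;> norm_num
  have hk := orderOf_dvd_of_pow_eq_one hsq
  rcases (Nat.dvd_prime Nat.prime_two).1 hk with hk1 | hk2
  · exact psp_of hp hF le_rfl (fun _ => by omega) h hL hr hs hr2 (by omega) hrp hsp
      (by rintro rfl; omega) hk1 hos (Or.inl ⟨odd_one, rfl⟩) (b := 2) (Or.inr ⟨by decide, rfl⟩) le_rfl (by norm_num)
      le_rfl (by norm_num) (by
        rintro ⟨t, ht, h1⟩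
        have : t = 4 := by omega
        rw [this] at ht
        exact absurd ht (by decide))
  · exact psp_of hp hF le_rfl (fun _ => by omega) h hL hr hs hr2 (by omega) hrp hsp
      (by rintro rfl; omega) hk2 hos (a := 1) (Or.inr ⟨by decide, rfl⟩) (b := 2) (Or.inr ⟨by decide, rfl⟩) le_rfl
      (by norm_num) le_rfl (by norm_num) (by
        rintro ⟨t, ht, h1⟩
        have : t = 2 := by omega
        rw [this] at ht
        exact absurd ht (by decide))

/-- `PSp_6(2)` -/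
theorem six {F : Type} [Field F] [Fintype F] (hF : Fintype.card F = 2) {S : Set ℕ} (h : Cfg (PSp 3 F) S) : False := by
  have hF' : Fintype.card F = 2 ^ 1 := by rw [hF, pow_one]
  have hL : IsLieTypeChar 2 (PSp 3 F) := lie_psp Nat.prime_two hF' (by norm_num) (by norm_num) (MulEquiv.refl _)
  refine psp_of (r := 5) (s := 7) (k := 4) (l := 3) (a := 2) (b := 3) Nat.prime_two hF' (by norm_num) (by norm_num) h hL
    (by norm_num) (by norm_num) (by norm_num) (by norm_num) (by norm_num) (by norm_num) (by norm_num) ?_ ?_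
    (Or.inr ⟨by decide, rfl⟩) (Or.inl ⟨by decide, rfl⟩) (by norm_num) (by norm_num) le_rfl (by norm_num) ?_
  · rw [hF, orderOf_eq_iff (by norm_num)]
    refine ⟨by decide, ?_⟩
    intro m hm hm0
    interval_cases m <;> decide
  · rw [hF, orderOf_eq_iff (by norm_num)]
    refine ⟨by decide, ?_⟩
    intro m hm hm0
    interval_cases m <;> decide
  · rintro ⟨t, -, ht⟩
    omega

/-- **all groups `PSp_2m(q)`** -/
theorem isPSp [Finite G] {S : Set ℕ} (h : Cfg G S) (hG : IsPSp G) : False := by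
  obtain ⟨F, _, _, m, hm, h3, ⟨e⟩⟩ := hG
  obtain ⟨p, f, hp, hf, hF⟩ := exists_pf F
  have h' := h.congr e
  have hfin : Finite (PSp m F) := inferInstance
  rcases (show m = 2 ∨ 3 ≤ m by omega) with rfl | hm3
  · have h3 := h3 rfl
    rcases (show Fintype.card F = 3 ∨ 4 ≤ Fintype.card F by omega) with h4 | h4
    · exact small h4 h'
    · exact four hp hf hF h4 h'
  · by_cases hex : m = 3 ∧ p = 2 ∧ f = 1
    · obtain ⟨rfl, rfl, rfl⟩ := hex
      exact six (by rw [hF, pow_one]) h'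
    · obtain ⟨r1, r2, r3, hr1, hr2, hr3, n12, n23, n13, d1, d2, d3, a12, a23, a13, -⟩ := three_psp' hp hf hF hm3 hex
      exact h'.false_of_has3 ⟨r1, r2, r3, hr1, hr2, hr3, n12, n23, n13, d1, d2, d3, a12, a23, a13⟩

/-- **all groups `PΩ_{2m+1}(q)`** -/
theorem isPOmegaOdd [Finite G] {S : Set ℕ} (h : Cfg G S) (hG : IsPOmegaOdd G) : False := by
  obtain ⟨F, _, _, m, hm, hodd, ⟨e⟩⟩ := hG
  obtain ⟨p, f, hp, hf, hF⟩ := exists_pf F
  have h' := h.congr e
  have hfin : Finite (POmega F (quadFormOdd m F)) := inferInstance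
  have hp2 : p ≠ 2 := by
    rintro rfl
    rw [hF, Nat.odd_pow_iff (by omega)] at hodd
    exact absurd hodd (by decide)
  obtain ⟨r1, r2, r3, hr1, hr2, hr3, n12, n23, n13, d1, d2, d3, a12, a23, a13, -⟩ :=
    three_psp' hp hf hF hm (fun h => hp2 h.2.1)
  have hcd := card_oodd hodd hm
  have key : ∀ r s : ℕ, r.Prime → s.Prime → r ≠ s → ¬ Adj (PSp m F) r s →
      ¬ Adj (POmega F (quadFormOdd m F)) r s := by
    intro r s hr hs hrs h ⟨g, hg⟩
    obtain ⟨g', hg'⟩ := (S2474.result hodd m hm r s hr hs hrs).1 ⟨g, hg⟩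
    exact h ⟨g', hg'⟩
  exact h'.false_of_has3 ⟨r1, r2, r3, hr1, hr2, hr3, n12, n23, n13, by rwa [hcd], by rwa [hcd], by rwa [hcd],
    key _ _ hr1 hr2 n12 a12, key _ _ hr2 hr3 n23 a23, key _ _ hr1 hr3 n13 a13⟩

/-- **all groups `PSU_n(q)`** -/
theorem isPSU [Finite G] {S : Set ℕ} (h : Cfg G S) (hG : IsPSU G) : False := by
  obtain ⟨F, _, _, n, q, hF, hn, h32, ⟨e⟩⟩ := hG
  obtain ⟨p, f, hp, hf, hq⟩ := exists_pf2 hF
  have h' := h.congr e
  have hL : IsLieTypeChar p (PSU n F q) := lie_psu hp hq hF hn h32 (MulEquiv.refl _)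
  rcases (show n = 3 ∨ 4 ≤ n by omega) with rfl | hn4
  · by_cases hp2 : p = 2
    · subst hp2
      exact psu_three_even hf hq hF (fun h => h32 ⟨rfl, h⟩) h' hL
    · exact psu_three_odd hp hp2 hf hq hF h' hL
  · by_cases hex : n = 4 ∧ q = 2
    · obtain ⟨rfl, rfl⟩ := hex
      have h3 : Fintype.card (ZMod 3) = 3 := ZMod.card 3
      obtain ⟨e'⟩ := S0822.result (F := F) (K := ZMod 3) (by rw [hF]; norm_num) h3
      exact small h3 (h'.congr e')
    · exact psu_big hp hf hq hF hn4 hex h' hL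

end Cfsg.Agent.H948.SynPSp
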