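import Cfsg.Agent.H948.SynSpB
import Cfsg.Agent.H948.SynAlt
import Cfsg.Agent.H948.SynPSL
import Cfsg.Agent.H948.SynPSp
import Cfsg.Agent.H948.SynPO
import Cfsg.Agent.H948.SynExc

/-!
# S4286: all known simple groups, up to `HN`, `Th`, `B`, `M` (helper948)
-/

set_option autoImplicit false

namespace Cfsg.Agent.H948.SynAll

open Subgroup Cfsg Cfsg.Agent.H948.Syn

universe u

variable {G : Type u} [Group G] {S : Set ℕ}

theorem known [Finite G] (h : Cfg G S) (hk : IsKnownSimple' G) (hHN : ¬ Spor.IsoHN G) (hTh : ¬ Spor.IsoTh G)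
    (hB : ¬ Spor.IsoB G) (hM : ¬ Spor.IsoM G) : False := by
  rcases hk with g | g | g | g | g | g | g | g | g | g
  · refine h.nonab ?_
    have hp : (Nat.card G).Prime := g
    have := Fact.mk hp
    have hc : IsCyclic G := isCyclic_of_prime_card (p := Nat.card G) rfl
    exact ⟨⟨fun a b => (IsCyclic.commGroup (α := G)).mul_comm a b⟩⟩
  · obtain ⟨n, hn, ⟨e⟩⟩ := g
    exact SynAlt.false_of_alt hn (h.congr e)
  · exact SynPSL.isPSL h g
  · exact SynPSp.isPSp h g
  · exact SynPSp.isPSU h g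
  · exact SynPSp.isPOmegaOdd h g
  · exact SynPO.isPOmegaPlus h g
  · exact SynPO.isPOmegaMinus h g
  · by_cases hT : Lie.IsoTits G
    · exact SynSpor.tits h hT
    · exact SynExc.isExceptional h g hT
  · exact SynSpor.sporadic h g hHN hTh hB hM

end Cfsg.Agent.H948.SynAll
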