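import Cfsg.Agent.H948.SynRed
import Cfsg.Agent.H248.Dich

/-!
# S4286: overgroups of Sylow `p`-subgroups and `p`-local subgroups (helper948)

`dvd_of_local` : if the overgroups of a Sylow `p`-subgroup are local (`Dich p G`) and the `p`-local subgroups have
characteristic `p`, then `p` divides the index of the normaliser of every nontrivial `r`-subgroup, `r ≠ p`.
-/

set_option autoImplicit false

namespace Cfsg.Agent.H948.SynLoc

open Subgroup Cfsg Cfsg.Agent.H948.Syn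

universe u

variable {G : Type u} [Group G]

/-- coprime normal subgroups of `M` commute -/
theorem comm_of_coprime [Finite G] {M R V : Subgroup G} (hR : R ≤ M) (hV : V ≤ M)
    (hMR : M ≤ normalizer (R : Set G)) (hMV : M ≤ normalizer (V : Set G))
    (hc : (Nat.card R).Coprime (Nat.card V)) : ∀ x ∈ R, ∀ v ∈ V, x * v = v * x := by
  intro x hx v hv
  have h1 : x * v * x⁻¹ * v⁻¹ ∈ V := V.mul_mem ((mem_normalizer_iff.1 (hMV (hR hx)) v).1 hv) (V.inv_mem hv)
  have h2 : x * v * x⁻¹ * v⁻¹ ∈ R := by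
    have h3 : v * x⁻¹ * v⁻¹ ∈ R := (mem_normalizer_iff.1 (hMR (hV hv)) _).1 (R.inv_mem hx)
    have h4 := R.mul_mem hx h3
    have h5 : x * v * x⁻¹ * v⁻¹ = x * (v * x⁻¹ * v⁻¹) := by group
    rw [h5]; exact h4
  have h6 : R ⊓ V = ⊥ := Subgroup.inf_eq_bot_of_coprime hc
  have h7 : x * v * x⁻¹ * v⁻¹ ∈ R ⊓ V := ⟨h2, h1⟩
  rw [h6, mem_bot] at h7
  calc x * v = (x * v * x⁻¹ * v⁻¹) * (v * x) := by group
    _ = v * x := by rw [h7, one_mul]

/-- **the dichotomy and characteristic `p` of the local subgroups**: `p` divides `|G : N(R)|` -/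
theorem dvd_of_local [Finite G] [IsSimpleGroup G] (hG : ¬ IsMulCommutative G) {p r : ℕ} [hp : Fact p.Prime]
    [hr : Fact r.Prime] (hD : H248.Ovg.Dich p G) (hL : ∀ K : Subgroup G, IsPGroup p ↥K → K ≠ ⊥ →
      centralizer (pCore p ↥(normalizer (K : Set G)) : Set ↥(normalizer (K : Set G))) ≤
        pCore p ↥(normalizer (K : Set G))) (hrp : r ≠ p) {R : Subgroup G}
    (hR : IsPGroup r R) (hR1 : R ≠ ⊥) : p ∣ (normalizer (R : Set G)).index := by
  by_contra hcon
  set M := normalizer (R : Set G) with hM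
  have hMtop : M ≠ ⊤ := normalizer_ne_top hG hR hR1
  have h1 : pCore p ↥M ≠ ⊥ := fun h => hMtop (hD.eq_top M h hcon)
  set V : Subgroup G := (pCore p ↥M).map M.subtype with hV
  have hVp : IsPGroup p V := (Lib.Cores.pCore_isPGroup p).map _
  have hV1 : V ≠ ⊥ := fun h => h1 ((Subgroup.map_eq_bot_iff_of_injective _ M.subtype_injective).1 h)
  have hVM : V ≤ M := map_subtype_le _
  have hMV : M ≤ normalizer (V : Set G) := by
    intro g hg
    rw [mem_normalizer_iff]
    intro x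
    constructor
    · rintro ⟨y, hy, rfl⟩
      exact ⟨⟨g, hg⟩ * y * ⟨g, hg⟩⁻¹, (Lib.Cores.pCore_normal p).conj_mem _ hy _, rfl⟩
    · rintro ⟨y, hy, e⟩
      refine ⟨⟨g, hg⟩⁻¹ * y * ⟨g, hg⟩, ?_, ?_⟩
      · have := (Lib.Cores.pCore_normal (G := ↥M) p).conj_mem _ hy (⟨g, hg⟩⁻¹)
        rwa [inv_inv] at this
      · change g⁻¹ * (y : G) * g = x
        have e' : (y : G) = g * x * g⁻¹ := e
        rw [e']
        group
  have hRM : R ≤ M := le_normalizer
  have hcop : (Nat.card R).Coprime (Nat.card V) := by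
    obtain ⟨a, ha⟩ := IsPGroup.iff_card.1 hR
    obtain ⟨b, hb⟩ := IsPGroup.iff_card.1 hVp
    rw [ha, hb]
    exact Nat.Coprime.pow _ _ ((Nat.coprime_primes hr.out hp.out).2 hrp)
  have hcomm := comm_of_coprime hRM hVM le_rfl hMV hcop
  -- `W = O_p(N(V))`
  set N := normalizer (V : Set G) with hN
  set W : Subgroup G := (pCore p ↥N).map N.subtype with hW
  have hWp : IsPGroup p W := (Lib.Cores.pCore_isPGroup p).map _
  have hWN : N ≤ normalizer (W : Set G) := by
    intro g hg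
    rw [mem_normalizer_iff]
    intro x
    constructor
    · rintro ⟨y, hy, rfl⟩
      exact ⟨⟨g, hg⟩ * y * ⟨g, hg⟩⁻¹, (Lib.Cores.pCore_normal p).conj_mem _ hy _, rfl⟩
    · rintro ⟨y, hy, e⟩
      refine ⟨⟨g, hg⟩⁻¹ * y * ⟨g, hg⟩, ?_, ?_⟩
      · have := (Lib.Cores.pCore_normal (G := ↥N) p).conj_mem _ hy (⟨g, hg⟩⁻¹)
        rwa [inv_inv] at this
      · change g⁻¹ * (y : G) * g = x
        have e' : (y : G) = g * x * g⁻¹ := e
        rw [e']
        group
  obtain ⟨P, hPM⟩ := exists_sylow_le M hcon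
  have hWP : W ≤ (P : Subgroup G) := by
    have h2 : (P : Subgroup G) ≤ normalizer (W : Set G) := hPM.trans (hMV.trans hWN)
    have h3 : IsPGroup p ((P : Subgroup G) ⊔ W : Subgroup G) :=
      IsPGroup.to_sup_of_normal_right' P.isPGroup' hWp h2
    exact le_sup_right.trans (P.is_maximal' h3 le_sup_left).le
  have hWM : W ≤ M := hWP.trans hPM
  have hWV : W ≤ V := by
    have h2 : (W.subgroupOf M).Normal := by
      refine ⟨fun v hv g => ?_⟩
      rw [mem_subgroupOf] at hv ⊢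
      exact (mem_normalizer_iff.1 (hWN (hMV g.2)) _).1 hv
    have h3 : IsPGroup p ↥(W.subgroupOf M) := hWp.comap_of_injective M.subtype (subtype_injective _)
    have h4 := Lib.Cores.le_pCore h2 h3
    intro w hw
    exact ⟨⟨w, hWM hw⟩, h4 (mem_subgroupOf.2 hw), rfl⟩
  apply hR1
  rw [eq_bot_iff]
  intro x hx
  rw [mem_bot]
  have hxN : x ∈ N := hMV (hRM hx)
  have h2 : (⟨x, hxN⟩ : ↥N) ∈ pCore p ↥N := by
    apply hL V hVp hV1
    rw [mem_centralizer_iff]
    intro y hy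
    exact Subtype.ext (hcomm x hx y (hWV ⟨y, hy, rfl⟩)).symm
  have h3 : x ∈ W := ⟨⟨x, hxN⟩, h2, rfl⟩
  have h4 : R ⊓ V = ⊥ := Subgroup.inf_eq_bot_of_coprime hcop
  have h5 : x ∈ R ⊓ V := ⟨hx, hWV h3⟩
  rwa [h4, mem_bot] at h5

end Cfsg.Agent.H948.SynLoc
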