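import Cfsg.Agent.H948.SynPSL
import Cfsg.Agent.H149.NegPrime
import Cfsg.Agent.H149.PGU
import Cfsg.Agent.H149.PGU3
import Cfsg.Agent.S2366
import Cfsg.Agent.S2469
import Cfsg.Agent.S2474

/-!
# S4286: the groups `PSU_n(q)`; tools for `PSp_2m(q)` (helper948)
-/

set_option autoImplicit false

namespace Cfsg.Agent.H948.SynPSU

open Subgroup Cfsg Cfsg.Agent.H948.Syn Cfsg.Agent.H163.PG Cfsg.Agent.H948.SynPSL

universe u

variable {G : Type u} [Group G]

theorem exists_pf2 {F : Type*} [Field F] [Fintype F] {q : ℕ} (hF : Fintype.card F = q ^ 2) :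
    ∃ p f : ℕ, p.Prime ∧ 1 ≤ f ∧ q = p ^ f := by
  obtain ⟨p, n, hp, hn, h⟩ := exists_pf F
  have h1 : q ∣ p ^ n := by rw [← h, hF]; exact dvd_pow_self q two_ne_zero
  obtain ⟨f, -, hf⟩ := (Nat.dvd_prime_pow hp).1 h1
  refine ⟨p, f, hp, ?_, hf⟩
  by_contra hcon
  have h2 : f = 0 := by omega
  rw [h2, pow_zero] at hf
  rw [hf, one_pow] at hF
  exact absurd hF (Fintype.one_lt_card (α := F)).ne'

theorem charP_of2 {F : Type*} [Field F] [Fintype F] {q p f : ℕ} (hF : Fintype.card F = q ^ 2) (hp : p.Prime)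
    (hq : q = p ^ f) : CharP F p :=
  charP_of (f := f * 2) hp (by rw [hF, hq, ← pow_mul])

/-- two groups of Lie type in different characteristics -/
theorem false_of_two_char [Finite G] {S : Set ℕ} (h : Cfg G S) {p q r : ℕ} (hp : p.Prime) (hq : q.Prime) (hr : r.Prime)
    (hpq : p ≠ q) (hrp : r ≠ p) (hrq : r ≠ q) (hqG : q ∣ Nat.card G) (hrG : r ∣ Nat.card G)
    (h1 : IsLieTypeChar p G) (h2 : IsLieTypeChar q G) : False := by
  have a := SynLie.opp_char h hp h1 hq hqG hpq.symm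
  have b := SynLie.opp_char h hp h1 hr hrG hrp
  have c := SynLie.opp_char h hq h2 hr hrG hrq
  tauto

theorem fin_psu {F : Type*} [Field F] [Fintype F] (n q : ℕ) : Finite (PSU n F q) := inferInstance

theorem not_dvd_of_ord {q r i : ℕ} (hr : r.Prime) (hi : 2 ≤ i) (ho : orderOf (-(q : ZMod r)) = i) : ¬ r ∣ q + 1 := by
  have := Fact.mk hr
  intro h
  have h1 : ((q + 1 : ℕ) : ZMod r) = 0 := (ZMod.natCast_eq_zero_iff _ _).2 h
  have h2 : -(q : ZMod r) = 1 := by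
    push_cast at h1
    linear_combination -h1
  rw [h2, orderOf_one] at ho
  omega

/-- the groups `PSU_n(q)`: two primes with different orders `i < j` of `-q` -/
theorem psu_two {F : Type} [Field F] [Fintype F] {p f q n : ℕ} (hp : p.Prime) (hq : q = p ^ f)
    (hF : Fintype.card F = q ^ 2) (hn : 3 ≤ n) {S : Set ℕ} (h : Cfg (PSU n F q) S) (hL : IsLieTypeChar p (PSU n F q))
    {r s i j : ℕ} (hr : r.Prime) (hs : s.Prime) (hrp : r ≠ p) (hsp : s ≠ p) (hor : orderOf (-(q : ZMod r)) = i)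
    (hos : orderOf (-(q : ZMod s)) = j) (hi2 : 2 ≤ i) (hij : i < j) (hjn : j ≤ n) (hn2 : n < i + j)
    (hdj : ¬ i ∣ j) (h2 : n < 2 * j) : False := by
  have := Fact.mk hp
  have hrs : r ≠ s := by rintro rfl; omega
  refine false_lie h hp hL hr hs hrs (H149.PGU.dvd_card_psu hF (by omega) hr hi2 (by omega) hor)
    (H149.PGU.dvd_card_psu hF (by omega) hs (by omega) hjn hos) hrp hsp fun hadj => ?_
  rcases H149.PGU.psu_adj hq hF hn hr hs hrs hrp hsp (not_dvd_of_ord hr hi2 hor)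
    (not_dvd_of_ord hs (by omega) hos) hadj with h1 | ⟨d, hd0, hdn, h3, h4⟩
  · omega
  · rw [hor] at h3
    rw [hos] at h4
    obtain ⟨k, rfl⟩ := h4
    have : k ≠ 0 := by rintro rfl; omega
    have : k < 2 := by
      by_contra hk
      have : j * 2 ≤ j * k := Nat.mul_le_mul_left j (by omega)
      omega
    have hk1 : k = 1 := by omega
    rw [hk1, mul_one] at h3
    exact hdj h3

/-- `PSU_n(q)`, `n ≥ 4`, `(n, q) ≠ (4, 2)` -/
theorem psu_big {F : Type} [Field F] [Fintype F] {p f q n : ℕ} (hp : p.Prime) (hf : 1 ≤ f) (hq : q = p ^ f)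
    (hF : Fintype.card F = q ^ 2) (hn : 4 ≤ n) (hex : ¬ (n = 4 ∧ q = 2)) {S : Set ℕ} (h : Cfg (PSU n F q) S)
    (hL : IsLieTypeChar p (PSU n F q)) : False := by
  obtain ⟨r, hr, hor, -, hrp, -⟩ := H149.NegPrime.exists_neg_prime (i := n - 1) hp hq hf (by omega) (by
    rintro ⟨h1, h2⟩
    exact hex ⟨by omega, h2⟩)
  obtain ⟨s, hs, hos, -, hsp, -⟩ := H149.NegPrime.exists_neg_prime (i := n) hp hq hf (by omega) (by
    rintro ⟨h1, h2⟩
    omega)
  refine psu_two hp hq hF (by omega) h hL hr hs hrp hsp hor hos (by omega) (by omega) le_rfl (by omega) ?_ (by omega)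
  intro hd
  have h1 := Nat.dvd_sub hd (dvd_refl (n - 1))
  rw [show n - (n - 1) = 1 by omega] at h1
  have := Nat.dvd_one.1 h1
  omega

/-- `PSU_3(q)`, `q` even -/
theorem psu_three_even {F : Type} [Field F] [Fintype F] {f q : ℕ} (hf : 1 ≤ f) (hq : q = 2 ^ f)
    (hF : Fintype.card F = q ^ 2) (hex : q ≠ 2) {S : Set ℕ} (h : Cfg (PSU 3 F q) S)
    (hL : IsLieTypeChar 2 (PSU 3 F q)) : False := by
  obtain ⟨s, hs, hos, -, hsp, -⟩ := H149.NegPrime.exists_neg_prime (i := 3) Nat.prime_two hq hf (by omega) (by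
    rintro ⟨h1, h2⟩
    exact hex h2)
  have hf2 : 2 ≤ f := by
    by_contra hcon
    have : f = 1 := by omega
    rw [this, pow_one] at hq
    exact hex hq
  have hq4 : 4 ≤ q := by
    rw [hq]
    exact (Nat.pow_le_pow_right two_pos hf2)
  obtain ⟨r, hr, hrq⟩ := Nat.exists_prime_and_dvd (show q - 1 ≠ 1 by omega)
  have := Fact.mk hr
  have hr2 : r ≠ 2 := ne_of_dvd_sub (f := f) Nat.prime_two hf hr (by rwa [← hq])
  have hor : orderOf (-(q : ZMod r)) = 2 := by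
    have h1 : ((q - 1 : ℕ) : ZMod r) = 0 := (ZMod.natCast_eq_zero_iff _ _).2 hrq
    rw [Nat.cast_sub (by omega), Nat.cast_one, sub_eq_zero] at h1
    rw [h1]
    have := Fact.mk Nat.prime_two
    refine orderOf_eq_prime (by norm_num) ?_
    intro h3
    have h4 : ((2 : ℕ) : ZMod r) = 0 := by
      push_cast
      linear_combination -h3
    exact hr2 ((Nat.prime_dvd_prime_iff_eq hr Nat.prime_two).1 ((ZMod.natCast_eq_zero_iff _ _).1 h4))
  exact psu_two Nat.prime_two hq hF le_rfl h hL hr hs hr2 hsp hor hos le_rfl (by omega) le_rfl (by omega) (by omega)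
    (by omega)

/-- `PSU_3(q)`, `q` odd -/
theorem psu_three_odd {F : Type} [Field F] [Fintype F] {p f q : ℕ} (hp : p.Prime) (hp2 : p ≠ 2) (hf : 1 ≤ f)
    (hq : q = p ^ f) (hF : Fintype.card F = q ^ 2) {S : Set ℕ} (h : Cfg (PSU 3 F q) S)
    (hL : IsLieTypeChar p (PSU 3 F q)) : False := by
  have := Fact.mk hp
  have hc := charP_of2 hF hp hq
  have hspec := S2366.result (F := F) p hp2 q hF
  have hq3 : 3 ≤ q := by
    rw [hq]
    calc 3 ≤ p := by have := hp.two_le; omega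
      _ = p ^ 1 := (pow_one p).symm
      _ ≤ p ^ f := Nat.pow_le_pow_right hp.pos hf
  have hodd : Odd q := by
    rw [hq]
    exact (hp.odd_of_ne_two hp2).pow
  obtain ⟨k, hk⟩ := hodd
  set d := Nat.gcd 3 (q + 1) with hd
  have hd0 : 0 < d := Nat.gcd_pos_of_pos_left _ three_pos
  have hd13 : d = 1 ∨ d = 3 := (Nat.dvd_prime Nat.prime_three).1 (Nat.gcd_dvd_left _ _)
  have hd1 : d ∣ q + 1 := Nat.gcd_dvd_right _ _
  have hN : q ^ 2 - q + 1 + 3 * q = (q + 1) * (q + 1) := by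
    have h1 : q ≤ q ^ 2 := by nlinarith
    have h2 : q ^ 2 - q + 1 + 3 * q = q ^ 2 + 2 * q + 1 := by omega
    rw [h2]; ring
  have hd2 : d ∣ q ^ 2 - q + 1 := by
    have h1 : d ∣ 3 * q := (Nat.gcd_dvd_left 3 (q + 1)).mul_right q
    have h2 : d ∣ q ^ 2 - q + 1 + 3 * q := by rw [hN]; exact hd1.mul_right _
    exact (Nat.dvd_add_left h1).1 h2
  obtain ⟨a, ha⟩ := hd2
  have ea : (q ^ 2 - q + 1) / d = a := by rw [ha, Nat.mul_div_cancel_left _ hd0]
  have hqq : q ≤ q ^ 2 := by nlinarith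
  have ha1 : a ≠ 1 := by
    rintro rfl
    have : q ^ 2 - q + 1 ≤ 3 := by rw [ha]; rcases hd13 with h1 | h1 <;> omega
    have : q ^ 2 ≤ q + 2 := by omega
    nlinarith
  obtain ⟨r, hr, hra⟩ := Nat.exists_prime_and_dvd ha1
  have hrN : r ∣ q ^ 2 - q + 1 := by rw [ha]; exact hra.mul_left d
  -- `q² - q + 1` is odd
  have hNodd : ¬ 2 ∣ q ^ 2 - q + 1 := by
    intro h1
    have e : q ^ 2 - q + 1 = 2 * (2 * k ^ 2 + k) + 1 := by
      have : q ^ 2 = 2 * (2 * k ^ 2 + k) + q := by rw [hk]; ring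
      omega
    rw [e] at h1
    omega
  have hr2 : r ≠ 2 := by
    rintro rfl
    exact hNodd hrN
  have h3a : ¬ 3 ∣ a := by
    rintro ⟨c, rfl⟩
    have h9 : 3 ∣ q ^ 2 - q + 1 := ⟨d * c, by rw [ha]; ring⟩
    have h10 : 3 ∣ q + 1 := by
      have h2 : 3 ∣ (q + 1) * (q + 1) := by rw [← hN]; exact dvd_add h9 (Dvd.intro q rfl)
      rcases Nat.prime_three.dvd_mul.1 h2 with h3 | h3 <;> exact h3
    have hd3 : d = 3 := by
      refine hd13.resolve_left fun h1 => ?_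
      have h2 : 3 ∣ d := Nat.dvd_gcd dvd_rfl h10
      omega
    obtain ⟨t, ht⟩ := h10
    have h11 : q ^ 2 - q + 1 + 3 * q = 9 * t ^ 2 := by rw [hN, ht]; ring
    rw [ha, hd3] at h11
    omega
  have hrq1 : ¬ r ∣ q + 1 := by
    intro h1
    have h2 : r ∣ q ^ 2 - q + 1 + 3 * q := by rw [hN]; exact h1.mul_right _
    have h3 : r ∣ 3 * q := (Nat.dvd_add_right hrN).1 h2
    rcases hr.dvd_mul.1 h3 with h4 | h4
    · have := (Nat.prime_dvd_prime_iff_eq hr Nat.prime_three).1 h4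
      rw [this] at hra
      exact h3a hra
    · exact hr.one_lt.ne' (Nat.dvd_one.1 ((Nat.dvd_add_right h4).1 h1))
  have hrp : r ≠ p := by
    rintro rfl
    have h1 : r ∣ q := by rw [hq]; exact dvd_pow_self r (by omega)
    have h2 : r ∣ q ^ 2 - q := Nat.dvd_sub (h1.trans (dvd_pow_self q two_ne_zero)) h1
    exact hr.one_lt.ne' (Nat.dvd_one.1 ((Nat.dvd_add_right h2).1 hrN))
  have hsq : q ^ 2 - 1 = (q + 1) * (q - 1) := by
    have := Nat.sq_sub_sq q 1
    simpa using this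
  have hrsq : ¬ r ∣ q ^ 2 - 1 := by
    intro h1
    have h2 : q ^ 2 - q + 1 + (q - 2) = q ^ 2 - 1 := by omega
    have h3 : r ∣ q - 2 := (Nat.dvd_add_right hrN).1 (by rwa [h2])
    have h4 : (q + 1) * (q - 2) + 3 = q ^ 2 - q + 1 := by
      obtain ⟨t, ht⟩ : ∃ t, q = t + 2 := ⟨q - 2, by omega⟩
      rw [ht, Nat.add_sub_cancel]
      have : (t + 2) ^ 2 - (t + 2) = t ^ 2 + 3 * t + 2 := by
        have : (t + 2) ^ 2 = t ^ 2 + 3 * t + 2 + (t + 2) := by ring
        omega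
      rw [this]; ring
    have h5 : r ∣ 3 := (Nat.dvd_add_right (h3.mul_left (q + 1))).1 (by rwa [h4])
    have := (Nat.prime_dvd_prime_iff_eq hr Nat.prime_three).1 h5
    rw [this] at hra
    exact h3a hra
  have h2N : 2 ∣ (q ^ 2 - 1) / d := by
    obtain ⟨c, hc⟩ := hd1
    rw [hsq, hc, show d * c * (q - 1) = d * (c * (q - 1)) by ring, Nat.mul_div_cancel_left _ hd0]
    have : 2 ∣ q - 1 := ⟨k, by omega⟩
    exact this.mul_left c
  have hfin : Finite (PSU 3 F q) := fin_psu 3 q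
  refine false_lie h hp hL hr Nat.prime_two hr2 (dvd_of_range hspec (Or.inr ?_))
    (dvd_of_range hspec (Or.inl (Or.inr ?_))) hrp (fun h => hp2 h.symm) ?_
  · change r ∣ _
    rw [ea]; exact hra
  · exact h2N
  · rintro ⟨g, hg⟩
    have h1 : r * 2 ∈ Set.range (orderOf : PSU 3 F q → ℕ) := ⟨g, hg⟩
    rw [hspec] at h1
    have hr' : r ∣ r * 2 := Dvd.intro 2 rfl
    rcases h1 with ((h1 | h1) | h1) | h1
    · exact hrq1 (hr'.trans h1)
    · have h2 : r ∣ p * (q + 1) := (hr'.trans h1).trans (Nat.div_dvd_of_dvd (hd1.mul_left _))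
      rcases hr.dvd_mul.1 h2 with h3 | h3
      · exact hrp ((Nat.prime_dvd_prime_iff_eq hr hp).1 h3)
      · exact hrq1 h3
    · exact hrsq ((hr'.trans h1).trans (Nat.div_dvd_of_dvd (by rw [hsq]; exact hd1.mul_right _)))
    · have h2 : 2 ∣ (q ^ 2 - q + 1) / d := (Dvd.intro_left r rfl).trans h1
      exact hNodd (h2.trans (Nat.div_dvd_of_dvd (by rw [ha]; exact Dvd.intro a rfl)))

/-- `PSp_2m(q)`: two odd primes -/
theorem psp_of {F : Type} [Field F] [Fintype F] {p f m : ℕ} (hp : p.Prime) (hF : Fintype.card F = p ^ f) (hm : 2 ≤ m)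
    (hm3 : m = 2 → 3 ≤ Fintype.card F) {S : Set ℕ} (h : Cfg (PSp m F) S) (hL : IsLieTypeChar p (PSp m F)) {r s k l a b : ℕ}
    (hr : r.Prime) (hs : s.Prime) (hr2 : r ≠ 2) (hs2 : s ≠ 2) (hrp : r ≠ p) (hsp : s ≠ p) (hrs : r ≠ s)
    (hor : orderOf ((Fintype.card F : ℕ) : ZMod r) = k) (hos : orderOf ((Fintype.card F : ℕ) : ZMod s) = l)
    (hk : (Odd k ∧ a = k) ∨ (Even k ∧ 2 * a = k)) (hl : (Odd l ∧ b = l) ∨ (Even l ∧ 2 * b = l)) (ha : 1 ≤ a)
    (hab : a ≤ b) (hbm : b ≤ m) (hmab : m < a + b) (hno : ¬ ∃ t : ℕ, Odd t ∧ l = k * t) : False := by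
  have := Fact.mk hp
  have hc := charP_of hp hF
  have hq : 1 ≤ Fintype.card F := Fintype.card_pos
  have hrG := dvd_psp (F := F) (n := m) (by omega) hr hr2 ha (by omega)
    (dvd_pow_sub_one_of_orderOf hq hor (show k ∣ 2 * a by
      rcases hk with ⟨-, rfl⟩ | ⟨-, h⟩
      · exact Dvd.intro_left 2 rfl
      · rw [h]))
  have hsG := dvd_psp (F := F) (n := m) (by omega) hs hs2 (show 1 ≤ b by omega) hbm
    (dvd_pow_sub_one_of_orderOf hq hos (show l ∣ 2 * b by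
      rcases hl with ⟨-, rfl⟩ | ⟨-, h⟩
      · exact Dvd.intro_left 2 rfl
      · rw [h]))
  have hfin : Finite (PSp m F) := inferInstance
  refine false_lie h hp hL hr hs hrs hrG hsG hrp hsp ?_
  rintro ⟨g, hg⟩
  exact (S2469.result (F := F) p m hm hm3 r s hr hs hr2 hs2 hrp hsp hrs hrG hsG k l a b hor.symm hos.symm hk hl hab).2
    ⟨hmab, hno⟩ ⟨g, hg⟩

end Cfsg.Agent.H948.SynPSU
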