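import Mathlib
import Cfsg.Agent.S0007
import Cfsg.Agent.H482.SylowNumbers

/-!
# Sylow numbers of a simple group with a separated set of primes (S4286, helper948)

`Cfg G S`: `G` is a nonabelian simple group, both `S` and its complement contain a prime divisor of `|G|`, and for prime
divisors `r`, `t` of `|G|` the prime `t` divides the number `n_r` of Sylow `r`-subgroups iff exactly one of `r`, `t`
lies in `S` (`key`).

* `cfg_of_hyp`    : the hypotheses of S4286 give `Cfg G S`;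
* `Cfg.exists_norm` : `r`, `s` on the same side: a Sylow `s`-subgroup normalises the Sylow `r`-subgroup `R`;
* `Cfg.adj`       : primes on the same side are adjacent in the prime graph;
* `Cfg.kl`        : a proper subgroup all of whose index is on the side of `r`, prime to `r`, does not exist;
* `Cfg.eq_pow`    : if every prime other than `p` is on the other side, then `n_r` is a power of `p` for `r ≠ p`.
-/

set_option autoImplicit false

namespace Cfsg.Agent.H948.Syn

open Subgroup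

universe u

variable {G : Type u} [Group G]

/-- the configuration -/
structure Cfg (G : Type u) [Group G] (S : Set ℕ) : Prop where
  simple : IsSimpleGroup G
  nonab : ¬ IsMulCommutative G
  inS : ∃ p, p.Prime ∧ p ∣ Nat.card G ∧ p ∈ S
  outS : ∃ p, p.Prime ∧ p ∣ Nat.card G ∧ p ∉ S
  key : ∀ r t, r.Prime → t.Prime → r ∣ Nat.card G → t ∣ Nat.card G →
    (t ∣ Nat.card (Sylow r G) ↔ ¬ (r ∈ S ↔ t ∈ S))

/-- a nonabelian group has two elements which do not commute -/
theorem exists_ne (hG : ¬ IsMulCommutative G) : ∃ a b : G, a * b ≠ b * a := by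
  by_contra hcon
  push Not at hcon
  exact hG ⟨⟨hcon⟩⟩

theorem normal_eq [hs : IsSimpleGroup G] (N : Subgroup G) (hN : N.Normal) : N = ⊥ ∨ N = ⊤ :=
  hs.eq_bot_or_eq_top_of_normal N hN

/-- the centre of a nonabelian simple group is trivial -/
theorem center_eq_bot [IsSimpleGroup G] (hG : ¬ IsMulCommutative G) : center G = ⊥ := by
  rcases normal_eq (center G) inferInstance with h | h
  · exact h
  · obtain ⟨a, b, hab⟩ := exists_ne hG
    exact absurd ((mem_center_iff.1 (h ▸ mem_top b : b ∈ center G)) a) hab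

/-- the normaliser of a nontrivial `r`-subgroup of a nonabelian simple group is proper -/
theorem normalizer_ne_top [Finite G] [IsSimpleGroup G] (hG : ¬ IsMulCommutative G) {r : ℕ} [Fact r.Prime]
    {R : Subgroup G} (hR : IsPGroup r R) (h1 : R ≠ ⊥) : normalizer (R : Set G) ≠ ⊤ := by
  intro h
  have hn : R.Normal := normalizer_eq_top_iff.1 h
  rcases normal_eq R hn with h2 | h2
  · exact h1 h2
  · have hG' : IsPGroup r G := by
      intro x
      obtain ⟨k, hk⟩ := hR ⟨x, h2 ▸ mem_top x⟩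
      exact ⟨k, congrArg Subtype.val hk⟩
    have : Nontrivial G := inferInstance
    have h3 : Nontrivial (center G) := hG'.center_nontrivial
    rw [center_eq_bot hG] at h3
    exact (not_subsingleton_iff_nontrivial.2 h3) inferInstance

/-- a prime dividing a Sylow number divides the order of the group -/
theorem dvd_card_of_dvd_sylow [Finite G] {r t : ℕ} [Fact r.Prime] (h : t ∣ Nat.card (Sylow r G)) :
    t ∣ Nat.card G := by
  obtain ⟨P⟩ : Nonempty (Sylow r G) := inferInstance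
  exact (h.trans P.card_dvd_index).trans (Subgroup.index_dvd_card _)

theorem card_eq_index [Finite G] {r : ℕ} [Fact r.Prime] (P : Sylow r G) :
    Nat.card (Sylow r G) = (normalizer ((P : Subgroup G) : Set G)).index :=
  P.card_eq_index_normalizer

/-- if a prime divides `n_r` then `r` divides the order of the group -/
theorem dvd_card_of_sylow [Finite G] {r t : ℕ} [hr : Fact r.Prime] (ht : t.Prime) (h : t ∣ Nat.card (Sylow r G)) :
    r ∣ Nat.card G := by
  by_contra hcon
  obtain ⟨P⟩ : Nonempty (Sylow r G) := inferInstance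
  have h1 : (P : Subgroup G) = ⊥ := by
    have h2 : Nat.card (P : Subgroup G) = 1 := by
      rw [P.card_eq_multiplicity, Nat.factorization_eq_zero_of_not_dvd hcon, pow_zero]
    exact Subgroup.card_eq_one.1 h2
  have h3 : normalizer ((P : Subgroup G) : Set G) = ⊤ := by
    rw [h1]; exact normalizer_eq_top_iff.2 inferInstance
  rw [card_eq_index P, h3, index_top] at h
  exact ht.one_lt.ne' (Nat.dvd_one.1 h)

theorem card_sylow_ne_one [Finite G] [IsSimpleGroup G] (hG : ¬ IsMulCommutative G) {r : ℕ} [Fact r.Prime]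
    (hr : r ∣ Nat.card G) : Nat.card (Sylow r G) ≠ 1 := by
  intro h
  obtain ⟨P⟩ : Nonempty (Sylow r G) := inferInstance
  rw [card_eq_index P, index_eq_one] at h
  exact normalizer_ne_top hG P.2 (P.ne_bot_of_dvd_card hr) h

/-- If `r` does not divide the index of `B`, then `B` contains a Sylow `r`-subgroup of `G`. -/
theorem exists_sylow_le [Finite G] {r : ℕ} [Fact r.Prime] (B : Subgroup G)
    (h : ¬ r ∣ B.index) : ∃ R : Sylow r G, (R : Subgroup G) ≤ B := by
  obtain ⟨Q⟩ : Nonempty (Sylow r B) := inferInstance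
  have hQ : ¬ r ∣ ((Q : Subgroup B).map B.subtype).index := by
    rw [Subgroup.index_map_subtype]
    exact (Fact.out : r.Prime).not_dvd_mul Q.not_dvd_index h
  refine ⟨(Q.2.map B.subtype).toSylow hQ, ?_⟩
  rw [IsPGroup.toSylow_coe]
  exact map_subtype_le _

/-- a proper subgroup whose index is coprime to `n_r` does not contain a Sylow `r`-subgroup -/
theorem eq_top_of_coprime [Finite G] [IsSimpleGroup G] {r : ℕ} [Fact r.Prime] (hr : r ∣ Nat.card G)
    (B : Subgroup G) (hB : ¬ r ∣ B.index) (hc : B.index.Coprime (Nat.card (Sylow r G))) : B = ⊤ := by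
  obtain ⟨R, hR⟩ := exists_sylow_le B hB
  rw [card_eq_index R] at hc
  have hcl : normalClosure ((R : Subgroup G) : Set G) ≤ B := by
    rw [normalClosure, closure_le]
    intro x hx
    obtain ⟨y, hy, hxy⟩ := Group.mem_conjugatesOfSet_iff.1 hx
    obtain ⟨g, rfl⟩ := isConj_iff.1 hxy
    obtain ⟨b', hb', a', ha', rfl⟩ := Cfsg.Agent.S0007.exists_mul_eq B _ hc g
    have h3 : a' * y * a'⁻¹ ∈ (R : Subgroup G) := (mem_normalizer_iff.1 ha' y).1 hy
    have h4 := B.mul_mem (B.mul_mem hb' (hR h3)) (B.inv_mem hb')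
    have h5 : b' * (a' * y * a'⁻¹) * b'⁻¹ = b' * a' * y * (b' * a')⁻¹ := by group
    rw [← h5]
    exact h4
  have htop : normalClosure ((R : Subgroup G) : Set G) = ⊤ := by
    refine (normal_eq _ normalClosure_normal).resolve_left ?_
    intro h
    apply R.ne_bot_of_dvd_card hr
    rw [eq_bot_iff, ← h]
    exact subset_normalClosure
  exact top_le_iff.1 (htop ▸ hcl)

/-- coprime Sylow numbers `n_r`, `n_s` force `r ∣ n_s` -/
theorem dvd_of_coprime [Finite G] [IsSimpleGroup G] (hG : ¬ IsMulCommutative G) {r s : ℕ} [Fact r.Prime]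
    [Fact s.Prime] (hr : r ∣ Nat.card G) (hs : s ∣ Nat.card G)
    (hc : (Nat.card (Sylow r G)).Coprime (Nat.card (Sylow s G))) : r ∣ Nat.card (Sylow s G) := by
  by_contra hcon
  obtain ⟨Q⟩ : Nonempty (Sylow s G) := inferInstance
  have h1 := eq_top_of_coprime hr (normalizer ((Q : Subgroup G) : Set G)) (by rw [← card_eq_index Q]; exact hcon)
    (by rw [← card_eq_index Q]; exact hc.symm)
  exact normalizer_ne_top hG Q.2 (Q.ne_bot_of_dvd_card hs) h1

/-- **the reduction** -/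
theorem cfg_of_hyp [Finite G] [hsimp : IsSimpleGroup G] (hG : ¬ IsMulCommutative G) (S : Set ℕ)
    (hS : ∃ p ∈ S, p.Prime ∧ ∃ r : ℕ, r.Prime ∧ p ∣ Nat.card (Sylow r G))
    (hT : ∃ q ∉ S, q.Prime ∧ ∃ r : ℕ, r.Prime ∧ q ∣ Nat.card (Sylow r G))
    (hsep : ∀ p q r : ℕ, p.Prime → q.Prime → r.Prime → p ∣ Nat.card G → q ∣ Nat.card G → p ∈ S → q ∉ S →
      ¬ (p * q ∣ Nat.card (Sylow r G))) : Cfg G S := by
  -- `A r`: the primes dividing `n_r` are in `S`
  have hdich : ∀ r : ℕ, r.Prime → (∀ t, t.Prime → t ∣ Nat.card (Sylow r G) → t ∈ S) ∨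
      (∀ t, t.Prime → t ∣ Nat.card (Sylow r G) → t ∉ S) := by
    intro r hr
    have := Fact.mk hr
    by_contra hcon
    push Not at hcon
    obtain ⟨⟨q, hq, hq1, hq2⟩, ⟨p, hp, hp1, hp2⟩⟩ := hcon
    refine hsep p q r hp hq hr (dvd_card_of_dvd_sylow hp1) (dvd_card_of_dvd_sylow hq1) hp2 hq2 ?_
    have hpq : p ≠ q := fun h => hq2 (h ▸ hp2)
    exact Nat.Coprime.mul_dvd_of_dvd_of_dvd ((Nat.coprime_primes hp hq).2 hpq) hp1 hq1
  have hcross : ∀ r s : ℕ, r.Prime → s.Prime → r ∣ Nat.card G → s ∣ Nat.card G →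
      (∀ t, t.Prime → t ∣ Nat.card (Sylow r G) → t ∈ S) → (∀ t, t.Prime → t ∣ Nat.card (Sylow s G) → t ∉ S) →
      r ∣ Nat.card (Sylow s G) ∧ s ∣ Nat.card (Sylow r G) := by
    intro r s hr hs hrG hsG hA hB
    have := Fact.mk hr
    have := Fact.mk hs
    have hc : (Nat.card (Sylow r G)).Coprime (Nat.card (Sylow s G)) :=
      Nat.Coprime.symm (Nat.coprime_of_dvd fun t ht h1 h2 => hB t ht h1 (hA t ht h2))
    exact ⟨dvd_of_coprime hG hrG hsG hc, dvd_of_coprime hG hsG hrG hc.symm⟩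
  obtain ⟨p, hpS, hp, r0, hr0, hpr⟩ := hS
  obtain ⟨q, hqS, hq, s0, hs0, hqs⟩ := hT
  have := Fact.mk hr0
  have := Fact.mk hs0
  have hr0G : r0 ∣ Nat.card G := dvd_card_of_sylow hp hpr
  have hs0G : s0 ∣ Nat.card G := dvd_card_of_sylow hq hqs
  have hA0 : ∀ t, t.Prime → t ∣ Nat.card (Sylow r0 G) → t ∈ S :=
    (hdich r0 hr0).resolve_right fun h => h p hp hpr hpS
  have hB0 : ∀ t, t.Prime → t ∣ Nat.card (Sylow s0 G) → t ∉ S :=
    (hdich s0 hs0).resolve_left fun h => hqS (h q hq hqs)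
  have hA : ∀ r, r.Prime → r ∣ Nat.card G → (∀ t, t.Prime → t ∣ Nat.card (Sylow r G) → t ∈ S) → r ∉ S :=
    fun r hr hrG h => hB0 r hr (hcross r s0 hr hs0 hrG hs0G h hB0).1
  have hB : ∀ s, s.Prime → s ∣ Nat.card G → (∀ t, t.Prime → t ∣ Nat.card (Sylow s G) → t ∉ S) → s ∈ S :=
    fun s hs hsG h => hA0 s hs (hcross r0 s hr0 hs hr0G hsG hA0 h).2
  have hA' : ∀ r, r.Prime → r ∣ Nat.card G → r ∉ S → (∀ t, t.Prime → t ∣ Nat.card (Sylow r G) → t ∈ S) :=
    fun r hr hrG h => (hdich r hr).resolve_right fun h1 => h (hB r hr hrG h1)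
  have hB' : ∀ r, r.Prime → r ∣ Nat.card G → r ∈ S → (∀ t, t.Prime → t ∣ Nat.card (Sylow r G) → t ∉ S) :=
    fun r hr hrG h => (hdich r hr).resolve_left fun h1 => hA r hr hrG h1 h
  refine ⟨hsimp, hG, ⟨s0, hs0, hs0G, hB s0 hs0 hs0G hB0⟩, ⟨r0, hr0, hr0G, hA r0 hr0 hr0G hA0⟩, ?_⟩
  intro r t hr ht hrG htG
  by_cases h1 : r ∈ S
  · constructor
    · intro h2 h3
      exact hB' r hr hrG h1 t ht h2 (h3.1 h1)
    · intro h2
      have h3 : t ∉ S := fun h3 => h2 ⟨fun _ => h3, fun _ => h1⟩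
      exact (hcross t r ht hr htG hrG (hA' t ht htG h3) (hB' r hr hrG h1)).1
  · constructor
    · intro h2 h3
      exact h1 (h3.2 (hA' r hr hrG h1 t ht h2))
    · intro h2
      have h3 : t ∈ S := by
        by_contra h3
        exact h2 ⟨fun h => absurd h h1, fun h => absurd h h3⟩
      exact (hcross r t hr ht hrG htG (hA' r hr hrG h1) (hB' t ht htG h3)).2

namespace Cfg

variable {S : Set ℕ}

theorem symm (h : Cfg G S) : Cfg G Sᶜ := by
  refine ⟨h.simple, h.nonab, ?_, ?_, ?_⟩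
  · obtain ⟨p, hp, hd, hn⟩ := h.outS
    exact ⟨p, hp, hd, hn⟩
  · obtain ⟨p, hp, hd, hn⟩ := h.inS
    exact ⟨p, hp, hd, fun hc => hc hn⟩
  · intro r t hr ht hrG htG
    rw [h.key r t hr ht hrG htG, Set.mem_compl_iff, Set.mem_compl_iff]
    tauto

/-- transport by an isomorphism -/
theorem congr {H : Type*} [Group H] [Finite G] (e : G ≃* H) (h : Cfg G S) : Cfg H S := by
  have hc : Nat.card G = Nat.card H := Nat.card_congr e.toEquiv
  refine ⟨?_, ?_, ?_, ?_, ?_⟩
  · have := h.simple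
    exact (MulEquiv.isSimpleGroup_congr e).1 this
  · intro hcomm
    apply h.nonab
    refine ⟨⟨fun a b => ?_⟩⟩
    apply e.injective
    rw [map_mul, map_mul]
    exact hcomm.is_comm.comm _ _
  · rw [← hc]; exact h.inS
  · rw [← hc]; exact h.outS
  · intro r t hr ht hrG htG
    rw [← hc] at hrG htG
    have := Fact.mk hr
    have h1 : Nat.card (Sylow r G) = Nat.card (Sylow r H) := H482.SylowNumbers.card_sylow_congr r e
    rw [← h1]
    exact h.key r t hr ht hrG htG

/-- the prime divisors of `n_r` are on the other side -/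
theorem not_dvd [Finite G] (h : Cfg G S) {r t : ℕ} (hr : r.Prime) (ht : t.Prime) (hrG : r ∣ Nat.card G)
    (hs : r ∈ S ↔ t ∈ S) : ¬ t ∣ Nat.card (Sylow r G) := by
  have := Fact.mk hr
  intro h1
  exact (h.key r t hr ht hrG (dvd_card_of_dvd_sylow h1)).1 h1 hs

theorem opp_of_dvd [Finite G] (h : Cfg G S) {r t : ℕ} (hr : r.Prime) (ht : t.Prime)
    (h1 : t ∣ Nat.card (Sylow r G)) : ¬ (r ∈ S ↔ t ∈ S) := by
  have := Fact.mk hr
  exact (h.key r t hr ht (dvd_card_of_sylow ht h1) (dvd_card_of_dvd_sylow h1)).1 h1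

/-- `r`, `s` on the same side: some Sylow `s`-subgroup normalises the Sylow `r`-subgroup `R` -/
theorem exists_norm [Finite G] (h : Cfg G S) {r s : ℕ} [hr : Fact r.Prime] [hs : Fact s.Prime]
    (hrG : r ∣ Nat.card G) (hrs : r ∈ S ↔ s ∈ S) (R : Sylow r G) :
    ∃ Q : Sylow s G, (Q : Subgroup G) ≤ normalizer ((R : Subgroup G) : Set G) := by
  refine exists_sylow_le _ ?_
  rw [← card_eq_index R]
  exact h.not_dvd hr.out hs.out hrG hrs

/-- **(C)** a proper subgroup of index on the side of `r` and prime to `r` does not exist -/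
theorem kl [Finite G] (h : Cfg G S) {P : Subgroup G} (hP : P ≠ ⊤) {r : ℕ} (hr : r.Prime) (hrG : r ∣ Nat.card G)
    (hrP : ¬ r ∣ P.index) (hi : ∀ t : ℕ, t.Prime → t ∣ P.index → (t ∈ S ↔ r ∈ S)) : False := by
  have := h.simple
  have := Fact.mk hr
  refine hP (eq_top_of_coprime hrG P hrP (Nat.coprime_of_dvd fun t ht h1 h2 => ?_))
  exact h.opp_of_dvd hr ht h2 (hi t ht h1).symm

/-- a power of an element of `p`-power order has order `p` -/
theorem _root_.Cfsg.Agent.H948.Syn.exists_order {H : Subgroup G} {p : ℕ} (hp : p.Prime) (hH : IsPGroup p H) {x : G}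
    (hx : x ∈ H) (h1 : x ≠ 1) : ∃ k : ℕ, orderOf (x ^ k) = p := by
  obtain ⟨n, hn⟩ := hH ⟨x, hx⟩
  have hn' : x ^ p ^ n = 1 := congrArg Subtype.val hn
  obtain ⟨m, -, hm⟩ := (Nat.dvd_prime_pow hp).1 (orderOf_dvd_of_pow_eq_one hn')
  have hm0 : m ≠ 0 := by
    rintro rfl
    exact h1 (orderOf_eq_one_iff.1 (by rw [hm, pow_zero]))
  obtain ⟨l, rfl⟩ := Nat.exists_eq_succ_of_ne_zero hm0
  refine ⟨p ^ l, ?_⟩
  rw [orderOf_pow_of_dvd (pow_ne_zero _ hp.ne_zero) (by rw [hm]; exact pow_dvd_pow _ (Nat.le_succ l)), hm,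
    Nat.pow_div (Nat.le_succ l) hp.pos, Nat.succ_sub (le_refl l), Nat.sub_self, pow_one]

/-- a fixed-point-free action of a subgroup `Q` on `R` -/
theorem _root_.Cfsg.Agent.H948.Syn.card_lt_of_free [Finite G] {Q R : Subgroup G} (hR : R ≠ ⊥)
    (hn : Q ≤ normalizer (R : Set G)) (hf : ∀ x ∈ R, ∀ y ∈ Q, x ≠ 1 → x * y = y * x → y = 1) :
    Nat.card Q < Nat.card R := by
  obtain ⟨⟨x, hx⟩, hx1'⟩ := Subgroup.ne_bot_iff_exists_ne_one.1 hR
  have hx1 : x ≠ 1 := fun h => hx1' (Subtype.ext h)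
  let f : Q → {y : R // y ≠ 1} := fun q => ⟨⟨q * x * (q : G)⁻¹, (mem_normalizer_iff.1 (hn q.2) x).1 hx⟩, by
    intro h
    apply hx1
    have h2 : (q : G) * x * (q : G)⁻¹ = 1 := congrArg Subtype.val h
    calc x = (q : G)⁻¹ * (q * x * (q : G)⁻¹) * q := by group
      _ = 1 := by rw [h2]; group⟩
  have hfi : Function.Injective f := by
    intro a b hab
    have h2 : (a : G) * x * (a : G)⁻¹ = b * x * (b : G)⁻¹ :=
      congrArg (fun z : {y : R // y ≠ 1} => ((z : R) : G)) hab
    have h3 : x * ((b : G)⁻¹ * a) = ((b : G)⁻¹ * a) * x := by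
      calc x * ((b : G)⁻¹ * a) = (b : G)⁻¹ * (b * x * (b : G)⁻¹) * a := by group
        _ = (b : G)⁻¹ * (a * x * (a : G)⁻¹) * a := by rw [h2]
        _ = ((b : G)⁻¹ * a) * x := by group
    have h4 := hf x hx _ (Q.mul_mem (Q.inv_mem b.2) a.2) hx1 h3
    exact Subtype.ext (inv_mul_eq_one.1 h4).symm
  have h5 := Nat.card_le_card_of_injective f hfi
  have h6 : Nat.card {y : R // y ≠ 1} < Nat.card R := by
    have := Fintype.ofFinite R
    classical
    rw [Nat.card_eq_fintype_card, Nat.card_eq_fintype_card]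
    exact Fintype.card_subtype_lt (x := (1 : R)) (fun h => h rfl)
  exact h5.trans_lt h6

/-- **(CL)** distinct primes on the same side are adjacent in the prime graph -/
theorem adj [Finite G] (h : Cfg G S) {r s : ℕ} (hr : r.Prime) (hs : s.Prime) (hrG : r ∣ Nat.card G)
    (hsG : s ∣ Nat.card G) (hrs : r ∈ S ↔ s ∈ S) :
    ∃ x y : G, orderOf x = r ∧ orderOf y = s ∧ x * y = y * x := by
  have := Fact.mk hr
  have := Fact.mk hs
  by_contra hcon
  push Not at hcon
  have hfree : ∀ (R : Sylow r G) (Q : Sylow s G), ∀ x ∈ (R : Subgroup G), ∀ y ∈ (Q : Subgroup G), x ≠ 1 →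
      x * y = y * x → y = 1 := by
    intro R Q x hx y hy hx1 hxy
    by_contra hy1
    obtain ⟨k, hk⟩ := exists_order hr R.2 hx hx1
    obtain ⟨l, hl⟩ := exists_order hs Q.2 hy hy1
    exact hcon _ _ hk hl (Commute.pow_pow (show Commute x y from hxy) k l)
  have hcard : ∀ R R' : Sylow r G, Nat.card (R : Subgroup G) = Nat.card (R' : Subgroup G) := fun R R' => by
    rw [R.card_eq_multiplicity, R'.card_eq_multiplicity]
  have hcard' : ∀ R R' : Sylow s G, Nat.card (R : Subgroup G) = Nat.card (R' : Subgroup G) := fun R R' => by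
    rw [R.card_eq_multiplicity, R'.card_eq_multiplicity]
  obtain ⟨R⟩ : Nonempty (Sylow r G) := inferInstance
  obtain ⟨Q, hQ⟩ := h.exists_norm hrG hrs R
  obtain ⟨R', hR'⟩ := h.exists_norm hsG hrs.symm Q
  have h1 := card_lt_of_free (R.ne_bot_of_dvd_card hrG) hQ fun x hx y hy => hfree R Q x hx y hy
  have h2 : Nat.card (R' : Subgroup G) < Nat.card (Q : Subgroup G) :=
    card_lt_of_free (Q.ne_bot_of_dvd_card hsG) hR' fun x hx y hy hx1 hxy => by
      by_contra hy1
      exact hx1 (hfree R' Q y hy x hx hy1 hxy.symm)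
  rw [hcard R' R] at h2
  omega

/-- nonadjacent primes are on different sides -/
theorem opp_of_not_adj [Finite G] (h : Cfg G S) {r s : ℕ} (hr : r.Prime) (hs : s.Prime) (hrG : r ∣ Nat.card G)
    (hsG : s ∣ Nat.card G) (hn : ∀ x y : G, orderOf x = r → orderOf y = s → x * y ≠ y * x) :
    ¬ (r ∈ S ↔ s ∈ S) := by
  intro hrs
  obtain ⟨x, y, hx, hy, hxy⟩ := h.adj hr hs hrG hsG hrs
  exact hn x y hx hy hxy

/-- if all the other primes are opposite to `p` then `n_r` is a power of `p` -/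
theorem eq_pow [Finite G] (h : Cfg G S) {p : ℕ}
    (hopp : ∀ t : ℕ, t.Prime → t ∣ Nat.card G → t ≠ p → ¬ (t ∈ S ↔ p ∈ S)) {r : ℕ} (hr : r.Prime)
    (hrG : r ∣ Nat.card G) (hrp : r ≠ p) : ∃ a : ℕ, 1 ≤ a ∧ Nat.card (Sylow r G) = p ^ a := by
  have := Fact.mk hr
  have hsimp := h.simple
  have h1 : ∀ t : ℕ, t.Prime → t ∣ Nat.card (Sylow r G) → t = p := by
    intro t ht htn
    by_contra htp
    have h2 := h.opp_of_dvd hr ht htn
    have h3 := hopp t ht (dvd_card_of_dvd_sylow htn) htp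
    have h4 := hopp r hr hrG hrp
    tauto
  have h5 : Nat.card (Sylow r G) ≠ 0 := Nat.card_pos.ne'
  have h6 := Nat.eq_prime_pow_of_unique_prime_dvd h5 (fun {d} hd hdn => h1 d hd hdn)
  refine ⟨_, ?_, h6⟩
  by_contra h7
  have h8 : (Nat.card (Sylow r G)).primeFactorsList.length = 0 := by omega
  rw [h8, pow_zero] at h6
  exact card_sylow_ne_one h.nonab hrG h6

/-- the number of Sylow `r`-subgroups is `1 mod r` -/
theorem mod_eq [Finite G] {r : ℕ} [hr : Fact r.Prime] : Nat.card (Sylow r G) % r = 1 := by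
  have h1 := card_sylow_modEq_one r G
  rw [Nat.ModEq, Nat.mod_eq_of_lt hr.out.one_lt] at h1
  exact h1

theorem card_sylow_dvd [Finite G] {r : ℕ} [Fact r.Prime] : Nat.card (Sylow r G) ∣ Nat.card G := by
  obtain ⟨P⟩ : Nonempty (Sylow r G) := inferInstance
  exact P.card_dvd_index.trans (Subgroup.index_dvd_card _)

/-- two primes opposite to `p` and not adjacent -/
theorem false_of_two [Finite G] (h : Cfg G S) {p r s : ℕ} (hr : r.Prime) (hs : s.Prime) (hrG : r ∣ Nat.card G)
    (hsG : s ∣ Nat.card G) (h1 : ¬ (r ∈ S ↔ p ∈ S)) (h2 : ¬ (s ∈ S ↔ p ∈ S))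
    (hn : ∀ x y : G, orderOf x = r → orderOf y = s → x * y ≠ y * x) : False := by
  have h3 := h.opp_of_not_adj hr hs hrG hsG hn
  tauto

end Cfg

end Cfsg.Agent.H948.Syn
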