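import Cfsg.Agent.H948.SynSpor
import Cfsg.Agent.H393.SpJ2
import Cfsg.Agent.H393.SpHe
import Cfsg.Agent.KFacts.J2.Facts
import Cfsg.Agent.QTNorm.Main
import Cfsg.Agent.QTNorm.SporM12
import Cfsg.Agent.QTNorm.SporRu
import Cfsg.Agent.QTNorm.SporJ4
import Cfsg.Agent.NotCT.Orders

/-!
# S4286: `M11`, `M12`, `J2`, `He`, `Ru` and the Tits group (helper948)
-/

set_option autoImplicit false

namespace Cfsg.Agent.H948.SynSpor

open Subgroup Cfsg Cfsg.Agent.H948.Syn
open Cfsg.Agent.J2Type.Model Cfsg.Agent.J3Type.OneClass Cfsg.Agent.KFacts.J2.Basic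

universe u

variable {G : Type u} [Group G] {S : Set ℕ}

theorem m11 [Finite G] (h : Cfg G S) (hG : Spor.IsoM11 G) : False :=
  false_of_selfN h (QTNorm.selfN_m11 hG) (a := 4) (B := 495) (r := 11) (by rw [NotCT.Orders.m11 hG]; norm_num)
    (by norm_num) (by norm_num) (by norm_num) (by norm_num) (by decide +kernel)

theorem m12 [Finite G] (h : Cfg G S) (hG : Spor.IsoM12 G) : False :=
  false_of_selfN h (QTNorm.selfN_m12 hG) (a := 6) (B := 1485) (r := 11) (by rw [NotCT.Orders.m12 hG]; norm_num)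
    (by norm_num) (by norm_num) (by norm_num) (by norm_num) (by decide +kernel)

theorem ru [Finite G] (h : Cfg G S) (hG : Spor.IsoRu G) : False :=
  false_of_selfN h (QTNorm.RuRow.selfN_ru hG) (a := 14) (B := 8906625) (r := 29)
    (by rw [NotCT.Orders.ru hG]; norm_num) (by norm_num) (by norm_num) (by norm_num) (by norm_num) (by decide +kernel)

theorem he [Finite G] (h : Cfg G S) (hG : Spor.IsoHe G) : False := by
  have hc := NotCT.Orders.he hG
  have hN := QTNorm.selfN_he hG
  have := Fact.mk Nat.prime_two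
  obtain ⟨T⟩ : Nonempty (Sylow 2 G) := inferInstance
  have h2 : 2 ∣ Nat.card G := by rw [hc]; norm_num
  have h3 := opp_of_selfN h Nat.prime_two h2 T (hN T) Nat.prime_three (by norm_num) (by rw [hc]; norm_num)
  have h17 := opp_of_selfN h Nat.prime_two h2 T (hN T) (t := 17) (by norm_num) (by norm_num) (by rw [hc]; norm_num)
  obtain ⟨e⟩ := hG
  refine h.false_of_two (p := 2) (r := 17) (s := 3) (by norm_num) (by norm_num) (by rw [hc]; norm_num)
    (by rw [hc]; norm_num) h17 h3 fun x y hx hy hxy => ?_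
  exact H393.Sp.He.no_comm (e x) (e y) (by rw [MulEquiv.orderOf_eq, hx]) (by rw [MulEquiv.orderOf_eq, hy])
    (by rw [← map_mul, hxy, map_mul])

/-- the model of `2^{1+4}_-.A₅` -/
theorem hZ_of_model [Finite G] {z : G} {Q : Subgroup (centralizer ({z} : Set G))}
    {v : Fin 5 → centralizer ({z} : Set G)} {ρ : centralizer ({z} : Set G) →* SP} (M : IsModel Q (zc z) v ρ) :
    ∀ T : Sylow 2 G, z ∈ (T : Subgroup G) → (∀ x ∈ (T : Subgroup G), x * z = z * x) →
      ∀ y ∈ (T : Subgroup G), (∀ x ∈ (T : Subgroup G), x * y = y * x) → y = 1 ∨ y = z := by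
  have hC : ∀ {g : G}, g * z = z * g → g ∈ centralizer ({z} : Set G) := fun h => mem_centralizer_singleton_iff.2 h
  refine hZ_of (Q.map (centralizer ({z} : Set G)).subtype) ?_ ?_ ?_
  · refine IsPGroup.map ?_ _
    intro q
    refine ⟨2, Subtype.ext ?_⟩
    have h1 : (ρ (q : centralizer ({z} : Set G))).σ = 1 := (M.mem_Q _).1 q.2
    have h2 : ρ ((q : centralizer ({z} : Set G)) * q) = 1 := by
      rw [map_mul]
      apply SP.ext
      · rw [mul_σ, h1, mul_one, one_σ]
      · funext i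
        rw [mul_s, h1, one_s]
        exact CharTwo.add_self_eq_zero _
    have h3 : (q : centralizer ({z} : Set G)) ^ 2 = 1 ∨ (q : centralizer ({z} : Set G)) ^ 2 = zc z := by
      rw [pow_two]; exact (M.ker _).1 h2
    show ((q : centralizer ({z} : Set G)) ^ 2 ^ 2) = 1
    rw [show (2 : ℕ) ^ 2 = 2 * 2 by norm_num, pow_mul]
    rcases h3 with h | h
    · rw [h, one_pow]
    · rw [h, pow_two]; exact M.z_sq
  · rintro g hg _ ⟨x, hx, rfl⟩
    refine ⟨⟨g, hC hg⟩ * x * ⟨g, hC hg⟩⁻¹, ?_, rfl⟩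
    show _ ∈ Q
    rw [M.mem_Q, map_mul, map_mul, mul_σ, mul_σ, (M.mem_Q _).1 hx, mul_one, ← mul_σ, ← map_mul, mul_inv_cancel,
      map_one, one_σ]
  · intro y hy hyQ
    set c : centralizer ({z} : Set G) := ⟨y, hC hy⟩ with hc
    have h1 : ∀ i, 0 = (ρ c).s i ∧ i = (ρ c).σ i := by
      intro i
      have e : c * v i = v i * c := Subtype.ext (hyQ _ ⟨v i, M.v_mem i, rfl⟩)
      have e2 := M.conj c i
      rw [e, mul_inv_cancel_right] at e2
      refine M.v_inj 0 _ i _ ?_
      rw [zp_zero, one_mul]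
      exact e2
    have h2 : ρ c = 1 := by
      apply SP.ext
      · ext i
        rw [← (h1 i).2]; rfl
      · funext i
        exact (h1 i).1.symm
    rcases (M.ker c).1 h2 with h | h
    · left
      exact congrArg Subtype.val h
    · right
      exact congrArg Subtype.val h

theorem j2 [Finite G] (h : Cfg G S) (hG : Spor.IsoJ2 G) : False := by
  have hc := NotCT.Orders.j2 hG
  obtain ⟨t, u, Q, v, ρ, D⟩ := KFacts.J2.Facts.exists_dat_of hG
  have ht1 : t ≠ 1 := fun e => D.M.z_ne (Subtype.ext e)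
  have ht2 : t * t = 1 := congrArg Subtype.val D.M.z_sq
  have hZ := hZ_of_model D.M
  have h5 := opp_of_cent h ht1 ht2 hZ D.cardC (a := 7) (by norm_num) (by rw [hc]; norm_num) (t := 5) (k := 2)
    (by norm_num) (by rw [hc]; norm_num) (by norm_num)
  have h7 := opp_of_cent h ht1 ht2 hZ D.cardC (a := 7) (by norm_num) (by rw [hc]; norm_num) (t := 7) (k := 1)
    (by norm_num) (by rw [hc]; norm_num) (by norm_num)
  obtain ⟨e⟩ := hG
  refine h.false_of_two (p := 2) (r := 7) (s := 5) (by norm_num) (by norm_num) (by rw [hc]; norm_num)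
    (by rw [hc]; norm_num) h7 h5 fun x y hx hy hxy => ?_
  exact H393.Sp.j2_no_comm (e x) (e y) (by rw [MulEquiv.orderOf_eq, hx]) (by rw [MulEquiv.orderOf_eq, hy])
    (by rw [← map_mul, hxy, map_mul])

theorem tits [Finite G] (h : Cfg G S) (hG : Lie.IsoTits G) : False := by
  have hc := NotCT.Orders.tits hG
  obtain ⟨e⟩ := id hG
  have hfin : Finite Lie.TitsGroup := Finite.of_equiv G e.toEquiv
  have hc' : Nat.card Lie.TitsGroup = 17971200 := by rw [← hc, Nat.card_congr e.toEquiv]
  have h' : Cfg Lie.TitsGroup S := @Cfg.congr G _ S Lie.TitsGroup inferInstance _ e h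
  exact false_of_selfN (G := Lie.TitsGroup) h' QTNorm.self_tits (a := 11) (B := 8775) (r := 13)
    (hc'.trans (by norm_num)) (by norm_num) (by norm_num) (by norm_num) (by norm_num) (by decide +kernel)

end Cfsg.Agent.H948.SynSpor
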