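import Cfsg.Agent.H948.SynSpA
import Cfsg.Agent.H149.Sp.Conway
import Cfsg.Agent.H149.Sp.Small
import Cfsg.Agent.H163.PG.Fi22
import Cfsg.Agent.H163.PG.Fi23
import Cfsg.Agent.H163.PG.Fi24

/-!
# S4286: the sporadic groups, up to `HN`, `Th`, `B`, `M` (helper948)
-/

set_option autoImplicit false

namespace Cfsg.Agent.H948.SynSpor

open Subgroup Cfsg Cfsg.Agent.H948.Syn Cfsg.Agent.H149.Sp Cfsg.Agent.H163.PG

universe u

variable {G : Type u} [Group G] {S : Set ℕ}

theorem sporadic [Finite G] (h : Cfg G S) (hs : IsSporadicGroup G) (hHN : ¬ Spor.IsoHN G) (hTh : ¬ Spor.IsoTh G)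
    (hB : ¬ Spor.IsoB G) (hM : ¬ Spor.IsoM G) : False := by
  have hsimp := h.simple
  have hs' := hs
  rcases hs' with g | g | g | g | g | g | g | g | g | g | g | g | g | g | g | g | g | g | g | g | g | g | g | g | g | g
  · exact m11 h g
  · exact m12 h g
  · exact h.false_of_has3Out (has3Out_m22 g hs)
  · exact h.false_of_has3Out (has3Out_m23 g hs)
  · exact h.false_of_has3Out (has3Out_m24 g hs)
  · exact h.false_of_has3Out (has3Out_j1 g hs)
  · exact j2 h g
  · exact h.false_of_has3Out (has3Out_j3 g hs)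
  · exact h.false_of_has3Out (has3Out_j4 g hs)
  · exact h.false_of_has3Out (has3Out_co1 g hs)
  · exact h.false_of_has3Out (has3Out_co2 g hs)
  · exact h.false_of_has3Out (has3Out_co3 g hs)
  · exact h.false_of_has3Out (has3Out_mcl g hs)
  · exact h.false_of_has3Out (has3Out_hs g hs)
  · exact h.false_of_has3Out (has3Out_suz g hs)
  · exact he h g
  · exact ru h g
  · exact h.false_of_has3Out (has3Out_on g hs)
  · exact h.false_of_has3Out (has3Out_ly g hs)
  · exact h.false_of_has3Out (fi22_has3Out g)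
  · exact h.false_of_has3Out (fi23_has3Out g)
  · exact h.false_of_has3Out (fi24_has3Out g)
  · exact hHN g
  · exact hTh g
  · exact hB g
  · exact hM g

end Cfsg.Agent.H948.SynSpor
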