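import Cfsg.Agent.H948.SynThree

/-!
# S4286: tools for the sporadic groups (helper948)

* `opp_of_norm`  : `N(T) ≤ M`, `T` a Sylow 2-subgroup, `t ^ k` divides `|G|` and not `|M|`: `t` is opposite to `2`;
* `norm_le_cent` : `N(T) ≤ C(z)` if `Z(T) = {1, z}`;
* `hZ_of`        : `Z(T) = {1, z}` from a normal 2-subgroup of `C(z)` with centralizer `{1, z}`;
* `false_of_num` : the number of Sylow `r`-subgroups divides a number without divisors `d ≡ 1 (mod r)`, `d ≠ 1`.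
-/

set_option autoImplicit false

namespace Cfsg.Agent.H948.SynSpor

open Subgroup Cfsg.Agent.H948.Syn
open Cfsg.Agent.H163.PG (Adj Has3 Has3Out)

universe u

variable {G : Type u} [Group G]

theorem opp_of_norm [Finite G] {S : Set ℕ} (h : Cfg G S) {p : ℕ} (hp : p.Prime) (hpG : p ∣ Nat.card G)
    (T : Sylow p G) {M : Subgroup G} (hN : normalizer ((T : Subgroup G) : Set G) ≤ M) {t k : ℕ} (ht : t.Prime)
    (hk : t ^ k ∣ Nat.card G) (hM : ¬ t ^ k ∣ Nat.card M) : ¬ (t ∈ S ↔ p ∈ S) := by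
  have := Fact.mk hp
  have := Fact.mk ht
  intro hs
  obtain ⟨Q, hQ⟩ := h.exists_norm (s := t) hpG hs.symm T
  refine hM (Dvd.dvd.trans ?_ (card_dvd_of_le (hQ.trans hN)))
  rw [Q.card_eq_multiplicity]
  exact pow_dvd_pow t ((ht.pow_dvd_iff_le_factorization Nat.card_pos.ne').1 hk)

/-- self-normalising Sylow `p`-subgroups -/
theorem opp_of_selfN [Finite G] {S : Set ℕ} (h : Cfg G S) {p : ℕ} (hp : p.Prime) (hpG : p ∣ Nat.card G)
    (T : Sylow p G) (hN : normalizer ((T : Subgroup G) : Set G) ≤ T) {t : ℕ} (ht : t.Prime)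
    (htp : t ≠ p) (htG : t ∣ Nat.card G) : ¬ (t ∈ S ↔ p ∈ S) := by
  have := Fact.mk hp
  refine opp_of_norm h hp hpG T hN (k := 1) ht (by rwa [pow_one]) ?_
  rw [pow_one]
  intro h1
  obtain ⟨n, hn⟩ := IsPGroup.iff_card.1 T.2
  rw [hn] at h1
  exact htp ((Nat.prime_dvd_prime_iff_eq ht hp).1 (ht.dvd_of_dvd_pow h1))

theorem norm_le_cent {p : ℕ} {T : Subgroup G} {z : G} (hz : z ∈ T) (hz1 : z ≠ 1)
    (hc : ∀ x ∈ T, x * z = z * x) (hZ : ∀ y ∈ T, (∀ x ∈ T, x * y = y * x) → y = 1 ∨ y = z) :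
    normalizer (T : Set G) ≤ centralizer ({z} : Set G) := by
  intro g hg
  rw [mem_centralizer_singleton_iff]
  have h1 : g * z * g⁻¹ ∈ T := (mem_normalizer_iff.1 hg z).1 hz
  rcases hZ _ h1 (fun x hx => by
    have h2 : g⁻¹ * x * g ∈ T := (mem_normalizer_iff''.1 hg x).1 hx
    have h3 := hc _ h2
    calc x * (g * z * g⁻¹) = g * ((g⁻¹ * x * g) * z) * g⁻¹ := by group
      _ = g * (z * (g⁻¹ * x * g)) * g⁻¹ := by rw [h3]
      _ = g * z * g⁻¹ * x := by group) with h4 | h4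
  · exfalso
    apply hz1
    have : z = g⁻¹ * (g * z * g⁻¹) * g := by group
    rw [this, h4]; group
  · calc g * z = g * z * g⁻¹ * g := by group
      _ = z * g := by rw [h4]

/-- `Z(T) = {1, z}` if `C(z)` normalises a 2-subgroup whose centralizer in `C(z)` is `{1, z}` -/
theorem hZ_of [Finite G] {z : G} (Q : Subgroup G) (hQ : IsPGroup 2 Q)
    (hn : ∀ g, g * z = z * g → ∀ q ∈ Q, g * q * g⁻¹ ∈ Q)
    (hc : ∀ y, y * z = z * y → (∀ q ∈ Q, y * q = q * y) → y = 1 ∨ y = z) :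
    ∀ T : Sylow 2 G, z ∈ (T : Subgroup G) → (∀ x ∈ (T : Subgroup G), x * z = z * x) →
      ∀ y ∈ (T : Subgroup G), (∀ x ∈ (T : Subgroup G), x * y = y * x) → y = 1 ∨ y = z := by
  intro T _ hTz y hy hyc
  have h1 : (T : Subgroup G) ≤ normalizer (Q : Set G) := by
    intro g hg
    rw [mem_normalizer_iff]
    intro x
    constructor
    · exact hn g (hTz g hg) x
    · intro hx
      have h2 := hn g⁻¹ (hTz _ ((T : Subgroup G).inv_mem hg)) _ hx
      have e : g⁻¹ * (g * x * g⁻¹) * g⁻¹⁻¹ = x := by group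
      rwa [e] at h2
  have h2 : IsPGroup 2 ((T : Subgroup G) ⊔ Q : Subgroup G) := IsPGroup.to_sup_of_normal_right' T.2 hQ h1
  have h3 := T.is_maximal' h2 le_sup_left
  have h4 : Q ≤ (T : Subgroup G) := h3 ▸ (le_sup_right : Q ≤ _)
  exact hc y (hTz y hy) fun q hq => (hyc q (h4 hq)).symm

/-- numerical elimination -/
theorem false_of_num [Finite G] {S : Set ℕ} (h : Cfg G S) {r : ℕ} (hr : r.Prime) {A B : ℕ}
    (hAB : Nat.card G = A * B) (hrB : r ∣ B) (hB : ∀ t, t.Prime → t ∣ B → (t ∈ S ↔ r ∈ S))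
    (hA : ∀ d, d ∣ A → d % r = 1 → d = 1) : False := by
  have := Fact.mk hr
  have := h.simple
  have hrG : r ∣ Nat.card G := by rw [hAB]; exact hrB.mul_left A
  have h1 : (Nat.card (Sylow r G)).Coprime B := by
    refine Nat.coprime_of_dvd fun t ht h2 h3 => ?_
    exact h.opp_of_dvd hr ht h2 (hB t ht h3).symm
  have h2 : Nat.card (Sylow r G) ∣ A := by
    refine h1.dvd_of_dvd_mul_right ?_
    rw [← hAB]
    exact Cfg.card_sylow_dvd
  exact card_sylow_ne_one h.nonab hrG (hA _ h2 Cfg.mod_eq)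

theorem num_pow {p a r : ℕ} (hp : p.Prime) (h : ∀ i ≤ a, p ^ i % r = 1 → i = 0) :
    ∀ d, d ∣ p ^ a → d % r = 1 → d = 1 := by
  intro d hd h1
  obtain ⟨i, hi, rfl⟩ := (Nat.dvd_prime_pow hp).1 hd
  rw [h i hi h1, pow_zero]

theorem num_pow_mul {p q a b r : ℕ} (hp : p.Prime) (hq : q.Prime)
    (h : ∀ i ≤ a, ∀ j ≤ b, p ^ i * q ^ j % r = 1 → i = 0 ∧ j = 0) :
    ∀ d, d ∣ p ^ a * q ^ b → d % r = 1 → d = 1 := by
  intro d hd h1
  obtain ⟨x, y, hx, hy, rfl⟩ := exists_dvd_and_dvd_of_dvd_mul hd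
  obtain ⟨i, hi, rfl⟩ := (Nat.dvd_prime_pow hp).1 hx
  obtain ⟨j, hj, rfl⟩ := (Nat.dvd_prime_pow hq).1 hy
  obtain ⟨rfl, rfl⟩ := h i hi j hj h1
  simp

/-- all primes of a list are opposite to `2`, and `|G| = A * B` with `B` a product of such primes -/
theorem false_of_list [Finite G] {S : Set ℕ} (h : Cfg G S) {L : List ℕ} (hL : ∀ t ∈ L, t.Prime)
    (hopp : ∀ t ∈ L, ¬ (t ∈ S ↔ 2 ∈ S)) {A B k : ℕ} (hAB : Nat.card G = A * B) (hB : B ∣ L.prod ^ k) {r : ℕ}
    (hr : r ∈ L) (hrB : r ∣ B) (hA : ∀ d, d ∣ A → d % r = 1 → d = 1) : False := by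
  refine false_of_num h (hL r hr) hAB hrB (fun t ht htB => ?_) hA
  have h1 : t ∣ L.prod := ht.dvd_of_dvd_pow (htB.trans hB)
  obtain ⟨l, hl, htl⟩ := (Nat.Prime.prime ht).dvd_prod_iff.1 h1
  have h2 : t = l := (Nat.prime_dvd_prime_iff_eq ht (hL l hl)).1 htl
  subst h2
  have h3 := hopp t hl
  have h4 := hopp r hr
  tauto

/-- a group with self-normalising Sylow 2-subgroups -/
theorem false_of_selfN [Finite G] {S : Set ℕ} (h : Cfg G S) (hN : ∀ T : Sylow 2 G,
    normalizer ((T : Subgroup G) : Set G) ≤ T) {a B r : ℕ} (hG : Nat.card G = 2 ^ a * B) (ha : a ≠ 0) (hB : ¬ 2 ∣ B)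
    (hr : r.Prime) (hrB : r ∣ B) (hnum : ∀ i ≤ a, 2 ^ i % r = 1 → i = 0) : False := by
  have := Fact.mk Nat.prime_two
  obtain ⟨T⟩ : Nonempty (Sylow 2 G) := inferInstance
  have h2G : 2 ∣ Nat.card G := by rw [hG]; exact (dvd_pow_self 2 ha).mul_right B
  have key : ∀ t : ℕ, t.Prime → t ∣ B → ¬ (t ∈ S ↔ 2 ∈ S) := by
    intro t ht htB
    refine opp_of_selfN h Nat.prime_two h2G T (hN T) ht ?_ (by rw [hG]; exact htB.mul_left _)
    rintro rfl
    exact hB htB
  refine false_of_num h hr hG hrB (fun t ht htB => ?_) (num_pow Nat.prime_two hnum)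
  have h3 := key t ht htB
  have h4 := key r hr hrB
  tauto

/-- a `2`-central involution with `Z(T) = {1, z}`: the odd primes with `t ^ k ∣ |G|`, `t ^ k ∤ |C(z)|` are opposite to
`2` -/
theorem opp_of_cent [Finite G] {S : Set ℕ} (h : Cfg G S) {z : G} (hz1 : z ≠ 1) (hz : z * z = 1)
    (hZ : ∀ T : Sylow 2 G, z ∈ (T : Subgroup G) → (∀ x ∈ (T : Subgroup G), x * z = z * x) →
      ∀ y ∈ (T : Subgroup G), (∀ x ∈ (T : Subgroup G), x * y = y * x) → y = 1 ∨ y = z)
    {c a : ℕ} (hc : Nat.card (centralizer ({z} : Set G)) = c) (h2c : 2 ^ a ∣ c) (h2G : ¬ 2 ^ (a + 1) ∣ Nat.card G)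
    {t k : ℕ} (ht : t.Prime) (hk : t ^ k ∣ Nat.card G) (hM : ¬ t ^ k ∣ c) : ¬ (t ∈ S ↔ 2 ∈ S) := by
  have := Fact.mk Nat.prime_two
  have hoz : orderOf z = 2 := orderOf_eq_prime (by rw [pow_two]; exact hz) hz1
  have h2 : 2 ∣ Nat.card G := hoz ▸ orderOf_dvd_natCard z
  -- a Sylow `2`-subgroup of `C(z)`
  obtain ⟨Q⟩ : Nonempty (Sylow 2 (centralizer ({z} : Set G))) := inferInstance
  obtain ⟨T, hT⟩ := (Q.2.map (centralizer ({z} : Set G)).subtype).exists_le_sylow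
  have hcQ : Nat.card (Q : Subgroup (centralizer ({z} : Set G))) =
      Nat.card ((Q : Subgroup (centralizer ({z} : Set G))).map (centralizer ({z} : Set G)).subtype) :=
    (Nat.card_congr (Subgroup.equivMapOfInjective _ _ (Subgroup.subtype_injective _)).toEquiv)
  have h3 : 2 ^ a ∣ Nat.card (Q : Subgroup (centralizer ({z} : Set G))) := by
    rw [Q.card_eq_multiplicity]
    refine pow_dvd_pow 2 ((Nat.prime_two.pow_dvd_iff_le_factorization Nat.card_pos.ne').1 ?_)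
    rw [hc]; exact h2c
  have h4 : (T : Subgroup G) ≤ (Q : Subgroup (centralizer ({z} : Set G))).map (centralizer ({z} : Set G)).subtype := by
    have h5 : Nat.card (T : Subgroup G) ≤ 2 ^ a := by
      obtain ⟨n, hn⟩ := IsPGroup.iff_card.1 T.2
      rw [hn]
      refine Nat.pow_le_pow_right two_pos ?_
      by_contra hcon
      apply h2G
      have : 2 ^ n ∣ Nat.card G := hn ▸ Subgroup.card_subgroup_dvd_card (T : Subgroup G)
      exact (pow_dvd_pow 2 (by omega)).trans this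
    have h6 := eq_of_le_of_card_ge hT (by
      rw [← hcQ]
      exact h5.trans (Nat.le_of_dvd Nat.card_pos h3))
    exact h6.ge
  have hTc : ∀ x ∈ (T : Subgroup G), x * z = z * x := by
    intro x hx
    obtain ⟨y, -, rfl⟩ := h4 hx
    exact mem_centralizer_singleton_iff.1 y.2
  have hzT : z ∈ (T : Subgroup G) := by
    have h5 : IsPGroup 2 (zpowers z) := IsPGroup.of_card (n := 1) (by rw [Nat.card_zpowers, hoz, pow_one])
    have h6 : zpowers z ≤ normalizer ((T : Subgroup G) : Set G) := by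
      rw [zpowers_le, mem_normalizer_iff]
      intro x
      have key : ∀ y ∈ (T : Subgroup G), z * y * z⁻¹ = y := fun y hy => by
        rw [← hTc y hy, mul_inv_cancel_right]
      constructor
      · intro hx
        rwa [key x hx]
      · intro hx
        have e : x = z⁻¹ * (z * x * z⁻¹) * z := by group
        have e2 : z⁻¹ * (z * x * z⁻¹) * z = z * x * z⁻¹ := by
          rw [mul_assoc, hTc _ hx]; group
        rw [e, e2]
        exact hx
    have h7 : IsPGroup 2 ((T : Subgroup G) ⊔ zpowers z : Subgroup G) :=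
      IsPGroup.to_sup_of_normal_left' T.2 h5 h6
    have h8 := T.is_maximal' h7 le_sup_left
    exact h8 ▸ (le_sup_right : zpowers z ≤ _) (mem_zpowers z)
  exact opp_of_norm h Nat.prime_two h2 T (norm_le_cent (p := 2) hzT hz1 hTc (hZ T hzT hTc)) ht hk (by rw [hc]; exact hM)

end Cfsg.Agent.H948.SynSpor
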