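import Cfsg.Agent.H948.SynRed
import Cfsg.Agent.H163.PG.Base

/-!
# S4286: three pairwise non-adjacent primes (helper948)

Two primes on the same side are adjacent in the prime graph, so a group with three pairwise non-adjacent primes
is dead.
-/

set_option autoImplicit false

namespace Cfsg.Agent.H948.Syn

open Cfsg.Agent.H163.PG (Adj Has3 Has3Out)

universe u

variable {G : Type u} [Group G]

/-- non-adjacent primes are on opposite sides -/
theorem Cfg.opp_of_not_adj' [Finite G] {S : Set ℕ} (h : Cfg G S) {r s : ℕ} (hr : r.Prime) (hs : s.Prime) (hrs : r ≠ s)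
    (hrG : r ∣ Nat.card G) (hsG : s ∣ Nat.card G) (hn : ¬ Adj G r s) : ¬ (r ∈ S ↔ s ∈ S) :=
  h.opp_of_not_adj hr hs hrG hsG fun _ _ hx hy hxy => hn (H163.PG.adj_of_commute hr hs hrs hx hy hxy)

/-- **a group with three pairwise non-adjacent primes is dead** -/
theorem Cfg.false_of_has3 [Finite G] {S : Set ℕ} (h : Cfg G S) (h3 : Has3 G) : False := by
  obtain ⟨p, q, r, hp, hq, hr, hpq, hqr, hpr, hpG, hqG, hrG, n1, n2, n3⟩ := h3
  have h1 := h.opp_of_not_adj' hp hq hpq hpG hqG n1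
  have h2 := h.opp_of_not_adj' hq hr hqr hqG hrG n2
  have h3 := h.opp_of_not_adj' hp hr hpr hpG hrG n3
  tauto

theorem Cfg.false_of_has3Out [Finite G] {S : Set ℕ} (h : Cfg G S) (h3 : Has3Out G) : False := by
  obtain ⟨p, q, r, hp, hq, hr, hpq, hqr, hpr, hpG, hqG, hrG, n1, n2, n3, -⟩ := h3
  exact h.false_of_has3 ⟨p, q, r, hp, hq, hr, hpq, hqr, hpr, hpG, hqG, hrG, n1, n2, n3⟩

end Cfsg.Agent.H948.Syn
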